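import Mathlib
import Cfsg.Prelude.Def_Solvable
import Cfsg.Prelude.Def_Transfer

/-!
Basic API for `Cfsg.pCore` (`O_p`), `Cfsg.pPrimeCore` (`O_{p'}`) and `Cfsg.pResidual` (`O^p`).
-/

set_option autoImplicit false
set_option linter.unusedVariables false
set_option linter.style.haveILetI false

namespace Cfsg.Agent.Thompson

open Cfsg

section Aux

variable {G : Type*} [Group G]

/-- `M.card * N.card` is divisible by the order of `M ⊔ N` when `N` is normal. -/
theorem card_sup_dvd_mul (M N : Subgroup G) [N.Normal] :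
    Nat.card ↥(M ⊔ N) ∣ Nat.card M * Nat.card N := by
  have h2 : Nat.card N * N.relIndex (M ⊔ N) = Nat.card ↥(M ⊔ N) := by
    rw [mul_comm, ← Subgroup.relIndex_bot_left, ← Subgroup.relIndex_bot_left, mul_comm,
      Subgroup.relIndex_mul_relIndex _ _ _ bot_le le_sup_right]
  rw [← h2, Subgroup.relIndex_sup_right, mul_comm (Nat.card M)]
  exact mul_dvd_mul_left _ (Subgroup.relIndex_dvd_card N M)

/-- The supremum of a family of normal subgroups is normal. -/
theorem sSup_normal {S : Set (Subgroup G)} (h : ∀ N ∈ S, N.Normal) : (sSup S).Normal := by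
  constructor
  intro x hx g
  have : sSup S ≤ (sSup S).comap (MulAut.conj g).toMonoidHom := by
    refine sSup_le fun N hN y hy => ?_
    exact (le_sSup hN : N ≤ sSup S) ((h N hN).conj_mem y hy g)
  exact this hx

/-- A family closed under isomorphisms has its supremum mapped to the supremum. -/
theorem map_sSup_eq {G' : Type*} [Group G'] (f : G ≃* G') {S : Set (Subgroup G)}
    {T : Set (Subgroup G')} (h1 : ∀ N ∈ S, N.map f.toMonoidHom ∈ T)
    (h2 : ∀ N ∈ T, N.map f.symm.toMonoidHom ∈ S) : (sSup S).map f.toMonoidHom = sSup T := by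
  apply le_antisymm
  · rw [Subgroup.map_le_iff_le_comap]
    refine sSup_le fun N hN => ?_
    rw [← Subgroup.map_le_iff_le_comap]
    exact le_sSup (h1 N hN)
  · refine sSup_le fun N hN y hy => ?_
    refine ⟨f.symm y, ?_, f.apply_symm_apply y⟩
    exact (le_sSup (h2 N hN) : N.map f.symm.toMonoidHom ≤ sSup S) ⟨y, hy, rfl⟩

/-- A characteristic subgroup of a normal subgroup is normal in the big group. -/
theorem map_subtype_normal_of_characteristic (H : Subgroup G) [H.Normal] (K : Subgroup H)
    [K.Characteristic] : (K.map H.subtype).Normal :=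
  ConjAct.normal_of_characteristic_of_normal

end Aux

section PCore

variable {p : ℕ} {G : Type*} [Group G]

theorem le_pCore {N : Subgroup G} (hN : N.Normal) (hp : IsPGroup p N) : N ≤ pCore p G :=
  le_sSup ⟨hN, hp⟩

instance instPCoreNormal : (pCore p G).Normal := sSup_normal fun _ h => h.1

theorem pCore_le_sylow (P : Sylow p G) : pCore p G ≤ P := by
  refine sSup_le ?_
  rintro N ⟨hN, hp⟩
  have hsup : IsPGroup p ↥(N ⊔ (P : Subgroup G)) :=
    IsPGroup.to_sup_of_normal_left hp P.isPGroup'
  rw [← P.is_maximal' hsup le_sup_right]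
  exact le_sup_left

theorem isPGroup_pCore : IsPGroup p (pCore p G) := by
  obtain ⟨P⟩ := (inferInstance : Nonempty (Sylow p G))
  exact P.isPGroup'.to_le (pCore_le_sylow P)

theorem le_pCore_iff {N : Subgroup G} [N.Normal] : N ≤ pCore p G ↔ IsPGroup p N :=
  ⟨fun h => isPGroup_pCore.to_le h, fun h => le_pCore inferInstance h⟩

theorem map_pCore_equiv {G' : Type*} [Group G'] (f : G ≃* G') :
    (pCore p G).map f.toMonoidHom = pCore p G' :=
  map_sSup_eq f (fun N hN => ⟨hN.1.map _ f.surjective, hN.2.map _⟩)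
    (fun N hN => ⟨hN.1.map _ f.symm.surjective, hN.2.map _⟩)

instance instPCoreCharacteristic : (pCore p G).Characteristic :=
  Subgroup.characteristic_iff_map_eq.mpr fun φ => map_pCore_equiv φ

theorem pCore_eq_iInf_sylow : pCore p G = ⨅ P : Sylow p G, (P : Subgroup G) := by
  apply le_antisymm (le_iInf pCore_le_sylow)
  refine le_pCore ⟨fun x hx g => ?_⟩ ?_
  · rw [Subgroup.mem_iInf] at hx ⊢
    intro P
    have := hx ((MulAut.conj g⁻¹ : MulAut G) • P)
    rw [Sylow.pointwise_smul_def, Subgroup.mem_pointwise_smul_iff_inv_smul_mem] at this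
    simpa using this
  · obtain ⟨P⟩ := (inferInstance : Nonempty (Sylow p G))
    exact P.isPGroup'.to_le (iInf_le _ P)

theorem pCore_eq_top_iff : pCore p G = ⊤ ↔ IsPGroup p G := by
  constructor
  · intro h
    exact (isPGroup_pCore (p := p) (G := G)).of_equiv
      ((MulEquiv.subgroupCongr h).trans Subgroup.topEquiv)
  · intro h
    exact top_le_iff.mp (le_pCore inferInstance (h.to_subgroup _))

theorem map_pCore_le_of_surjective {G' : Type*} [Group G'] (f : G →* G')
    (hf : Function.Surjective f) : (pCore p G).map f ≤ pCore p G' :=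
  le_pCore (instPCoreNormal.map f hf) (isPGroup_pCore.map f)

theorem map_pCore_normal_le (N : Subgroup G) [N.Normal] :
    (pCore p N).map N.subtype ≤ pCore p G :=
  le_pCore (map_subtype_normal_of_characteristic N _) (isPGroup_pCore.map _)

theorem subgroupOf_pCore_le (K : Subgroup G) : (pCore p G).subgroupOf K ≤ pCore p K :=
  le_pCore inferInstance isPGroup_pCore.comap_subtype

theorem map_pCore_normal_eq (N : Subgroup G) [N.Normal] :
    (pCore p N).map N.subtype = N ⊓ pCore p G := by
  refine le_antisymm (le_inf (Subgroup.map_subtype_le _) (map_pCore_normal_le N)) ?_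
  intro x hx
  exact ⟨⟨x, hx.1⟩, subgroupOf_pCore_le N hx.2, rfl⟩

theorem map_pCore_isSubnormal_le {H : Subgroup G} (hH : H.IsSubnormal) :
    (pCore p H).map H.subtype ≤ pCore p G := by
  induction hH with
  | top =>
    exact le_pCore (map_subtype_normal_of_characteristic ⊤ _) (isPGroup_pCore.map _)
  | step H K h_le _ hN ih =>
    refine le_trans ?_ ih
    have hle := map_pCore_normal_le (p := p) (H.subgroupOf K)
    rw [← map_pCore_equiv (Subgroup.subgroupOfEquivOfLe h_le), Subgroup.map_map]
    refine le_trans (le_of_eq ?_) (Subgroup.map_mono (f := K.subtype) hle)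
    rw [Subgroup.map_map]
    rfl

theorem le_pCore_of_isSubnormal {H : Subgroup G} (hH : H.IsSubnormal) (hp : IsPGroup p H) :
    H ≤ pCore p G := by
  have h := map_pCore_isSubnormal_le (p := p) hH
  rwa [pCore_eq_top_iff.mpr hp, ← MonoidHom.range_eq_map, Subgroup.range_subtype] at h

theorem pCore_quotient_eq_bot (N : Subgroup G) [N.Normal] (hN : IsPGroup p N)
    (hmax : pCore p G ≤ N) : pCore p (G ⧸ N) = ⊥ := by
  rw [eq_bot_iff]
  intro x hx
  obtain ⟨g, rfl⟩ := QuotientGroup.mk'_surjective N x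
  have h : (pCore p (G ⧸ N)).comap (QuotientGroup.mk' N) ≤ pCore p G :=
    le_pCore inferInstance
      (isPGroup_pCore.comap_of_ker_isPGroup _ (by rwa [QuotientGroup.ker_mk']))
  rw [Subgroup.mem_bot, QuotientGroup.mk'_apply, QuotientGroup.eq_one_iff]
  exact hmax (h hx)

theorem pCore_quotient_pCore : pCore p (G ⧸ pCore p G) = ⊥ :=
  pCore_quotient_eq_bot _ isPGroup_pCore le_rfl

end PCore

section PPrimeCore

variable {p : ℕ} {G : Type*} [Group G]

theorem le_pPrimeCore {N : Subgroup G} (hN : N.Normal) (hp : (Nat.card N).Coprime p) :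
    N ≤ pPrimeCore p G :=
  le_sSup ⟨hN, hp⟩

instance instPPrimeCoreNormal : (pPrimeCore p G).Normal := sSup_normal fun _ h => h.1

theorem map_pPrimeCore_equiv {G' : Type*} [Group G'] (f : G ≃* G') :
    (pPrimeCore p G).map f.toMonoidHom = pPrimeCore p G' := by
  refine map_sSup_eq f (fun N hN => ⟨hN.1.map _ f.surjective, ?_⟩)
    (fun N hN => ⟨hN.1.map _ f.symm.surjective, ?_⟩)
  · rw [← Nat.card_congr (N.equivMapOfInjective _ f.injective).toEquiv]; exact hN.2
  · rw [← Nat.card_congr (N.equivMapOfInjective _ f.symm.injective).toEquiv]; exact hN.2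

instance instPPrimeCoreCharacteristic : (pPrimeCore p G).Characteristic :=
  Subgroup.characteristic_iff_map_eq.mpr fun φ => map_pPrimeCore_equiv φ

theorem card_pPrimeCore_coprime [Finite G] : (Nat.card (pPrimeCore p G)).Coprime p := by
  classical
  set S : Set (Subgroup G) := {N | N.Normal ∧ (Nat.card N).Coprime p} with hSdef
  have hS : S.Finite := Set.toFinite _
  suffices pPrimeCore p G ∈ S from this.2
  have h : pPrimeCore p G = hS.toFinset.sup id := by
    apply le_antisymm
    · exact sSup_le fun N hN => Finset.le_sup (f := id) (hS.mem_toFinset.mpr hN)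
    · exact Finset.sup_le fun N hN => le_sSup (hS.mem_toFinset.mp hN)
  rw [h]
  refine Finset.sup_induction ⟨inferInstance, ?_⟩ ?_ fun N hN => hS.mem_toFinset.mp hN
  · simp
  · intro a ha b hb
    haveI := ha.1; haveI := hb.1
    exact ⟨inferInstance, Nat.Coprime.coprime_dvd_left (card_sup_dvd_mul a b)
      (Nat.Coprime.mul_left ha.2 hb.2)⟩

theorem not_dvd_card_pPrimeCore [Finite G] [hp : Fact p.Prime] :
    ¬ p ∣ Nat.card (pPrimeCore p G) := fun h =>
  hp.out.ne_one (Nat.dvd_one.mp
    ((card_pPrimeCore_coprime (p := p) (G := G)).gcd_eq_one ▸ Nat.dvd_gcd h dvd_rfl))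

theorem le_pPrimeCore_iff [Finite G] {N : Subgroup G} [N.Normal] :
    N ≤ pPrimeCore p G ↔ (Nat.card N).Coprime p :=
  ⟨fun h => card_pPrimeCore_coprime.coprime_dvd_left (Subgroup.card_dvd_of_le h),
    fun h => le_pPrimeCore inferInstance h⟩

theorem pPrimeCore_eq_top_iff [Finite G] : pPrimeCore p G = ⊤ ↔ (Nat.card G).Coprime p := by
  rw [← top_le_iff, le_pPrimeCore_iff, Subgroup.card_top]

theorem map_pPrimeCore_le_of_surjective [Finite G] {G' : Type*} [Group G'] (f : G →* G')
    (hf : Function.Surjective f) : (pPrimeCore p G).map f ≤ pPrimeCore p G' :=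
  le_pPrimeCore (instPPrimeCoreNormal.map f hf)
    (card_pPrimeCore_coprime.coprime_dvd_left (Subgroup.card_map_dvd _ f))

theorem map_pPrimeCore_normal_le [Finite G] (N : Subgroup G) [N.Normal] :
    (pPrimeCore p N).map N.subtype ≤ pPrimeCore p G :=
  le_pPrimeCore (map_subtype_normal_of_characteristic N _)
    (card_pPrimeCore_coprime.coprime_dvd_left (Subgroup.card_map_dvd _ _))

theorem subgroupOf_pPrimeCore_le [Finite G] (K : Subgroup G) :
    (pPrimeCore p G).subgroupOf K ≤ pPrimeCore p K :=
  le_pPrimeCore inferInstance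
    (card_pPrimeCore_coprime.coprime_dvd_left
      (Subgroup.card_comap_dvd_of_injective _ _ K.subtype_injective))

theorem map_pPrimeCore_normal_eq [Finite G] (N : Subgroup G) [N.Normal] :
    (pPrimeCore p N).map N.subtype = N ⊓ pPrimeCore p G := by
  refine le_antisymm (le_inf (Subgroup.map_subtype_le _) (map_pPrimeCore_normal_le N)) ?_
  intro x hx
  exact ⟨⟨x, hx.1⟩, subgroupOf_pPrimeCore_le N hx.2, rfl⟩

theorem map_pPrimeCore_isSubnormal_le [Finite G] {H : Subgroup G} (hH : H.IsSubnormal) :
    (pPrimeCore p H).map H.subtype ≤ pPrimeCore p G := by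
  induction hH with
  | top => exact map_pPrimeCore_normal_le ⊤
  | step H K h_le _ hN ih =>
    refine le_trans ?_ ih
    have hle := map_pPrimeCore_normal_le (p := p) (H.subgroupOf K)
    rw [← map_pPrimeCore_equiv (Subgroup.subgroupOfEquivOfLe h_le), Subgroup.map_map]
    refine le_trans (le_of_eq ?_) (Subgroup.map_mono (f := K.subtype) hle)
    rw [Subgroup.map_map]
    rfl

theorem le_pPrimeCore_of_isSubnormal [Finite G] {H : Subgroup G} (hH : H.IsSubnormal)
    (hp : (Nat.card H).Coprime p) : H ≤ pPrimeCore p G := by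
  have h := map_pPrimeCore_isSubnormal_le (p := p) hH
  rwa [pPrimeCore_eq_top_iff.mpr hp, ← MonoidHom.range_eq_map, Subgroup.range_subtype] at h

theorem card_comap_quotient (N : Subgroup G) [N.Normal] (M : Subgroup (G ⧸ N)) :
    Nat.card (M.comap (QuotientGroup.mk' N)) = Nat.card M * Nat.card N := by
  have hle : N ≤ M.comap (QuotientGroup.mk' N) := fun x hx => by
    simp [QuotientGroup.mk'_apply, (QuotientGroup.eq_one_iff x).mpr hx, one_mem]
  have h1 := Subgroup.relIndex_mul_relIndex (⊥ : Subgroup G) N (M.comap (QuotientGroup.mk' N))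
    bot_le hle
  rw [Subgroup.relIndex_bot_left, Subgroup.relIndex_bot_left] at h1
  rw [← h1, mul_comm]
  congr 1
  have h2 := Subgroup.relIndex_comap (⊥ : Subgroup (G ⧸ N)) (QuotientGroup.mk' N)
    (M.comap (QuotientGroup.mk' N))
  rw [MonoidHom.comap_bot, QuotientGroup.ker_mk', Subgroup.map_comap_eq_self_of_surjective
    (QuotientGroup.mk'_surjective N), Subgroup.relIndex_bot_left] at h2
  exact h2

theorem pPrimeCore_quotient_eq_bot [Finite G] (N : Subgroup G) [N.Normal]
    (hN : (Nat.card N).Coprime p) (hmax : pPrimeCore p G ≤ N) : pPrimeCore p (G ⧸ N) = ⊥ := by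
  rw [eq_bot_iff]
  intro x hx
  obtain ⟨g, rfl⟩ := QuotientGroup.mk'_surjective N x
  have h : (pPrimeCore p (G ⧸ N)).comap (QuotientGroup.mk' N) ≤ pPrimeCore p G :=
    le_pPrimeCore inferInstance
      (by rw [card_comap_quotient]; exact card_pPrimeCore_coprime.mul_left hN)
  rw [Subgroup.mem_bot, QuotientGroup.mk'_apply, QuotientGroup.eq_one_iff]
  exact hmax (h hx)

theorem pPrimeCore_quotient_pPrimeCore [Finite G] :
    pPrimeCore p (G ⧸ pPrimeCore p G) = ⊥ :=
  pPrimeCore_quotient_eq_bot _ card_pPrimeCore_coprime le_rfl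

theorem inf_eq_bot_of_isPGroup_of_coprime [Finite G] [Fact p.Prime] {A B : Subgroup G}
    (hA : IsPGroup p A) (hB : (Nat.card B).Coprime p) : A ⊓ B = ⊥ := by
  rw [inf_comm]
  obtain ⟨n, hn⟩ := IsPGroup.iff_card.mp hA
  refine Subgroup.inf_eq_bot_of_coprime ?_
  rw [hn]
  exact hB.pow_right n

theorem pCore_inf_pPrimeCore [Finite G] [Fact p.Prime] : pCore p G ⊓ pPrimeCore p G = ⊥ :=
  inf_eq_bot_of_isPGroup_of_coprime isPGroup_pCore card_pPrimeCore_coprime

theorem pPrimeCore_le_centralizer_pCore [Finite G] [Fact p.Prime] :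
    pPrimeCore p G ≤ Subgroup.centralizer (pCore p G : Set G) := fun _ hx =>
  Subgroup.mem_centralizer_iff.mpr fun _ hy =>
    Subgroup.commute_of_normal_of_disjoint _ _ inferInstance inferInstance
      (disjoint_iff.mpr pCore_inf_pPrimeCore) _ _ hy hx

end PPrimeCore

section PResidual

variable {p : ℕ} {G : Type*} [Group G]

theorem map_pResidual_equiv {G' : Type*} [Group G'] (f : G ≃* G') :
    (pResidual p G).map f.toMonoidHom = pResidual p G' := by
  simp only [pResidual, MonoidHom.map_closure]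
  congr 1
  ext y
  constructor
  · rintro ⟨x, hx, rfl⟩
    show Nat.Coprime (orderOf (f x)) p
    rw [MulEquiv.orderOf_eq]; exact hx
  · intro hy
    refine ⟨f.symm y, ?_, f.apply_symm_apply y⟩
    show Nat.Coprime (orderOf (f.symm y)) p
    rw [MulEquiv.orderOf_eq]; exact hy

instance instPResidualCharacteristic : (pResidual p G).Characteristic :=
  Subgroup.characteristic_iff_map_eq.mpr fun φ => map_pResidual_equiv φ

theorem mem_pResidual_of_coprime {g : G} (h : Nat.Coprime (orderOf g) p) : g ∈ pResidual p G :=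
  Subgroup.subset_closure h

theorem isPGroup_quotient_pResidual [Finite G] [hp : Fact p.Prime] :
    IsPGroup p (G ⧸ pResidual p G) := by
  intro x
  obtain ⟨g, rfl⟩ := QuotientGroup.mk'_surjective (pResidual p G) x
  obtain ⟨k, m, hm, hkm⟩ :=
    Nat.exists_eq_pow_mul_and_not_dvd (orderOf_pos g).ne' p hp.out.ne_one
  refine ⟨k, ?_⟩
  rw [← map_pow, QuotientGroup.mk'_apply, QuotientGroup.eq_one_iff]
  refine mem_pResidual_of_coprime ?_
  rw [orderOf_pow' _ (pow_pos hp.out.pos k).ne', hkm,
    Nat.gcd_eq_right (dvd_mul_right _ _), Nat.mul_div_cancel_left _ (pow_pos hp.out.pos k)]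
  exact ((hp.out.coprime_iff_not_dvd).mpr hm).symm

theorem pResidual_le [Finite G] [hp : Fact p.Prime] (N : Subgroup G) [N.Normal]
    (h : IsPGroup p (G ⧸ N)) : pResidual p G ≤ N := by
  rw [pResidual, Subgroup.closure_le]
  intro g hg
  rw [SetLike.mem_coe, ← QuotientGroup.eq_one_iff, ← orderOf_eq_one_iff]
  obtain ⟨k, hk⟩ := IsPGroup.iff_orderOf.mp h (g : G ⧸ N)
  have h1 : orderOf (g : G ⧸ N) ∣ orderOf g := orderOf_map_dvd (QuotientGroup.mk' N) g
  rw [hk] at h1 ⊢
  have := Nat.Coprime.coprime_dvd_left h1 hg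
  rcases Nat.eq_zero_or_pos k with rfl | hk0
  · simp
  · rw [Nat.coprime_pow_left_iff hk0] at this
    exact absurd ((Nat.coprime_self p).mp this) hp.out.ne_one

end PResidual

end Cfsg.Agent.Thompson
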