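import Mathlib
import Cfsg.Prelude.Def_Transfer

/-!
Elementary abelian subgroups, and conjugation action of a subgroup on an abelian subgroup:
commutator maps, quadratic action, nilpotent action of `p`-subgroups.
-/

set_option autoImplicit false
set_option linter.unusedVariables false
set_option linter.style.haveILetI false

namespace Cfsg.Agent.Thompson

open Cfsg
open scoped commutatorElement Pointwise

variable {G : Type*} [Group G] {p : ℕ}

section ElemAb

theorem elemAb_comm {V : Subgroup G} (hV : IsMulCommutative V) {x y : G} (hx : x ∈ V)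
    (hy : y ∈ V) : x * y = y * x :=
  (Subgroup.mem_centralizer_iff.mp ((Subgroup.le_centralizer_iff_isMulCommutative.mpr hV) hy)) x hx

theorem le_centralizer_self {V : Subgroup G} (hV : IsMulCommutative V) :
    V ≤ Subgroup.centralizer (V : Set G) :=
  Subgroup.le_centralizer_iff_isMulCommutative.mpr hV

theorem isMulCommutative_of_le {V W : Subgroup G} (hV : IsMulCommutative V) (h : W ≤ V) :
    IsMulCommutative W :=
  Subgroup.le_centralizer_iff_isMulCommutative.mp
    (h.trans ((le_centralizer_self hV).trans (Subgroup.centralizer_le h)))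

theorem isElementaryAbelian_of_le {V W : Subgroup G} (hV : IsElementaryAbelian p V) (h : W ≤ V) :
    IsElementaryAbelian p W :=
  ⟨isMulCommutative_of_le hV.1 h, fun a ha => hV.2 a (h ha)⟩

theorem isPGroup_of_isElementaryAbelian {V : Subgroup G} (hV : IsElementaryAbelian p V) :
    IsPGroup p V := fun x => ⟨1, Subtype.ext (by rw [pow_one]; exact hV.2 x x.2)⟩

theorem isElementaryAbelian_bot : IsElementaryAbelian p (⊥ : Subgroup G) :=
  ⟨Subgroup.commutator_self_eq_bot_iff.mp (by simp),
    fun a ha => by rw [Subgroup.mem_bot.mp ha, one_pow]⟩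

theorem isElementaryAbelian_map {G' : Type*} [Group G'] (f : G →* G') {V : Subgroup G}
    (hV : IsElementaryAbelian p V) : IsElementaryAbelian p (V.map f) := by
  refine ⟨Subgroup.le_centralizer_iff_isMulCommutative.mp ?_, ?_⟩
  · rintro _ ⟨x, hx, rfl⟩
    rw [Subgroup.mem_centralizer_iff]
    rintro _ ⟨y, hy, rfl⟩
    rw [← map_mul, ← map_mul, elemAb_comm hV.1 hy hx]
  · rintro _ ⟨x, hx, rfl⟩
    rw [← map_pow, hV.2 x hx, map_one]

theorem isElementaryAbelian_iff_of_injective {G' : Type*} [Group G'] {f : G →* G'}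
    (hf : Function.Injective f) {V : Subgroup G} :
    IsElementaryAbelian p (V.map f) ↔ IsElementaryAbelian p V := by
  refine ⟨fun h => ⟨Subgroup.le_centralizer_iff_isMulCommutative.mp ?_, ?_⟩,
    isElementaryAbelian_map f⟩
  · intro x hx
    rw [Subgroup.mem_centralizer_iff]
    intro y hy
    refine hf ?_
    rw [map_mul, map_mul]
    exact elemAb_comm h.1 ⟨y, hy, rfl⟩ ⟨x, hx, rfl⟩
  · intro x hx
    exact hf (by rw [map_pow, map_one]; exact h.2 _ ⟨x, hx, rfl⟩)

/-- An elementary abelian subgroup of `H`, seen inside `H`. -/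
theorem isElementaryAbelian_subgroupOf {V : Subgroup G} (hV : IsElementaryAbelian p V)
    (H : Subgroup G) : IsElementaryAbelian p (V.subgroupOf H) := by
  rw [← isElementaryAbelian_iff_of_injective H.subtype_injective, Subgroup.subgroupOf_map_subtype]
  exact isElementaryAbelian_of_le hV inf_le_left

/-- Subgroups generated by pairwise commuting elements of order dividing `p`. -/
theorem isElementaryAbelian_closure {s : Set G} (hc : ∀ x ∈ s, ∀ y ∈ s, x * y = y * x)
    (hp : ∀ x ∈ s, x ^ p = 1) : IsElementaryAbelian p (Subgroup.closure s) := by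
  haveI := Subgroup.isMulCommutative_closure hc
  refine ⟨inferInstance, fun x hx => ?_⟩
  induction hx using Subgroup.closure_induction with
  | mem x hx => exact hp x hx
  | one => exact one_pow p
  | mul x y hx hy ihx ihy =>
    have : Commute x y := elemAb_comm inferInstance hx hy
    rw [this.mul_pow, ihx, ihy, one_mul]
  | inv x _ ih => rw [inv_pow, ih, inv_one]

theorem isElementaryAbelian_sup {A B : Subgroup G} (hA : IsElementaryAbelian p A)
    (hB : IsElementaryAbelian p B) (h : A ≤ Subgroup.centralizer (B : Set G)) :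
    IsElementaryAbelian p (A ⊔ B : Subgroup G) := by
  rw [← Subgroup.closure_eq A, ← Subgroup.closure_eq B, ← Subgroup.closure_union]
  refine isElementaryAbelian_closure ?_ ?_
  · rintro x (hx | hx) y (hy | hy)
    · exact elemAb_comm hA.1 hx hy
    · exact (Subgroup.mem_centralizer_iff.mp (h hx) y hy).symm
    · exact Subgroup.mem_centralizer_iff.mp (h hy) x hx
    · exact elemAb_comm hB.1 hx hy
  · rintro x (hx | hx)
    exacts [hA.2 x hx, hB.2 x hx]

end ElemAb

section Action

variable {V A : Subgroup G}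

theorem commutator_le_of_le_normalizer (h : A ≤ Subgroup.normalizer (V : Set G)) : ⁅V, A⁆ ≤ V :=
  Subgroup.le_normalizer_iff_commutator_le_left.mp h

theorem conj_mem_of_le_normalizer (h : A ≤ Subgroup.normalizer (V : Set G)) {a v : G} (ha : a ∈ A)
    (hv : v ∈ V) : a * v * a⁻¹ ∈ V :=
  (Subgroup.mem_normalizer_iff.mp (h ha) v).mp hv

theorem conj_inv_mem_of_le_normalizer (h : A ≤ Subgroup.normalizer (V : Set G)) {a v : G}
    (ha : a ∈ A) (hv : v ∈ V) : a⁻¹ * v * a ∈ V := by
  simpa using conj_mem_of_le_normalizer h (A.inv_mem ha) hv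

theorem commutatorElement_mem_of_le_normalizer (h : A ≤ Subgroup.normalizer (V : Set G)) {a v : G}
    (ha : a ∈ A) (hv : v ∈ V) : ⁅v, a⁆ ∈ V :=
  commutator_le_of_le_normalizer h (Subgroup.commutator_mem_commutator hv ha)

theorem le_normalizer_centralizer (h : A ≤ Subgroup.normalizer (V : Set G)) :
    A ≤ Subgroup.normalizer (Subgroup.centralizer (V : Set G) : Set G) := by
  rw [Subgroup.le_normalizer_iff]
  intro a ha c hc
  rw [Subgroup.mem_centralizer_iff] at hc ⊢
  intro v hv
  have := hc _ (conj_inv_mem_of_le_normalizer h ha hv)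
  calc v * (a * c * a⁻¹) = a * ((a⁻¹ * v * a) * c) * a⁻¹ := by group
    _ = a * (c * (a⁻¹ * v * a)) * a⁻¹ := by rw [this]
    _ = a * c * a⁻¹ * v := by group

theorem commutatorElement_mem_of_mem_normalizer {V : Subgroup G} {a v : G}
    (ha : a ∈ Subgroup.normalizer (V : Set G)) (hv : v ∈ V) : ⁅v, a⁆ ∈ V := by
  rw [commutatorElement_def, mul_assoc, mul_assoc]
  refine V.mul_mem hv ?_
  rw [← mul_assoc]
  exact (Subgroup.mem_normalizer_iff.mp ha _).mp (V.inv_mem hv)

theorem commutatorElement_mul_left_of_mem (hV : IsMulCommutative V) {a v w : G}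
    (ha : a ∈ Subgroup.normalizer (V : Set G)) (hv : v ∈ V) (hw : w ∈ V) :
    ⁅v * w, a⁆ = ⁅v, a⁆ * ⁅w, a⁆ := by
  have h1 := commutatorElement_mem_of_mem_normalizer ha hw
  have h2 := commutatorElement_mem_of_mem_normalizer ha hv
  rw [commutatorElement_mul_left_eq_conj_mul, elemAb_comm hV hv h1, mul_inv_cancel_right,
    elemAb_comm hV h1 h2]

/-- `v ↦ [v, a]` on an abelian subgroup `V` normalised by `a`. -/
noncomputable def commHom (V : Subgroup G) (hV : IsMulCommutative V) (a : G)
    (ha : a ∈ Subgroup.normalizer (V : Set G)) : V →* V where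
  toFun v := ⟨⁅(v : G), a⁆, commutatorElement_mem_of_mem_normalizer ha v.2⟩
  map_one' := Subtype.ext (by simp)
  map_mul' v w := Subtype.ext (commutatorElement_mul_left_of_mem hV ha v.2 w.2)

theorem coe_commHom (hV : IsMulCommutative V) {a : G} (ha : a ∈ Subgroup.normalizer (V : Set G))
    (v : V) : (commHom V hV a ha v : G) = ⁅(v : G), a⁆ := rfl

theorem commHom_ker (hV : IsMulCommutative V) {a : G} (ha : a ∈ Subgroup.normalizer (V : Set G)) :
    (commHom V hV a ha).ker.map V.subtype =
      V ⊓ Subgroup.centralizer (Subgroup.zpowers a : Set G) := by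
  ext x
  rw [Subgroup.mem_inf, Subgroup.zpowers_eq_closure, Subgroup.centralizer_closure,
    Subgroup.mem_centralizer_singleton_iff]
  simp only [Subgroup.mem_map, MonoidHom.mem_ker, Subgroup.coe_subtype]
  constructor
  · rintro ⟨v, hv, rfl⟩
    have h := congrArg Subtype.val hv
    rw [coe_commHom, Subgroup.coe_one, commutatorElement_eq_one_iff_mul_comm] at h
    exact ⟨v.2, h⟩
  · rintro ⟨hx, hc⟩
    refine ⟨⟨x, hx⟩, Subtype.ext ?_, rfl⟩
    rw [coe_commHom, Subgroup.coe_one, commutatorElement_eq_one_iff_mul_comm]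
    exact hc

/-- `[[V, A], A] = 1` says that `A` centralizes every commutator `[v, a]`. -/
theorem quadratic_comm (hq : ⁅⁅V, A⁆, A⁆ = ⊥) {v a b : G} (hv : v ∈ V) (ha : a ∈ A)
    (hb : b ∈ A) : b * ⁅v, a⁆ = ⁅v, a⁆ * b :=
  Subgroup.mem_centralizer_iff.mp (Subgroup.commutator_eq_bot_iff_le_centralizer.mp hq
    (Subgroup.commutator_mem_commutator hv ha)) b hb

theorem conj_eq_mul_commutator (v a : G) : a * v * a⁻¹ = ⁅v, a⁆⁻¹ * v := by
  rw [commutatorElement_inv, commutatorElement_def, inv_mul_cancel_right]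

end Action

section Nilpotent

/-- A `p`-subgroup `W` of a finite `p`-group `P` with `[W, P] = W` is trivial. -/
theorem eq_bot_of_commutator_eq_self [Finite G] [Fact p.Prime] {W P : Subgroup G}
    (hP : IsPGroup p P) (hW : W ≤ P) (h : W ≤ ⁅W, P⁆) : W = ⊥ := by
  haveI : Group.IsNilpotent P := hP.isNilpotent
  obtain ⟨n, hn⟩ := (Subgroup.isNilpotent_iff_lowerCentralSeries P).mp inferInstance
  have : ∀ i, W ≤ P.lowerCentralSeries i := by
    intro i
    induction i with
    | zero => exact hW
    | succ i ih => exact h.trans (Subgroup.commutator_mono ih le_rfl)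
  exact le_bot_iff.mp (hn ▸ this n)

/-- If `C` centralizes `V` and `A` normalizes `V` with `A ≤ C ⊔ P`, `P` normalizing `C`, then
`[V, A] ≤ [V, P]`. -/
theorem commutator_le_of_le_sup_centralizer {V A C P : Subgroup G}
    (hC : C ≤ Subgroup.centralizer (V : Set G)) (hPV : P ≤ Subgroup.normalizer (V : Set G))
    (hPC : P ≤ Subgroup.normalizer (C : Set G)) (hA : A ≤ C ⊔ P) : ⁅V, A⁆ ≤ ⁅V, P⁆ := by
  rw [Subgroup.commutator_le]
  intro v hv g hg
  have hg' : g ∈ ((C : Set G) * (P : Set G)) := by
    rw [← Subgroup.coe_mul_of_right_le_normalizer_left C P hPC]; exact hA hg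
  obtain ⟨c, hc, q, hq, rfl⟩ := hg'
  have h1 : v * c = c * v := Subgroup.mem_centralizer_iff.mp (hC hc) v hv
  have h2 : ⁅v, q⁆ ∈ V := commutatorElement_mem_of_mem_normalizer (hPV hq) hv
  have h3 : ⁅v, q⁆ * c = c * ⁅v, q⁆ := Subgroup.mem_centralizer_iff.mp (hC hc) _ h2
  rw [commutatorElement_mul_right_eq_mul_conj, commutatorElement_eq_one_iff_mul_comm.mpr h1,
    one_mul, ← h3, mul_inv_cancel_right]
  exact Subgroup.commutator_mem_commutator hv hq

end Nilpotent

end Cfsg.Agent.Thompson
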