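import Mathlib
import Cfsg.Prelude.Def_Local
import Cfsg.Agent.Lib.Thompson.Cores

/-!
`p`-solvable groups (`Cfsg.IsPSolvable`): quotients, subgroups, extensions, Hall–Higman 1.2.3,
and basic facts on `O_{p',p}`.
-/

set_option autoImplicit false
set_option linter.unusedVariables false
set_option linter.style.haveILetI false

namespace Cfsg.Agent.Thompson

open Cfsg

section Aux

variable {G : Type*} [Group G]

theorem relIndex_eq_card_map_mk' (A : Subgroup G) [A.Normal] (X : Subgroup G) :
    A.relIndex X = Nat.card (X.map (QuotientGroup.mk' A)) := by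
  rw [← Subgroup.relIndex_ker, QuotientGroup.ker_mk']

/-- A number dividing a power of a prime `p`, or a number prime to `p`, is of the same kind. -/
theorem pow_or_coprime_of_dvd {p a b : ℕ} [hp : Fact p.Prime] (h : a ∣ b)
    (hb : (∃ m : ℕ, b = p ^ m) ∨ b.Coprime p) : (∃ m : ℕ, a = p ^ m) ∨ a.Coprime p := by
  rcases hb with ⟨m, rfl⟩ | hb
  · obtain ⟨k, _, hk⟩ := (Nat.dvd_prime_pow hp.out).mp h
    exact Or.inl ⟨k, hk⟩
  · exact Or.inr (hb.coprime_dvd_left h)

theorem exists_isPGroup_or_coprime_of_ne_bot {p : ℕ} [Fact p.Prime] [Finite G] {N : Subgroup G}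
    (h : (∃ m : ℕ, Nat.card N = p ^ m) ∨ (Nat.card N).Coprime p) :
    IsPGroup p N ∨ (Nat.card N).Coprime p :=
  h.imp (fun ⟨_, hm⟩ => IsPGroup.of_card hm) id

/-- Centre-by-`p'`: if `Z` is a central `p`-subgroup of `G` of index prime to `p` and
`O_{p'}(G) = ⊥`, then `Z = ⊤`. -/
theorem eq_top_of_central_of_coprime_index [Finite G] {p : ℕ} [hp : Fact p.Prime]
    {Z : Subgroup G} (hZ : IsPGroup p Z) (hZc : Z ≤ Subgroup.center G)
    (hidx : Z.index.Coprime p) (hO : pPrimeCore p G = ⊥) : Z = ⊤ := by
  haveI : Z.Normal := ⟨fun x hx g => by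
    rwa [Subgroup.mem_center_iff.mp (hZc hx) g, mul_inv_cancel_right]⟩
  obtain ⟨n, hn⟩ := IsPGroup.iff_card.mp hZ
  have hcop : (Nat.card Z).Coprime Z.index := by
    rw [hn]; exact (hidx.pow_right n).symm
  obtain ⟨K, hK⟩ := Subgroup.exists_right_complement'_of_coprime hcop
  have hKn : K.Normal := by
    refine ⟨fun x hx g => ?_⟩
    obtain ⟨⟨⟨z, hz⟩, ⟨k, hk⟩⟩, hzk⟩ := hK.2 g
    simp only at hzk
    subst hzk
    have h1 : ∀ y : G, z * y = y * z := fun y => (Subgroup.mem_center_iff.mp (hZc hz) y).symm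
    have : z * k * x * (z * k)⁻¹ = k * x * k⁻¹ := by
      rw [mul_inv_rev, mul_assoc z k x, h1 (k * x), mul_assoc, mul_assoc, ← mul_assoc z,
        h1 k⁻¹, mul_assoc k⁻¹, mul_inv_cancel, mul_one, mul_assoc]
    rw [this]
    exact K.mul_mem (K.mul_mem hk hx) (K.inv_mem hk)
  have hKcard : Nat.card K = Z.index := by
    have h1 := hK.card_mul
    rw [← Subgroup.card_mul_index Z] at h1
    exact Nat.eq_of_mul_eq_mul_left Nat.card_pos h1
  have hKbot : K = ⊥ := by
    rw [eq_bot_iff, ← hO]
    exact le_pPrimeCore hKn (hKcard ▸ hidx)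
  subst hKbot
  exact (Subgroup.isComplement'_bot_right).mp hK

end Aux

section PSolvable

variable {p : ℕ} [hp : Fact p.Prime] {G : Type*} [Group G]

theorem isPSolvable_of_surjective {G' : Type*} [Group G'] (f : G →* G')
    (hf : Function.Surjective f) (h : IsPSolvable p G) : IsPSolvable p G' := by
  obtain ⟨n, H, h0, hl, hm, hN, hi⟩ := h
  refine ⟨n, fun i => (H i).map f, by simp [h0], by simp [hl, Subgroup.map_top_of_surjective f hf],
    fun i j hij => Subgroup.map_mono (hm hij), fun i => (hN i).map f hf, fun i => ?_⟩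
  refine pow_or_coprime_of_dvd ?_ (hi i)
  rw [Subgroup.relIndex_map_map]
  haveI := hN i.castSucc
  rw [relIndex_eq_card_map_mk', relIndex_eq_card_map_mk', Subgroup.map_sup]
  have hker : (H i.succ).map (QuotientGroup.mk' (H i.castSucc ⊔ f.ker)) =
      ((H i.succ).map (QuotientGroup.mk' (H i.castSucc))).map
        (QuotientGroup.map _ (H i.castSucc ⊔ f.ker) (MonoidHom.id G) le_sup_left) := by
    rw [Subgroup.map_map]; rfl
  have : (f.ker).map (QuotientGroup.mk' (H i.castSucc ⊔ f.ker)) = ⊥ := by
    rw [Subgroup.map_eq_bot_iff, QuotientGroup.ker_mk']; exact le_sup_right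
  rw [this, sup_bot_eq, hker]
  exact Subgroup.card_map_dvd _ _

theorem isPSolvable_of_equiv {G' : Type*} [Group G'] (f : G ≃* G') (h : IsPSolvable p G) :
    IsPSolvable p G' :=
  isPSolvable_of_surjective f.toMonoidHom f.surjective h

theorem isPSolvable_quotient (N : Subgroup G) [N.Normal] (h : IsPSolvable p G) :
    IsPSolvable p (G ⧸ N) :=
  isPSolvable_of_surjective _ (QuotientGroup.mk'_surjective N) h

theorem isPSolvable_subgroup (K : Subgroup G) (h : IsPSolvable p G) : IsPSolvable p K := by
  obtain ⟨n, H, h0, hl, hm, hN, hi⟩ := h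
  refine ⟨n, fun i => (H i).subgroupOf K, by simp [h0], by simp [hl],
    fun i j hij => Subgroup.comap_mono (hm hij), fun i => (hN i).subgroupOf K, fun i => ?_⟩
  refine pow_or_coprime_of_dvd ?_ (hi i)
  haveI := hN i.castSucc
  simp only []
  rw [← Subgroup.inf_subgroupOf_right (H i.succ) K, Subgroup.relIndex_subgroupOf inf_le_right,
    relIndex_eq_card_map_mk', relIndex_eq_card_map_mk']
  exact Subgroup.card_dvd_of_le (Subgroup.map_mono inf_le_left)

theorem exists_minimal_step_of_isPSolvable [Finite G] [Nontrivial G] (h : IsPSolvable p G) :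
    ∃ N : Subgroup G, N.Normal ∧ N ≠ ⊥ ∧ (IsPGroup p N ∨ (Nat.card N).Coprime p) := by
  obtain ⟨n, H, h0, hl, hm, hN, hi⟩ := h
  by_contra hcon
  push Not at hcon
  have : ∀ i, H i = ⊥ := by
    intro i
    induction i using Fin.induction with
    | zero => exact h0
    | succ i ih =>
      by_contra hne
      have h2 := hi i
      rw [ih, Subgroup.relIndex_bot_left] at h2
      obtain ⟨h3, h4⟩ := hcon (H i.succ) (hN _) hne
      rcases exists_isPGroup_or_coprime_of_ne_bot h2 with h5 | h5
      exacts [h3 h5, h4 h5]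
  exact bot_ne_top ((this _).symm.trans hl)

theorem pCore_ne_bot_or_pPrimeCore_ne_bot [Finite G] [Nontrivial G] (h : IsPSolvable p G) :
    pCore p G ≠ ⊥ ∨ pPrimeCore p G ≠ ⊥ := by
  obtain ⟨N, hN, hne, h1⟩ := exists_minimal_step_of_isPSolvable h
  rcases h1 with h1 | h1
  · exact Or.inl fun hb => hne (le_bot_iff.mp (hb ▸ le_pCore hN h1))
  · exact Or.inr fun hb => hne (le_bot_iff.mp (hb ▸ le_pPrimeCore hN h1))

theorem isPSolvable_of_isPGroup [Finite G] (h : IsPGroup p G) : IsPSolvable p G := by
  refine ⟨1, ![⊥, ⊤], rfl, rfl, ?_, ?_, fun i => ?_⟩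
  · intro i j hij; fin_cases i <;> fin_cases j <;> simp_all
  · intro i; fin_cases i <;> simp
  · fin_cases i
    left
    simpa [Subgroup.relIndex_bot_left] using IsPGroup.iff_card.mp h

omit hp in
theorem isPSolvable_of_coprime (h : (Nat.card G).Coprime p) : IsPSolvable p G := by
  refine ⟨1, ![⊥, ⊤], rfl, rfl, ?_, ?_, fun i => ?_⟩
  · intro i j hij; fin_cases i <;> fin_cases j <;> simp_all
  · intro i; fin_cases i <;> simp
  · fin_cases i
    right
    simpa [Subgroup.relIndex_bot_left] using h

theorem isPSolvable_of_quotient (N : Subgroup G) [N.Normal] [Finite G]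
    (hN : IsPGroup p N ∨ (Nat.card N).Coprime p) (h : IsPSolvable p (G ⧸ N)) :
    IsPSolvable p G := by
  obtain ⟨n, H, h0, hl, hm, hHN, hi⟩ := h
  let H' : Fin (n + 1 + 1) → Subgroup G :=
    Fin.cons ⊥ fun i => (H i).comap (QuotientGroup.mk' N)
  refine ⟨n + 1, H', rfl, ?_, ?_, ?_, ?_⟩
  · show H' (Fin.last (n + 1)) = ⊤
    rw [← Fin.succ_last]
    simp only [H', Fin.cons_succ, hl, Subgroup.comap_top]
  · intro i j hij
    induction i using Fin.cases with
    | zero => simp [H']
    | succ i =>
      induction j using Fin.cases with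
      | zero => exact absurd (le_zero_iff.mp hij) (Fin.succ_ne_zero i)
      | succ j =>
        simp only [H', Fin.cons_succ]
        exact Subgroup.comap_mono (hm (Fin.succ_le_succ_iff.mp hij))
  · intro i
    induction i using Fin.cases with
    | zero => simp only [H', Fin.cons_zero]; infer_instance
    | succ i => simp only [H', Fin.cons_succ]; exact (hHN i).comap _
  · intro i
    induction i using Fin.cases with
    | zero =>
      simp only [Fin.castSucc_zero, H', Fin.cons_zero, Fin.cons_succ, h0,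
        Subgroup.relIndex_bot_left, MonoidHom.comap_bot, QuotientGroup.ker_mk']
      exact hN.imp (fun h => IsPGroup.iff_card.mp h) id
    | succ i =>
      simp only [H', Fin.castSucc_succ, Fin.cons_succ]
      rw [Subgroup.relIndex_comap, Subgroup.map_comap_eq_self_of_surjective
        (QuotientGroup.mk'_surjective N)]
      exact hi i

/-- **Hall–Higman Lemma 1.2.3**: in a `p`-solvable group with trivial `O_{p'}`, the centralizer of
`O_p` is contained in `O_p`. -/
theorem centralizer_pCore_le [Finite G] (hG : IsPSolvable p G) (hO : pPrimeCore p G = ⊥) :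
    Subgroup.centralizer (pCore p G : Set G) ≤ pCore p G := by
  set P := pCore p G with hP
  set C := Subgroup.centralizer (P : Set G) with hC
  set π := QuotientGroup.mk' P with hπ
  by_contra hne
  have hπs : Function.Surjective π := QuotientGroup.mk'_surjective P
  haveI hCn : C.Normal := Subgroup.normal_centralizer
  haveI : (C.map π).Normal := hCn.map π hπs
  haveI : Nontrivial ↥(C.map π) := by
    rw [Subgroup.nontrivial_iff_ne_bot, ne_eq, Subgroup.map_eq_bot_iff, QuotientGroup.ker_mk']
    exact hne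
  have hsolv : IsPSolvable p ↥(C.map π) := isPSolvable_subgroup _ (isPSolvable_quotient P hG)
  rcases pCore_ne_bot_or_pPrimeCore_ne_bot hsolv with h | h
  · apply h
    have h1 := map_pCore_normal_le (p := p) (C.map π)
    rw [pCore_quotient_pCore, le_bot_iff, Subgroup.map_eq_bot_iff_of_injective _
      (Subgroup.subtype_injective _)] at h1
    exact h1
  · apply h
    rw [← Subgroup.map_eq_bot_iff_of_injective _ (Subgroup.subtype_injective (C.map π))]
    set Mb := (pPrimeCore p ↥(C.map π)).map (C.map π).subtype with hMb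
    haveI : Mb.Normal := map_subtype_normal_of_characteristic (C.map π) _
    have hMbC : Mb ≤ C.map π := Subgroup.map_subtype_le _
    have hMbcop : (Nat.card Mb).Coprime p :=
      card_pPrimeCore_coprime.coprime_dvd_left (Subgroup.card_map_dvd _ _)
    set M := Mb.comap π ⊓ C with hM
    have hMmap : M.map π = Mb := by
      refine le_antisymm ((Subgroup.map_mono inf_le_left).trans (Subgroup.map_comap_le _ _)) ?_
      intro y hy
      obtain ⟨x, hx, rfl⟩ := hMbC hy
      exact ⟨x, ⟨hy, hx⟩, rfl⟩
    have hZP : P.subgroupOf M = ⊤ := by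
      refine eq_top_of_central_of_coprime_index (p := p) isPGroup_pCore.comap_subtype ?_ ?_ ?_
      · intro x hx
        rw [Subgroup.mem_center_iff]
        intro y
        ext
        exact ((Subgroup.mem_centralizer_iff.mp y.2.2) (x : G) hx).symm
      · have : P.relIndex M = Nat.card Mb := by rw [relIndex_eq_card_map_mk', hMmap]
        rw [Subgroup.relIndex] at this
        rwa [this]
      · have h1 := map_pPrimeCore_normal_le (p := p) M
        rw [hO, le_bot_iff, Subgroup.map_eq_bot_iff_of_injective _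
          (Subgroup.subtype_injective _)] at h1
        exact h1
    rw [← hMmap, Subgroup.map_eq_bot_iff, QuotientGroup.ker_mk']
    exact Subgroup.subgroupOf_eq_top.mp hZP

end PSolvable

section PPrimePCore

variable {p : ℕ} {G : Type*} [Group G]

instance instPPrimePCoreNormal : (pPrimePCore p G).Normal :=
  instPCoreNormal.comap _

theorem pPrimeCore_le_pPrimePCore : pPrimeCore p G ≤ pPrimePCore p G := by
  intro x hx
  show QuotientGroup.mk' (pPrimeCore p G) x ∈ pCore p _
  rw [QuotientGroup.mk'_apply, (QuotientGroup.eq_one_iff x).mpr hx]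
  exact one_mem _

theorem map_mk'_pPrimePCore :
    (pPrimePCore p G).map (QuotientGroup.mk' (pPrimeCore p G)) =
      pCore p (G ⧸ pPrimeCore p G) :=
  Subgroup.map_comap_eq_self_of_surjective (QuotientGroup.mk'_surjective _) _

theorem pCore_le_pPrimePCore : pCore p G ≤ pPrimePCore p G := fun _ hx =>
  map_pCore_le_of_surjective _ (QuotientGroup.mk'_surjective _) ⟨_, hx, rfl⟩

theorem le_pPrimePCore_of_isPGroup {N : Subgroup G} (hN : (pPrimeCore p G ⊔ N).Normal)
    (hp : IsPGroup p N) : N ≤ pPrimePCore p G := by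
  refine le_sup_right.trans (Subgroup.map_le_iff_le_comap.mp (le_pCore (hN.map _
    (QuotientGroup.mk'_surjective _)) ?_))
  rw [Subgroup.map_sup, QuotientGroup.map_mk'_self, bot_sup_eq]
  exact hp.map _

theorem sylow_pPrimePCore_sup [Finite G] [hp : Fact p.Prime]
    (P : Sylow p ↥(pPrimePCore p G)) :
    pPrimeCore p G ⊔ (P : Subgroup ↥(pPrimePCore p G)).map (pPrimePCore p G).subtype =
      pPrimePCore p G := by
  refine le_antisymm (sup_le pPrimeCore_le_pPrimePCore (Subgroup.map_subtype_le _)) ?_
  set π := QuotientGroup.mk' (pPrimeCore p G) with hπ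
  set P' := (P : Subgroup ↥(pPrimePCore p G)).map (pPrimePCore p G).subtype with hP'
  have hker : (pPrimeCore p G ⊔ P') = (P'.map π).comap π := by
    rw [Subgroup.comap_map_eq, QuotientGroup.ker_mk', sup_comm]
  rw [hker, ← Subgroup.map_le_iff_le_comap, map_mk'_pPrimePCore]
  let f : ↥(pPrimePCore p G) →* ↥(pCore p (G ⧸ pPrimeCore p G)) :=
    (π.comp (pPrimePCore p G).subtype).codRestrict _ fun x => x.2
  have hf : Function.Surjective f := by
    rintro ⟨y, hy⟩
    obtain ⟨x, rfl⟩ := QuotientGroup.mk'_surjective _ y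
    exact ⟨⟨x, hy⟩, rfl⟩
  have htop : (P.mapSurjective hf).toSubgroup = ⊤ := by
    obtain ⟨k, hk⟩ := IsPGroup.iff_card.mp (isPGroup_pCore (p := p) (G := G ⧸ pPrimeCore p G))
    rw [← Subgroup.card_eq_iff_eq_top]
    rw [Sylow.card_eq_multiplicity, hk, Nat.factorization_pow, Finsupp.coe_smul, Pi.smul_apply,
      hp.out.factorization_self, smul_eq_mul, mul_one]
  rw [Sylow.coe_mapSurjective] at htop
  intro y hy
  obtain ⟨x, hx, hxy⟩ := (htop.ge (Subgroup.mem_top (⟨y, hy⟩ : ↥(pCore p _))))
  exact ⟨x, ⟨x, hx, rfl⟩, congrArg Subtype.val hxy⟩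

end PPrimePCore

end Cfsg.Agent.Thompson
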