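import Mathlib

/-!
Two elements acting quadratically on a vector space in characteristic `p`: reduction to a
two-dimensional representation `φ : ⟨a, b⟩ →* SL(2, k)`.
-/

set_option autoImplicit false
set_option linter.unusedVariables false
set_option linter.unusedSectionVars false
set_option linter.style.haveILetI false

namespace Cfsg.Agent.Thompson

open scoped MatrixGroups
open Polynomial

variable {k : Type*} [Field k] {p : ℕ} [Fact p.Prime] [CharP k p]
variable {H : Type*} [Group H] {W : Type*} [AddCommGroup W] [Module k W]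

/-- `R` acts through a `p`-group. -/
def IsPAct (p : ℕ) {M : Type*} [Monoid M] (ρ : H →* M) (R : Subgroup H) : Prop :=
  ∀ r ∈ R, ∃ n : ℕ, ρ r ^ p ^ n = 1

theorem isPAct_iff_isPGroup {G : Type*} [Group G] (φ : H →* G) (R : Subgroup H) :
    IsPAct p φ R ↔ IsPGroup p (R.map φ) := by
  constructor
  · rintro h ⟨_, r, hr, rfl⟩
    obtain ⟨n, hn⟩ := h r hr
    exact ⟨n, Subtype.ext hn⟩
  · intro h r hr
    obtain ⟨n, hn⟩ := h ⟨φ r, r, hr, rfl⟩
    exact ⟨n, congrArg Subtype.val hn⟩

/-- An endomorphism of prime-power order on an invariant submodule and on its quotient has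
prime-power order. -/
theorem pow_char_pow_eq_one_of_series {f : Module.End k W} {U : Submodule k W} {n : ℕ}
    (h1 : ∀ u ∈ U, (f ^ n) u = u) (h2 : ∀ w, (f ^ n) w - w ∈ U) : f ^ (n * p) = 1 := by
  have hz : (f ^ n - 1) * (f ^ n - 1) = 0 := LinearMap.ext fun w => by
    show (f ^ n - 1) ((f ^ n - 1) w) = 0
    simp only [LinearMap.sub_apply, Module.End.one_apply]
    exact sub_eq_zero.mpr (h1 _ (h2 w))
  haveI : CharP (Module.End k W) p ∨ Subsingleton (Module.End k W) := by
    rcases subsingleton_or_nontrivial W with h | h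
    · exact Or.inr inferInstance
    · exact Or.inl (charP_of_injective_algebraMap
        (FaithfulSMul.algebraMap_injective k (Module.End k W)) p)
  rcases this with h | h
  · have := sub_pow_char_of_commute (p := p) (Commute.one_right (f ^ n))
    rw [one_pow, ← pow_mul] at this
    have h0 : (f ^ n - 1) ^ p = 0 := by
      have h2p := (Fact.out : p.Prime).two_le
      rw [← Nat.add_sub_of_le h2p, pow_add, sq, hz, zero_mul]
    rw [h0] at this
    exact sub_eq_zero.mp this.symm
  · exact Subsingleton.elim _ _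

section Sub

variable (ρ : H →* Module.End k W) {U : Submodule k W} (hU : ∀ h, ∀ u ∈ U, ρ h u ∈ U)

/-- Restriction of a representation to an invariant submodule. -/
def subRep : H →* Module.End k U where
  toFun h := (ρ h).restrict (hU h)
  map_one' := LinearMap.ext fun u => Subtype.ext (by simp)
  map_mul' x y := LinearMap.ext fun u => Subtype.ext (by simp)

/-- The representation on a quotient by an invariant submodule. -/
def quotRep : H →* Module.End k (W ⧸ U) where
  toFun h := U.mapQ U (ρ h) (hU h)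
  map_one' := by
    ext w
    simp
  map_mul' x y := by
    ext w
    simp

@[simp] theorem subRep_apply (h : H) (u : U) : (subRep ρ hU h u : W) = ρ h u := rfl

@[simp] theorem quotRep_mk (h : H) (w : W) :
    quotRep ρ hU h (Submodule.Quotient.mk w) = Submodule.Quotient.mk (ρ h w) := rfl

theorem isPAct_of_series {R : Subgroup H} (h1 : IsPAct p (subRep ρ hU) R)
    (h2 : IsPAct p (quotRep ρ hU) R) : IsPAct p ρ R := by
  intro r hr
  obtain ⟨m, hm⟩ := h1 r hr
  obtain ⟨n, hn⟩ := h2 r hr
  refine ⟨m + n + 1, ?_⟩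
  rw [pow_succ p]
  refine pow_char_pow_eq_one_of_series (U := U) (fun u hu => ?_) (fun w => ?_)
  · have h3 : subRep ρ hU r ^ p ^ (m + n) = 1 := by rw [pow_add, pow_mul, hm, one_pow]
    rw [← map_pow] at h3 ⊢
    exact congrArg Subtype.val (LinearMap.congr_fun h3 ⟨u, hu⟩)
  · have h3 : quotRep ρ hU r ^ p ^ (m + n) = 1 := by
      rw [pow_add, mul_comm, pow_mul, hn, one_pow]
    rw [← map_pow] at h3 ⊢
    exact (Submodule.Quotient.eq U).mp (LinearMap.congr_fun h3 (Submodule.Quotient.mk w))

theorem ker_le_ker_subRep : ρ.ker ≤ (subRep ρ hU).ker := fun h hh => by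
  rw [MonoidHom.mem_ker] at hh ⊢
  ext u; simp [hh]

theorem ker_le_ker_quotRep : ρ.ker ≤ (quotRep ρ hU).ker := fun h hh => by
  rw [MonoidHom.mem_ker] at hh ⊢
  ext w; simp [hh]

theorem aeval_subRep_apply (g : H) (f : k[X]) (u : U) :
    (aeval (subRep ρ hU g) f u : W) = aeval (ρ g) f (u : W) := by
  induction f using Polynomial.induction_on' with
  | add f g hf hg => simp [hf, hg]
  | monomial n c =>
    rw [aeval_monomial, aeval_monomial, Module.algebraMap_end_eq_smul_id]
    simp only [LinearMap.smul_apply, LinearMap.id_coe, id_eq, Module.End.mul_apply,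
      Submodule.coe_smul]
    congr 1
    rw [← map_pow, ← map_pow]
    rfl

theorem aeval_quotRep_apply (g : H) (f : k[X]) (w : W) :
    aeval (quotRep ρ hU g) f (Submodule.Quotient.mk w) =
      Submodule.Quotient.mk (aeval (ρ g) f w) := by
  induction f using Polynomial.induction_on' with
  | add f g hf hg => simp [hf, hg]
  | monomial n c =>
    rw [aeval_monomial, aeval_monomial, Module.algebraMap_end_eq_smul_id, ← map_pow, ← map_pow]
    simp only [LinearMap.smul_apply, LinearMap.id_coe, id_eq, Module.End.mul_apply]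
    congr 1

end Sub

/-- A split polynomial annihilating `f` yields an eigenvector. -/
theorem exists_eigenvector_of_splits [Nontrivial W] (f : Module.End k W) (q : k[X]) (hq : q ≠ 0)
    (hs : q.Splits) (h0 : aeval f q = 0) : ∃ (μ : k) (v : W), v ≠ 0 ∧ f v = μ • v := by
  have key : ∀ s : Multiset k, aeval f (s.map (fun a => X - C a)).prod = 0 →
      ∃ (μ : k) (v : W), v ≠ 0 ∧ f v = μ • v := by
    intro s
    induction s using Multiset.induction with
    | empty =>
      intro h
      simp only [Multiset.map_zero, Multiset.prod_zero, map_one] at h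
      exact absurd h one_ne_zero
    | cons c s ih =>
      intro h
      rw [Multiset.map_cons, Multiset.prod_cons, map_mul] at h
      by_cases h2 : aeval f (s.map (fun a => X - C a)).prod = 0
      · exact ih h2
      · obtain ⟨w, hw⟩ : ∃ w, aeval f (s.map (fun a => X - C a)).prod w ≠ 0 := by
          by_contra hc
          push Not at hc
          exact h2 (LinearMap.ext hc)
        refine ⟨c, _, hw, ?_⟩
        have h3 := LinearMap.congr_fun h w
        simp only [map_sub, aeval_X, aeval_C, Module.algebraMap_end_eq_smul_id,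
          Module.End.mul_apply, LinearMap.sub_apply, LinearMap.smul_apply, LinearMap.id_coe, id_eq,
          LinearMap.zero_apply] at h3
        exact sub_eq_zero.mp h3
  rw [hs.eq_prod_roots, map_mul, aeval_C] at h0
  exact key _ ((((isUnit_iff_ne_zero.mpr (leadingCoeff_ne_zero.mpr hq)).map
    (algebraMap k (Module.End k W))).mul_right_eq_zero).mp h0)

theorem map_eq_one_of_closure_eq_top {M : Type*} [Monoid M] (f : H →* M) {a b : H}
    (hgen : Subgroup.closure {a, b} = ⊤) (ha : f a = 1) (hb : f b = 1) (h : H) : f h = 1 := by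
  have hle : Subgroup.closure {a, b} ≤ f.ker := by
    rw [Subgroup.closure_le]
    rintro x (rfl | rfl)
    exacts [ha, hb]
  exact hle (hgen.symm ▸ Subgroup.mem_top h)

theorem rep_inv_eq (ρ : H →* Module.End k W) {a : H} (ha : (ρ a - 1) * (ρ a - 1) = 0) :
    ρ a⁻¹ = 1 + 1 - ρ a := by
  have h1 : (1 + 1 - ρ a) * ρ a = 1 := by
    have : (1 + 1 - ρ a) * ρ a = 1 - (ρ a - 1) * (ρ a - 1) := by noncomm_ring
    rw [this, ha, sub_zero]
  have h2 : ρ a * ρ a⁻¹ = 1 := by rw [← map_mul, mul_inv_cancel, map_one]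
  exact (left_inv_eq_right_inv h1 h2).symm

theorem invariant_of_generators (ρ : H →* Module.End k W) {a b : H}
    (hgen : Subgroup.closure {a, b} = ⊤) (ha : (ρ a - 1) * (ρ a - 1) = 0)
    (hb : (ρ b - 1) * (ρ b - 1) = 0) {U : Submodule k W} (hUa : ∀ u ∈ U, ρ a u ∈ U)
    (hUb : ∀ u ∈ U, ρ b u ∈ U) (h : H) : ∀ u ∈ U, ρ h u ∈ U := by
  let S : Subgroup H :=
    { carrier := {x | (∀ u ∈ U, ρ x u ∈ U) ∧ (∀ u ∈ U, ρ x⁻¹ u ∈ U)}
      one_mem' := ⟨fun u hu => by simpa using hu, fun u hu => by simpa using hu⟩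
      mul_mem' := fun {x y} hx hy => ⟨fun u hu => by
          rw [map_mul]; exact hx.1 _ (hy.1 u hu), fun u hu => by
          rw [mul_inv_rev, map_mul]; exact hy.2 _ (hx.2 u hu)⟩
      inv_mem' := fun {x} hx => ⟨hx.2, fun u hu => by rw [inv_inv]; exact hx.1 u hu⟩ }
  have hle : Subgroup.closure {a, b} ≤ S := by
    rw [Subgroup.closure_le]
    rintro x (rfl | rfl)
    · refine ⟨hUa, fun u hu => ?_⟩
      rw [rep_inv_eq ρ ha]
      exact U.sub_mem (U.add_mem hu hu) (hUa u hu)
    · refine ⟨hUb, fun u hu => ?_⟩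
      rw [rep_inv_eq ρ hb]
      exact U.sub_mem (U.add_mem hu hu) (hUb u hu)
  exact (hle (hgen.symm ▸ Subgroup.mem_top h)).1

theorem det_eq_one_of_sq_eq_zero {M : Matrix (Fin 2) (Fin 2) k} (h : (M - 1) * (M - 1) = 0) :
    M.det = 1 := by
  have h00 := congrFun (congrFun h 0) 0
  have h01 := congrFun (congrFun h 0) 1
  have h10 := congrFun (congrFun h 1) 0
  have h11 := congrFun (congrFun h 1) 1
  simp [Matrix.mul_apply, Fin.sum_univ_two] at h00 h01 h10 h11
  rw [Matrix.det_fin_two]
  by_cases hb : M 0 1 = 0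
  · rw [hb] at h00 h11
    simp at h00 h11
    rw [hb, sub_eq_zero.mp h00, sub_eq_zero.mp h11]
    ring
  · have e : M 0 0 + M 1 1 = 2 := by
      have : M 0 1 * (M 0 0 + M 1 1 - 2) = 0 := by linear_combination h01
      linear_combination (mul_eq_zero.mp this).resolve_left hb
    linear_combination (M 0 0) * e - h00

theorem two_dim_of_irreducible (ρ : H →* Module.End k W) {a b : H}
    (hgen : Subgroup.closure {a, b} = ⊤) (ha : (ρ a - 1) * (ρ a - 1) = 0)
    (hb : (ρ b - 1) * (ρ b - 1) = 0) (R : Subgroup H) (hR : ¬ IsPAct p ρ R)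
    (hirr : ∀ U : Submodule k W, (∀ h, ∀ u ∈ U, ρ h u ∈ U) → U = ⊥ ∨ U = ⊤)
    (heig : ∃ (μ : k) (v : W), v ≠ 0 ∧ ρ (a * b) v = μ • v) :
    ∃ φ : H →* SL(2, k),
      (φ a : Matrix (Fin 2) (Fin 2) k) = !![1, 1; 0, 1] ∧
      ((φ b : Matrix (Fin 2) (Fin 2) k) - 1) * ((φ b : Matrix (Fin 2) (Fin 2) k) - 1) = 0 ∧
      (∃ g : H, φ g 1 0 ≠ 0) ∧ ¬ IsPAct p φ R ∧ ρ.ker ≤ φ.ker := by
  set N := ρ a - 1 with hN
  have hNN : ∀ w, N (N w) = 0 := fun w => LinearMap.congr_fun ha w
  have hMM : ∀ w, (ρ b - 1) ((ρ b - 1) w) = 0 := fun w => LinearMap.congr_fun hb w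
  have hA : ∀ w, ρ a w = w + N w := fun w => by simp [hN]
  -- no nonzero common fixed vector
  have hfix : ∀ w, N w = 0 → (ρ b - 1) w = 0 → w = 0 := by
    let U : Submodule k W := LinearMap.ker N ⊓ LinearMap.ker (ρ b - 1)
    have hUfix : ∀ h, ∀ u ∈ U, ρ h u ∈ U := invariant_of_generators ρ hgen ha hb
      (fun u hu => by rwa [hA u, LinearMap.mem_ker.mp hu.1, add_zero])
      (fun u hu => by
        have : ρ b u = u := sub_eq_zero.mp (LinearMap.mem_ker.mp hu.2)
        rwa [this])
    rcases hirr U hUfix with h | h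
    · intro w h1 h2
      have : w ∈ U := ⟨h1, h2⟩
      rwa [h, Submodule.mem_bot] at this
    · refine absurd (fun r _ => ⟨0, ?_⟩) hR
      rw [pow_zero, pow_one]
      refine map_eq_one_of_closure_eq_top ρ hgen (LinearMap.ext fun w => ?_)
        (LinearMap.ext fun w => ?_) r
      · have : w ∈ U := h ▸ Submodule.mem_top
        rw [hA, LinearMap.mem_ker.mp this.1, add_zero, Module.End.one_apply]
      · have : w ∈ U := h ▸ Submodule.mem_top
        exact sub_eq_zero.mp (LinearMap.mem_ker.mp this.2)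
  obtain ⟨μ, v, hv, hev⟩ := heig
  rw [map_mul, Module.End.mul_apply] at hev
  have hμ : μ ≠ 0 := by
    rintro rfl
    rw [zero_smul] at hev
    have h1 : ρ b⁻¹ (ρ a⁻¹ (ρ a (ρ b v))) = v := by
      simp [← Module.End.mul_apply, ← map_mul]
    rw [hev, map_zero, map_zero] at h1
    exact hv h1.symm
  have hN0 : N ≠ 0 := by
    intro h0
    have h1 : (ρ b - 1) v = 0 := hfix _ (by simp [h0]) (hMM v)
    exact hv (hfix v (by simp [h0]) h1)
  let U : Submodule k W := Submodule.span k (Set.range ![N v, v])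
  have hNvU : N v ∈ U := Submodule.subset_span ⟨0, rfl⟩
  have hvU : v ∈ U := Submodule.subset_span ⟨1, rfl⟩
  have hb1 : ρ b v = μ • (v - N v) := by
    have h1 : ρ a⁻¹ (ρ a (ρ b v)) = ρ b v := by simp [← Module.End.mul_apply, ← map_mul]
    rw [hev, map_smul, rep_inv_eq ρ ha] at h1
    rw [← h1, hN]
    simp
    module
  have hb2 : ρ b (N v) ∈ U := by
    have e : N v = v - μ⁻¹ • ρ b v := by
      rw [hb1, smul_smul, inv_mul_cancel₀ hμ, one_smul]; abel
    have h2 : ρ b (ρ b v) = ρ b v + ρ b v - v := by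
      have := hMM v
      simp only [LinearMap.sub_apply, Module.End.one_apply, map_sub] at this
      linear_combination (norm := abel) this
    have hbU : ρ b v ∈ U := hb1 ▸ U.smul_mem μ (U.sub_mem hvU hNvU)
    rw [e, map_sub, map_smul, h2]
    exact U.sub_mem hbU (U.smul_mem _ (U.sub_mem (U.add_mem hbU hbU) hvU))
  have hUinv : ∀ h, ∀ u ∈ U, ρ h u ∈ U := by
    refine invariant_of_generators ρ hgen ha hb (fun u hu => ?_) (fun u hu => ?_)
    · suffices h : U ≤ U.comap (ρ a) from h hu
      rw [Submodule.span_le]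
      rintro _ ⟨i, rfl⟩
      fin_cases i
      · show ρ a (N v) ∈ U
        rw [hA, hNN, add_zero]; exact hNvU
      · show ρ a v ∈ U
        rw [hA]; exact U.add_mem hvU hNvU
    · suffices h : U ≤ U.comap (ρ b) from h hu
      rw [Submodule.span_le]
      rintro _ ⟨i, rfl⟩
      fin_cases i
      · exact hb2
      · show ρ b v ∈ U
        exact hb1 ▸ U.smul_mem μ (U.sub_mem hvU hNvU)
  have hUtop : U = ⊤ :=
    (hirr U hUinv).resolve_left fun h => hv (by simpa [h] using hvU)
  have hli : LinearIndependent k ![N v, v] := by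
    rw [LinearIndependent.pair_iff]
    intro s t hst
    have h1 := congrArg N hst
    rw [map_add, map_smul, map_smul, hNN, smul_zero, zero_add, map_zero] at h1
    rcases smul_eq_zero.mp h1 with ht | hNv
    · rw [ht, zero_smul, add_zero] at hst
      refine ⟨?_, ht⟩
      rcases smul_eq_zero.mp hst with hs | hNv
      · exact hs
      · exfalso
        refine hN0 (LinearMap.ext fun w => ?_)
        have hw : w ∈ U := hUtop ▸ Submodule.mem_top
        suffices h : U ≤ LinearMap.ker N from h hw
        rw [Submodule.span_le]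
        rintro _ ⟨i, rfl⟩
        fin_cases i
        · exact hNN v
        · exact hNv
    · exfalso
      refine hN0 (LinearMap.ext fun w => ?_)
      have hw : w ∈ U := hUtop ▸ Submodule.mem_top
      suffices h : U ≤ LinearMap.ker N from h hw
      rw [Submodule.span_le]
      rintro _ ⟨i, rfl⟩
      fin_cases i
      · exact hNN v
      · exact hNv
  let e : Module.Basis (Fin 2) k W := Module.Basis.mk hli hUtop.ge
  let M := LinearMap.toMatrixAlgEquiv e
  let D : H →* k := Matrix.detMonoidHom.comp ((M.toMonoidHom).comp ρ)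
  have hMa : M (ρ a) = !![1, 1; 0, 1] := by
    have he0 : e 0 = N v := Module.Basis.mk_apply ..
    have he1 : e 1 = v := Module.Basis.mk_apply ..
    have h0 : ρ a (e 0) = e 0 := by rw [he0, hA, hNN, add_zero]
    have h1 : ρ a (e 1) = e 1 + e 0 := by rw [he0, he1, hA]
    ext i j
    fin_cases i <;> fin_cases j <;> simp [M, LinearMap.toMatrixAlgEquiv_apply, h0, h1]
  have hMb : (M (ρ b) - 1) * (M (ρ b) - 1) = 0 := by
    rw [← map_one M, ← map_sub, ← map_mul, hb, map_zero]
  have hD : ∀ h, D h = 1 := map_eq_one_of_closure_eq_top D hgen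
    (by show (M (ρ a)).det = 1; rw [hMa, Matrix.det_fin_two]; simp)
    (det_eq_one_of_sq_eq_zero hMb)
  let φ : H →* SL(2, k) :=
    { toFun := fun h => ⟨M (ρ h), hD h⟩
      map_one' := Subtype.ext (by simp)
      map_mul' := fun x y => Subtype.ext (by show M (ρ (x * y)) = M (ρ x) * M (ρ y); rw [map_mul, map_mul]) }
  have hφR : ¬ IsPAct p φ R := fun h => hR fun r hr => by
    obtain ⟨n, hn⟩ := h r hr
    refine ⟨n, M.injective ?_⟩
    rw [map_pow, map_one]
    exact congrArg Subtype.val hn
  refine ⟨φ, hMa, hMb, ?_, hφR, fun h hh => Subtype.ext (by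
    show M (ρ h) = 1
    rw [MonoidHom.mem_ker.mp hh, map_one])⟩
  by_contra hcon
  push Not at hcon
  let d : H →* k :=
    { toFun := fun h => M (ρ h) 0 0
      map_one' := by simp
      map_mul' := fun x y => by
        have : M (ρ y) 1 0 = 0 := hcon y
        simp [Matrix.mul_apply, Fin.sum_univ_two, this] }
  have hd : ∀ h, d h = 1 := by
    refine map_eq_one_of_closure_eq_top d hgen ?_ ?_
    · show M (ρ a) 0 0 = 1
      simp [hMa]
    · show M (ρ b) 0 0 = 1
      have h00 := congrFun (congrFun hMb 0) 0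
      have hb10 : M (ρ b) 1 0 = 0 := hcon b
      simp [Matrix.mul_apply, Fin.sum_univ_two, hb10] at h00
      exact sub_eq_zero.mp h00
  refine hφR fun r _ => ⟨1, Subtype.ext ?_⟩
  have h11 : M (ρ r) 1 1 = 1 := by
    have := hD r
    change (M (ρ r)).det = 1 at this
    have h10 : M (ρ r) 1 0 = 0 := hcon r
    have h00 : M (ρ r) 0 0 = 1 := hd r
    rwa [Matrix.det_fin_two, h10, mul_zero, sub_zero, h00, one_mul] at this
  have hsq : (M (ρ r) - 1) * (M (ρ r) - 1) = 0 := by
    have h10 : M (ρ r) 1 0 = 0 := hcon r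
    have h00 : M (ρ r) 0 0 = 1 := hd r
    ext i j
    fin_cases i <;> fin_cases j <;> simp [Matrix.mul_apply, Fin.sum_univ_two, h10, h00, h11]
  show M (ρ r) ^ p ^ 1 = 1
  rw [pow_one]
  have h1 := sub_pow_char_of_commute (p := p) (Commute.one_right (M (ρ r)))
  have h2p := (Fact.out : p.Prime).two_le
  rw [one_pow, ← Nat.add_sub_of_le h2p, pow_add, sq, hsq, zero_mul,
    Nat.add_sub_of_le h2p] at h1
  exact sub_eq_zero.mp h1.symm

theorem exists_two_dim [Module.Finite k W] (ρ : H →* Module.End k W) {a b : H}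
    (hgen : Subgroup.closure {a, b} = ⊤) (ha : (ρ a - 1) * (ρ a - 1) = 0)
    (hb : (ρ b - 1) * (ρ b - 1) = 0) (R : Subgroup H) (hR : ¬ IsPAct p ρ R)
    (hsplit : ∃ q : k[X], q ≠ 0 ∧ q.Splits ∧ aeval (ρ (a * b)) q = 0) :
    ∃ φ : H →* SL(2, k),
      (φ a : Matrix (Fin 2) (Fin 2) k) = !![1, 1; 0, 1] ∧
      ((φ b : Matrix (Fin 2) (Fin 2) k) - 1) * ((φ b : Matrix (Fin 2) (Fin 2) k) - 1) = 0 ∧
      (∃ g : H, φ g 1 0 ≠ 0) ∧ ¬ IsPAct p φ R ∧ ρ.ker ≤ φ.ker := by
  induction hn : Module.finrank k W using Nat.strong_induction_on generalizing W with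
  | h n ih =>
    subst hn
    obtain ⟨q, hq, hqs, hq0⟩ := hsplit
    by_cases hirr : ∀ U : Submodule k W, (∀ h, ∀ u ∈ U, ρ h u ∈ U) → U = ⊥ ∨ U = ⊤
    · haveI : Nontrivial W := by
        by_contra hW
        rw [not_nontrivial_iff_subsingleton] at hW
        exact hR fun r _ => ⟨0, Subsingleton.elim _ _⟩
      exact two_dim_of_irreducible ρ hgen ha hb R hR hirr
        (exists_eigenvector_of_splits _ q hq hqs hq0)
    · push Not at hirr
      obtain ⟨U, hU, hU0, hU1⟩ := hirr
      have hlt : Module.finrank k U < Module.finrank k W := Submodule.finrank_lt hU1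
      have hlt' : Module.finrank k (W ⧸ U) < Module.finrank k W := by
        have h1 := Submodule.finrank_quotient_add_finrank U
        have h2 : 0 < Module.finrank k U := by
          rw [Module.finrank_pos_iff_exists_ne_zero]
          obtain ⟨x, hx, hx0⟩ := Submodule.exists_mem_ne_zero_of_ne_bot hU0
          exact ⟨⟨x, hx⟩, fun h => hx0 (congrArg Subtype.val h)⟩
        omega
      by_cases h1 : IsPAct p (subRep ρ hU) R
      · have h2 : ¬ IsPAct p (quotRep ρ hU) R := fun h2 => hR (isPAct_of_series ρ hU h1 h2)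
        obtain ⟨φ, r1, r2, r3, r4, r5⟩ := ih _ hlt' (quotRep ρ hU)
          (by
            refine Submodule.linearMap_qext _ (LinearMap.ext fun w => ?_)
            have := congrArg (Submodule.Quotient.mk (p := U)) (LinearMap.congr_fun ha w)
            simpa using this)
          (by
            refine Submodule.linearMap_qext _ (LinearMap.ext fun w => ?_)
            have := congrArg (Submodule.Quotient.mk (p := U)) (LinearMap.congr_fun hb w)
            simpa using this)
          h2
          ⟨q, hq, hqs, by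
            refine Submodule.linearMap_qext _ (LinearMap.ext fun w => ?_)
            simp only [LinearMap.comp_apply, Submodule.mkQ_apply, aeval_quotRep_apply, hq0]
            simp⟩
          rfl
        exact ⟨φ, r1, r2, r3, r4, (ker_le_ker_quotRep ρ hU).trans r5⟩
      · obtain ⟨φ, r1, r2, r3, r4, r5⟩ := ih _ hlt (subRep ρ hU)
          (LinearMap.ext fun u => Subtype.ext (by
            have := LinearMap.congr_fun ha (u : W)
            simpa using this))
          (LinearMap.ext fun u => Subtype.ext (by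
            have := LinearMap.congr_fun hb (u : W)
            simpa using this))
          h1
          ⟨q, hq, hqs, LinearMap.ext fun u => Subtype.ext (by
            rw [aeval_subRep_apply, hq0]; simp)⟩
          rfl
        exact ⟨φ, r1, r2, r3, r4, (ker_le_ker_subRep ρ hU).trans r5⟩

end Cfsg.Agent.Thompson
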