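import Mathlib
import Cfsg.Prelude.Def_Local
import Cfsg.Prelude.Def_PLocal
import Cfsg.Agent.Lib.Thompson.Basic
import Cfsg.Agent.Lib.Thompson.Cores
import Cfsg.Agent.Lib.Thompson.PSolvable
import Cfsg.Agent.Lib.Thompson.QuadPair
import Cfsg.Agent.PLocalB.SL2Dickson
import Cfsg.Agent.Lib.Involution.BaerSuzuki

/-!
Groups generated by two quadratically acting elements: sections isomorphic to `SL(2, p)`,
non-abelian Sylow 2-subgroups, and `p = 3` in the presence of a moved normal `p'`-subgroup.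
-/

set_option autoImplicit false
set_option linter.unusedVariables false
set_option linter.style.haveILetI false
set_option linter.unreachableTactic false
set_option linter.unusedTactic false
set_option linter.unnecessarySeqFocus false

namespace Cfsg.Agent.Thompson

open Cfsg
open scoped MatrixGroups commutatorElement

variable {p : ℕ} [Fact p.Prime]

theorem exists_matrix_rep {W : Type*} [AddCommGroup W] [Module (ZMod p) W] [Finite W]
    {A : Type*} [Group A] (θ : A → W →+ W) (hone : ∀ w, θ 1 w = w)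
    (hmul : ∀ x y w, θ (x * y) w = θ x (θ y w)) :
    ∃ (n : ℕ) (ρ : A →* Module.End (AlgebraicClosure (ZMod p)) (Fin n → AlgebraicClosure (ZMod p))),
      (∀ h : A, ρ h = 1 ↔ ∀ w, θ h w = w) ∧
      (∀ a : A, (∀ w : W, θ a (θ a w - w) = θ a w - w) → (ρ a - 1) * (ρ a - 1) = 0) := by
  classical
  let σ : A →* Module.End (ZMod p) W :=
    { toFun := fun h => AddMonoidHom.toZModLinearMap p (θ h)
      map_one' := LinearMap.ext fun v => by
        simp [hone]
      map_mul' := fun x y => LinearMap.ext fun v => by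
        simp [hmul] }
  have hσ : ∀ (h : A) (w : W), σ h w = θ h w := fun h w =>
    congrFun (AddMonoidHom.coe_toZModLinearMap p (θ h)) w
  let e := Module.finBasis (ZMod p) W
  set n := Module.finrank (ZMod p) W
  let F : Module.End (ZMod p) W →+*
      Module.End (AlgebraicClosure (ZMod p)) (Fin n → AlgebraicClosure (ZMod p)) :=
    (Matrix.toLinAlgEquiv' (R := AlgebraicClosure (ZMod p))).toRingEquiv.toRingHom.comp
      ((algebraMap (ZMod p) (AlgebraicClosure (ZMod p))).mapMatrix.comp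
        (LinearMap.toMatrixAlgEquiv e).toRingEquiv.toRingHom)
  have hF : Function.Injective F :=
    (Matrix.toLinAlgEquiv' (R := AlgebraicClosure (ZMod p))).injective.comp
      ((Matrix.map_injective (algebraMap (ZMod p) (AlgebraicClosure (ZMod p))).injective).comp
        (LinearMap.toMatrixAlgEquiv e).injective)
  have h1F : F 1 = 1 := F.map_one
  refine ⟨n, F.toMonoidHom.comp σ, fun h => ?_, fun a hq => ?_⟩
  · show F (σ h) = 1 ↔ _
    rw [← h1F, hF.eq_iff, LinearMap.ext_iff]
    simp only [hσ, Module.End.one_apply]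
  · have h0 : (σ a - 1) * (σ a - 1) = 0 := by
      refine LinearMap.ext fun v => ?_
      show (σ a - 1) ((σ a - 1) v) = 0
      simp only [LinearMap.sub_apply, Module.End.one_apply, hσ, hq, sub_self]
    show (F (σ a) - 1) * (F (σ a) - 1) = 0
    rw [← h1F, ← map_sub, ← map_mul, h0, map_zero]

theorem exists_linear_rep_of_action {M : Type*} [CommGroup M] [Finite M] {A : Type*} [Group A]
    (hM : ∀ m : M, m ^ p = 1) (act : A →* MulAut M) :
    ∃ (n : ℕ) (ρ : A →* Module.End (AlgebraicClosure (ZMod p)) (Fin n → AlgebraicClosure (ZMod p))),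
      (∀ h : A, ρ h = 1 ↔ act h = 1) ∧
      (∀ a : A, (∀ m : M, act a (act a m / m) = act a m / m) → (ρ a - 1) * (ρ a - 1) = 0) := by
  let θ : A → Additive M →+ Additive M := fun h =>
    AddMonoidHom.mk' (fun v : Additive M => Additive.ofMul (act h v.toMul)) (fun v w => by simp)
  haveI : Finite (Additive M) := inferInstanceAs (Finite M)
  obtain ⟨n, ρ, h1, h2⟩ := @exists_matrix_rep p _ (Additive M) _
    (AddCommGroup.zmodModule fun x => congrArg Additive.ofMul (hM x.toMul)) _ _ _ θ
    (fun v => by simp [θ]) (fun x y v => by simp [θ])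
  refine ⟨n, ρ, fun h => (h1 h).trans ?_, fun a hq => h2 a fun w => ?_⟩
  · constructor
    · intro hh
      exact MulEquiv.ext fun m => Additive.ofMul.injective (hh (Additive.ofMul m))
    · intro hh v
      simp [θ, hh]
  · exact congrArg Additive.ofMul (hq w.toMul)

/-- The conjugation action on an elementary abelian subgroup, linearised over the algebraic
closure of `F_p`. -/
theorem exists_linear_rep {G : Type*} [Group G] [Finite G] (V H : Subgroup G)
    (hV : IsElementaryAbelian p V) (hHV : H ≤ Subgroup.normalizer (V : Set G)) :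
    ∃ (n : ℕ) (ρ : H →* Module.End (AlgebraicClosure (ZMod p)) (Fin n → AlgebraicClosure (ZMod p))),
      (∀ h : H, ρ h = 1 ↔ (h : G) ∈ Subgroup.centralizer (V : Set G)) ∧
      (∀ a : H, ⁅⁅V, Subgroup.zpowers (a : G)⁆, Subgroup.zpowers (a : G)⁆ = ⊥ →
        (ρ a - 1) * (ρ a - 1) = 0) := by
  haveI := hV.1
  letI : CommGroup V :=
    { (inferInstance : Group V) with
      mul_comm := fun x y => Subtype.ext (elemAb_comm hV.1 x.2 y.2) }
  let act : H →* MulAut V :=
    { toFun := fun h =>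
        { toFun := fun v => ⟨(h : G) * v * (h : G)⁻¹, conj_mem_of_le_normalizer hHV h.2 v.2⟩
          invFun := fun v => ⟨(h : G)⁻¹ * v * h, conj_inv_mem_of_le_normalizer hHV h.2 v.2⟩
          left_inv := fun v => Subtype.ext (by simp [mul_assoc])
          right_inv := fun v => Subtype.ext (by simp [mul_assoc])
          map_mul' := fun v w => Subtype.ext (by simp [mul_assoc]) }
      map_one' := MulEquiv.ext fun v => Subtype.ext (by simp)
      map_mul' := fun x y => MulEquiv.ext fun v => Subtype.ext (by simp [mul_assoc]) }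
  obtain ⟨n, ρ, h1, h2⟩ := exists_linear_rep_of_action
    (p := p) (fun v : V => Subtype.ext (hV.2 _ v.2)) act
  refine ⟨n, ρ, fun h => (h1 h).trans ?_, fun a hq => h2 a fun v => Subtype.ext ?_⟩
  · rw [Subgroup.mem_centralizer_iff]
    constructor
    · intro hh v hv
      have h3 : (h : G) * v * (h : G)⁻¹ = v :=
        congrArg Subtype.val (MulEquiv.congr_fun hh ⟨v, hv⟩)
      exact (mul_inv_eq_iff_eq_mul.mp h3).symm
    · intro hh
      refine MulEquiv.ext fun v => Subtype.ext ?_
      show (h : G) * (v : G) * (h : G)⁻¹ = (v : G)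
      rw [← hh _ v.2, mul_inv_cancel_right]
  · have hm : ⁅(a : G), (v : G)⁆ ∈ ⁅V, Subgroup.zpowers (a : G)⁆ := by
      rw [Subgroup.commutator_comm]
      exact Subgroup.commutator_mem_commutator (Subgroup.mem_zpowers _) v.2
    have hc := Subgroup.mem_centralizer_iff.mp
      (Subgroup.commutator_eq_bot_iff_le_centralizer.mp hq hm) _ (Subgroup.mem_zpowers _)
    have hd : ((act a v / v : V) : G) = ⁅(a : G), (v : G)⁆ := by
      rw [div_eq_mul_inv, commutatorElement_def]
      rfl
    show (a : G) * ((act a v / v : V) : G) * (a : G)⁻¹ = _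
    rw [hd, hc, mul_inv_cancel_right]

variable {H : Type*} [Group H]

theorem exists_quad_hom {W : Type*} [AddCommGroup W] [Module (AlgebraicClosure (ZMod p)) W]
    [Module.Finite (AlgebraicClosure (ZMod p)) W] (ρ : H →* Module.End (AlgebraicClosure (ZMod p)) W)
    {a b : H} (hgen : Subgroup.closure {a, b} = ⊤) (ha : (ρ a - 1) * (ρ a - 1) = 0)
    (hb : (ρ b - 1) * (ρ b - 1) = 0) (R : Subgroup H) (hR : ¬ IsPAct p ρ R) :
    ∃ φ : H →* SL(2, AlgebraicClosure (ZMod p)),
      φ a = PLocalB.upper 1 ∧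
      ((φ b : Matrix (Fin 2) (Fin 2) (AlgebraicClosure (ZMod p))) - 1) *
        ((φ b : Matrix (Fin 2) (Fin 2) (AlgebraicClosure (ZMod p))) - 1) = 0 ∧
      (∃ g : H, φ g 1 0 ≠ 0) ∧ ¬ IsPAct p φ R ∧ ρ.ker ≤ φ.ker := by
  obtain ⟨φ, h1, h2, h3, h4, h5⟩ := exists_two_dim ρ hgen ha hb R hR
    ⟨minpoly _ (ρ (a * b)), minpoly.ne_zero (Algebra.IsIntegral.isIntegral _),
      IsAlgClosed.splits _, minpoly.aeval _ _⟩
  exact ⟨φ, Subtype.ext h1, h2, h3, h4, h5⟩

/-- A subgroup of `H` mapping onto a conjugate of `SL(2, p)`. -/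
theorem exists_prime_sl_cover [Finite H] (hp : p ≠ 2)
    (φ : H →* SL(2, AlgebraicClosure (ZMod p))) (M : Subgroup H) {a g : H} (ha : a ∈ M)
    (hφa : φ a = PLocalB.upper 1) (hg : g ∈ M) (hmove : φ g 1 0 ≠ 0) :
    ∃ (K : Subgroup H) (f : K →* SL(2, ZMod p)), K ≤ M ∧ Function.Surjective f ∧
      ∀ x : K, f x = 1 ↔ φ x = 1 := by
  haveI : Finite (M.map φ) := Finite.of_surjective _ (φ.subgroupMap_surjective M)
  obtain ⟨t, ht⟩ := PLocalB.containsPrimeSL_of_upper (p := p) hp (M.map φ)
    ⟨a, ha, hφa⟩ ⟨φ g, ⟨g, hg, rfl⟩, hmove⟩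
  let j : SL(2, ZMod p) →* SL(2, AlgebraicClosure (ZMod p)) :=
    (MulAut.conj t⁻¹).toMonoidHom.comp (PLocalB.primeEmb p (AlgebraicClosure (ZMod p)))
  have hj : Function.Injective j :=
    (MulAut.conj t⁻¹).injective.comp (PLocalB.primeEmb_injective)
  have hjM : ∀ x, j x ∈ M.map φ := fun x => by
    simpa [j, MulAut.conj_apply] using ht x
  refine ⟨M ⊓ j.range.comap φ, (MonoidHom.ofInjective hj).symm.toMonoidHom.comp
    ((φ.comp (M ⊓ j.range.comap φ).subtype).codRestrict j.range fun x => x.2.2),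
    inf_le_left, ?_, ?_⟩
  · refine (MonoidHom.ofInjective hj).symm.surjective.comp ?_
    rintro ⟨_, x, rfl⟩
    obtain ⟨h, hh, hhx⟩ := hjM x
    exact ⟨⟨h, hh, x, hhx.symm⟩, Subtype.ext hhx⟩
  · intro x
    constructor
    · intro hx
      have h1 := (MonoidHom.ofInjective hj).symm.injective
        (hx.trans (map_one (MonoidHom.ofInjective hj).symm).symm)
      exact congrArg Subtype.val h1
    · intro hx
      have h1 : ((φ.comp (M ⊓ j.range.comap φ).subtype).codRestrict j.range fun x => x.2.2) x = 1 :=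
        Subtype.ext hx
      simp only [MonoidHom.comp_apply, h1]
      exact map_one _

theorem isPAct_top_range {M : Type*} [Group M] (φ : H →* M) :
    IsPAct p φ ⊤ ↔ IsPGroup p φ.range := by
  rw [isPAct_iff_isPGroup, ← MonoidHom.range_eq_map]

/-- If `f : K → Q` is surjective with `Q` having two non-commuting elements generating a 2-group,
the Sylow 2-subgroups of an overgroup of `K` are not abelian. -/
theorem not_isMulCommutative_sylow_of_cover [Finite H] {Q : Type*} [Group Q] (K : Subgroup H)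
    (f : K →* Q) (hf : Function.Surjective f) {x y : Q} (hxy : x * y ≠ y * x)
    (h2 : IsPGroup 2 (Subgroup.closure ({x, y} : Set Q))) (T : Sylow 2 H) :
    ¬ IsMulCommutative T := by
  intro hT
  obtain ⟨S⟩ := (inferInstance : Nonempty (Sylow 2 K))
  haveI : Finite Q := Finite.of_surjective f hf
  obtain ⟨P, hP⟩ := h2.exists_le_sylow
  obtain ⟨q, hq⟩ := MulAction.exists_smul_eq Q (S.mapSurjective hf) P
  obtain ⟨c, rfl⟩ := hf q
  have hS : (P : Subgroup Q) = ((c • S : Sylow 2 K) : Subgroup K).map f := by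
    rw [← hq, Sylow.coe_subgroup_smul, Sylow.coe_subgroup_smul, Sylow.coe_mapSurjective]
    ext z
    simp only [Subgroup.mem_map, Subgroup.mem_smul_pointwise_iff_exists, MulAut.smul_def]
    constructor
    · rintro ⟨_, ⟨w, hw, rfl⟩, rfl⟩
      exact ⟨_, ⟨w, hw, rfl⟩, by simp⟩
    · rintro ⟨_, ⟨w, hw, rfl⟩, rfl⟩
      exact ⟨_, ⟨w, hw, rfl⟩, by simp⟩
  obtain ⟨T', hT'⟩ := ((c • S : Sylow 2 K).isPGroup'.map K.subtype).exists_le_sylow
  obtain ⟨h, hh⟩ := MulAction.exists_smul_eq H T T'
  have hcomm : ∀ u v : H, u ∈ T' → v ∈ T' → u * v = v * u := by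
    intro u v hu hv
    rw [← hh] at hu hv
    obtain ⟨u', hu', rfl⟩ := hu
    obtain ⟨v', hv', rfl⟩ := hv
    show MulAut.conj h u' * MulAut.conj h v' = MulAut.conj h v' * MulAut.conj h u'
    rw [← map_mul, ← map_mul, elemAb_comm hT hu' hv']
  have hx : x ∈ ((c • S : Sylow 2 K) : Subgroup K).map f :=
    hS ▸ hP (Subgroup.subset_closure (Or.inl rfl))
  have hy : y ∈ ((c • S : Sylow 2 K) : Subgroup K).map f :=
    hS ▸ hP (Subgroup.subset_closure (Or.inr rfl))
  obtain ⟨u, hu, rfl⟩ := hx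
  obtain ⟨v, hv, rfl⟩ := hy
  refine hxy ?_
  rw [← map_mul, ← map_mul]
  exact congrArg f (Subtype.ext (hcomm _ _ (hT' ⟨u, hu, rfl⟩) (hT' ⟨v, hv, rfl⟩)))

/-- `SL(2, p)` has a non-abelian 2-subgroup for odd `p`. -/
theorem exists_quaternion_pair (hp : p ≠ 2) :
    ∃ x y : SL(2, ZMod p), x * y ≠ y * x ∧
      IsPGroup 2 (Subgroup.closure ({x, y} : Set SL(2, ZMod p))) := by
  obtain ⟨c, d, hcd⟩ := ZMod.sq_add_sq p (-1 : ZMod p)
  obtain ⟨x, hx⟩ : ∃ x : SL(2, ZMod p), (x : Matrix (Fin 2) (Fin 2) (ZMod p)) = !![0, -1; 1, 0] :=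
    ⟨⟨!![0, -1; 1, 0], by simp [Matrix.det_fin_two]⟩, rfl⟩
  obtain ⟨y, hy⟩ : ∃ y : SL(2, ZMod p), (y : Matrix (Fin 2) (Fin 2) (ZMod p)) = !![c, d; d, -c] :=
    ⟨⟨!![c, d; d, -c], by simp [Matrix.det_fin_two]; linear_combination -hcd⟩, rfl⟩
  have hxx : x * x = -1 := by
    apply Subtype.ext
    ext i j
    fin_cases i <;> fin_cases j <;> simp [hx, Matrix.SpecialLinearGroup.coe_mul, Matrix.mul_apply, Fin.sum_univ_two]
  have hyy : y * y = -1 := by
    apply Subtype.ext
    ext i j
    fin_cases i <;> fin_cases j <;>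
      simp [hy, Matrix.SpecialLinearGroup.coe_mul, Matrix.mul_apply, Fin.sum_univ_two] <;>
      first | linear_combination hcd | ring
  have hyx : y * x = -(x * y) := by
    apply Subtype.ext
    ext i j
    fin_cases i <;> fin_cases j <;> simp [hx, hy, Matrix.SpecialLinearGroup.coe_mul, Matrix.mul_apply, Fin.sum_univ_two]
  have h2 : (2 : ZMod p) ≠ 0 := by
    intro h
    have : ((2 : ℕ) : ZMod p) = 0 := by exact_mod_cast h
    rw [ZMod.natCast_eq_zero_iff] at this
    exact hp ((Nat.prime_dvd_prime_iff_eq Fact.out Nat.prime_two).mp this)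
  refine ⟨x, y, fun h => ?_, ?_⟩
  · have h3 : x * y = -(x * y) := h.trans hyx
    have key : ∀ i j, ((x * y : SL(2, ZMod p)) : Matrix (Fin 2) (Fin 2) (ZMod p)) i j = 0 := by
      intro i j
      have h4 := congrArg (fun M : SL(2, ZMod p) => (M : Matrix (Fin 2) (Fin 2) (ZMod p)) i j) h3
      simp only [Matrix.SpecialLinearGroup.coe_neg, Matrix.neg_apply] at h4
      refine (mul_eq_zero.mp ?_).resolve_left h2
      linear_combination h4
    have hdet := (x * y).2
    rw [Matrix.det_fin_two, key 0 0, key 0 1] at hdet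
    simp at hdet
  · -- every element is `± w` with `w` in the list `1, x, y, x y`
    let S : Set SL(2, ZMod p) :=
      {g | g = 1 ∨ g = -1 ∨ g = x ∨ g = -x ∨ g = y ∨ g = -y ∨ g = x * y ∨ g = -(x * y)}
    have hxxy : x * (x * y) = -y := by rw [← mul_assoc, hxx, neg_mul, one_mul]
    have hyxy : y * (x * y) = x := by
      rw [← mul_assoc, hyx, neg_mul, mul_assoc, hyy, mul_neg, mul_one, neg_neg]
    have hclx : ∀ g ∈ S, x * g ∈ S := by
      rintro g (rfl | rfl | rfl | rfl | rfl | rfl | rfl | rfl) <;>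
        simp [S, hxx, hxxy]
    have hcly : ∀ g ∈ S, y * g ∈ S := by
      rintro g (rfl | rfl | rfl | rfl | rfl | rfl | rfl | rfl) <;>
        simp [S, hyy, hyx, hyxy]
    have hmem : ∀ g ∈ Subgroup.closure ({x, y} : Set SL(2, ZMod p)), ∀ s ∈ S, g * s ∈ S := by
      intro g hg
      induction hg using Subgroup.closure_induction_left with
      | one => simp
      | mul_left z hz w _ ih =>
        intro s hs
        rw [mul_assoc]
        rcases hz with rfl | rfl
        exacts [hclx _ (ih s hs), hcly _ (ih s hs)]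
      | inv_mul_cancel z hz w _ ih =>
        intro s hs
        have hz2 : z⁻¹ = -z := by
          refine inv_eq_of_mul_eq_one_right ?_
          rcases hz with rfl | rfl
          · rw [mul_neg, hxx, neg_neg]
          · rw [mul_neg, hyy, neg_neg]
        rw [mul_assoc, hz2, neg_mul]
        have h1 : z * (w * s) ∈ S := by
          rcases hz with rfl | rfl
          exacts [hclx _ (ih s hs), hcly _ (ih s hs)]
        rcases h1 with h | h | h | h | h | h | h | h <;> simp [S, h]
    intro g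
    refine ⟨2, Subtype.ext ?_⟩
    have hg : (g : SL(2, ZMod p)) ∈ S := by simpa using hmem g g.2 1 (Or.inl rfl)
    show (g : SL(2, ZMod p)) ^ 4 = 1
    have h4 : ∀ w : SL(2, ZMod p), w * w = 1 ∨ w * w = -1 → w ^ 4 = 1 := by
      intro w hw
      rw [show (4 : ℕ) = 2 * 2 by rfl, pow_mul, sq w]
      rcases hw with h | h <;> simp [h, sq]
    have hxy2 : x * y * (x * y) = -1 := by rw [mul_assoc, hyxy, hxx]
    rcases hg with h | h | h | h | h | h | h | h <;>
      exact h4 _ (by simp [h, hxx, hyy, hxy2])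

/-- Two quadratic generators and a non-`p`-group force non-abelian Sylow 2-subgroups. -/
theorem not_isMulCommutative_sylow_two {W : Type*} [AddCommGroup W]
    [Module (AlgebraicClosure (ZMod p)) W] [Module.Finite (AlgebraicClosure (ZMod p)) W] [Finite H]
    (hp : p ≠ 2) (ρ : H →* Module.End (AlgebraicClosure (ZMod p)) W)
    {a b : H} (hgen : Subgroup.closure {a, b} = ⊤) (ha : (ρ a - 1) * (ρ a - 1) = 0)
    (hb : (ρ b - 1) * (ρ b - 1) = 0) (hR : ¬ IsPAct p ρ ⊤) (T : Sylow 2 H) :
    ¬ IsMulCommutative T := by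
  obtain ⟨φ, h1, h2, ⟨g, hg⟩, -, -⟩ := exists_quad_hom ρ hgen ha hb ⊤ hR
  obtain ⟨K, f, -, hf, -⟩ := exists_prime_sl_cover hp φ ⊤ (Subgroup.mem_top a) h1
    (Subgroup.mem_top g) hg
  obtain ⟨x, y, hxy, h4⟩ := exists_quaternion_pair (p := p) hp
  exact not_isMulCommutative_sylow_of_cover K f hf hxy h4 T

theorem pow_eq_one_iff_of_coprime_aux {M : Type*} [Monoid M] {m n : ℕ} (h : n.Coprime m) {x : M}
    (h1 : x ^ n = 1) (h2 : x ^ m = 1) : x = 1 := by
  have h3 := Nat.dvd_gcd (orderOf_dvd_of_pow_eq_one h1) (orderOf_dvd_of_pow_eq_one h2)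
  rw [h.gcd_eq_one, Nat.dvd_one] at h3
  exact orderOf_eq_one_iff.mp h3

/-- Normal `p`-subgroups lie in the kernel of the two-dimensional representation. -/
theorem pGroup_le_ker [Finite H] (hp : p ≠ 2) (φ : H →* SL(2, AlgebraicClosure (ZMod p))) {a : H}
    (ha : φ a = PLocalB.upper 1) (hmove : ∃ g : H, φ g 1 0 ≠ 0) (P0 : Subgroup H) [P0.Normal]
    (hP0 : IsPGroup p P0) : ∀ z ∈ P0, φ z = 1 := by
  have hk2 : (2 : AlgebraicClosure (ZMod p)) ≠ 0 := by
    intro h
    have : ((2 : ℕ) : AlgebraicClosure (ZMod p)) = 0 := by exact_mod_cast h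
    rw [CharP.cast_eq_zero_iff _ p] at this
    exact hp ((Nat.prime_dvd_prime_iff_eq Fact.out Nat.prime_two).mp this)
  have hodd : Odd p := (Fact.out : p.Prime).odd_of_ne_two hp
  set U := Subgroup.zpowers (φ a) with hU
  haveI : Finite φ.range := Finite.of_surjective _ φ.rangeRestrict_surjective
  have hUp : IsPGroup p U := by
    rintro ⟨_, i, rfl⟩
    refine ⟨1, Subtype.ext ?_⟩
    show (φ a ^ i) ^ p ^ 1 = 1
    rw [pow_one, ← zpow_natCast, ← zpow_mul, mul_comm, zpow_mul, zpow_natCast, ha,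
      PLocalB.upper_pow, CharP.cast_eq_zero, zero_mul, PLocalB.upper_zero, one_zpow]
  have hN : U ≤ Subgroup.normalizer (P0.map φ : Set (SL(2, AlgebraicClosure (ZMod p)))) := by
    rw [hU, Subgroup.zpowers_le]
    exact Subgroup.le_normalizer_map φ
      ⟨a, Subgroup.normalizer_eq_top P0 ▸ Subgroup.mem_top a, rfl⟩
  set S := P0.map φ ⊔ U with hS
  have hSr : S ≤ φ.range := sup_le (Subgroup.map_le_range _ _)
    (Subgroup.zpowers_le.mpr ⟨a, rfl⟩)
  haveI : Finite S := Finite.of_injective _ (Subgroup.inclusion_injective hSr)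
  have hSp : IsPGroup p S := (hP0.map φ).to_sup_of_normal_left' hUp hN
  have haS : φ a ∈ S := Subgroup.mem_sup_right (Subgroup.mem_zpowers _)
  have hne : φ a ≠ 1 := by
    rw [ha, ← PLocalB.upper_zero]
    exact fun h => one_ne_zero (PLocalB.upper_injective h)
  haveI : Nontrivial S := ⟨⟨⟨φ a, haS⟩, 1, fun h => hne (congrArg Subtype.val h)⟩⟩
  haveI : Nontrivial (Subgroup.center S) := hSp.center_nontrivial
  obtain ⟨⟨w, hw⟩, hw1⟩ := exists_ne (α := Subgroup.center S) 1
  -- `w = upper s`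
  have hwa : (w : SL(2, AlgebraicClosure (ZMod p))) * φ a = φ a * w :=
    (congrArg Subtype.val (Subgroup.mem_center_iff.mp hw ⟨φ a, haS⟩)).symm
  rw [ha] at hwa
  have hsq : ∀ (x : SL(2, AlgebraicClosure (ZMod p))), x 1 0 = 0 → x ∈ S → x 0 0 = x 1 1 →
      x 0 0 = 1 := by
    intro x h10 hx h00
    have hd := PLocalB.det_entries x
    rw [h10, mul_zero, sub_zero, ← h00] at hd
    rcases mul_self_eq_one_iff.mp hd with h | h
    · exact h
    · exfalso
      obtain ⟨n, hn⟩ := hSp ⟨x, hx⟩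
      have hn' : x ^ p ^ n = 1 := congrArg Subtype.val hn
      have hx2 : x = -PLocalB.upper (-(x 0 1)) := by
        apply Subtype.ext
        rw [Matrix.SpecialLinearGroup.coe_neg, PLocalB.coe_upper]
        ext i j
        fin_cases i <;> fin_cases j <;> simp [h, h10, ← h00]
      have h' := congrArg (fun y : SL(2, AlgebraicClosure (ZMod p)) => y 0 0) hn'
      rw [hx2, (hodd.pow).neg_pow, PLocalB.upper_pow] at h'
      simp at h'
      exact hk2 (by linear_combination -h')
  have hM : ∀ i j, (((w : SL(2, AlgebraicClosure (ZMod p))) * PLocalB.upper 1 :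
      SL(2, AlgebraicClosure (ZMod p))) : Matrix (Fin 2) (Fin 2) (AlgebraicClosure (ZMod p))) i j =
      ((PLocalB.upper 1 * (w : SL(2, AlgebraicClosure (ZMod p))) : SL(2, AlgebraicClosure (ZMod p))) :
        Matrix (Fin 2) (Fin 2) (AlgebraicClosure (ZMod p))) i j := fun i j => by rw [hwa]
  have hw10 : (w : SL(2, AlgebraicClosure (ZMod p))) 1 0 = 0 := by
    have := hM 0 0
    simp [Matrix.mul_apply, Fin.sum_univ_two] at this
    exact this
  have hw00 : (w : SL(2, AlgebraicClosure (ZMod p))) 0 0 = (w : SL(2, AlgebraicClosure (ZMod p))) 1 1 := by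
    have := hM 0 1
    simp [Matrix.mul_apply, Fin.sum_univ_two] at this
    linear_combination this
  obtain ⟨s, hs0, hws⟩ : ∃ s, s ≠ 0 ∧ (w : SL(2, AlgebraicClosure (ZMod p))) = PLocalB.upper s := by
    refine ⟨_, fun h => hw1 (Subtype.ext (Subtype.ext ?_)),
      PLocalB.eq_upper_of_entries _ hw10 (hsq _ hw10 w.2 hw00)⟩
    rw [PLocalB.eq_upper_of_entries _ hw10 (hsq _ hw10 w.2 hw00), h, PLocalB.upper_zero]
    rfl
  have hupper : ∀ x ∈ S, x 1 0 = 0 ∧ x 0 0 = 1 := by
    intro x hx
    have hxw : x * (w : SL(2, AlgebraicClosure (ZMod p))) = w * x :=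
      congrArg Subtype.val (Subgroup.mem_center_iff.mp hw ⟨x, hx⟩)
    rw [hws] at hxw
    have e : ∀ i j, ((x * PLocalB.upper s : SL(2, AlgebraicClosure (ZMod p))) :
        Matrix (Fin 2) (Fin 2) (AlgebraicClosure (ZMod p))) i j =
        ((PLocalB.upper s * x : SL(2, AlgebraicClosure (ZMod p))) :
          Matrix (Fin 2) (Fin 2) (AlgebraicClosure (ZMod p))) i j := fun i j => by rw [hxw]
    have e00 := e 0 0
    have e01 := e 0 1
    simp [Matrix.mul_apply, Fin.sum_univ_two] at e00 e01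
    have h10 : x 1 0 = 0 := e00.resolve_left hs0
    have h00 : x 0 0 = x 1 1 :=
      mul_left_cancel₀ hs0 (by linear_combination e01)
    exact ⟨h10, hsq x h10 hx h00⟩
  obtain ⟨g, hg⟩ := hmove
  intro z hz
  obtain ⟨hz10, hz00⟩ := hupper _ (Subgroup.mem_sup_left ⟨z, hz, rfl⟩)
  obtain ⟨hz10', -⟩ := hupper (φ g * φ z * (φ g)⁻¹) (Subgroup.mem_sup_left
    ⟨g * z * g⁻¹, (inferInstance : P0.Normal).conj_mem z hz g, by simp⟩)
  have he := PLocalB.eq_upper_of_entries _ hz10 hz00
  rw [he] at hz10'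
  simp [Matrix.SpecialLinearGroup.coe_inv, Matrix.adjugate_fin_two, Matrix.mul_apply,
    Fin.sum_univ_two] at hz10'
  have : φ z 0 1 = 0 := by
    have h3 : φ g 1 0 * φ g 1 0 * φ z 0 1 = 0 := by linear_combination -hz10'
    exact (mul_eq_zero.mp h3).resolve_left (mul_ne_zero hg hg)
  rw [he, this, PLocalB.upper_zero]

/-- Two quadratic generators moving a normal `p'`-subgroup force `p = 3` and an `SL(2, 3)`
section. -/
theorem sl_two_three_section {W : Type*} [AddCommGroup W]
    [Module (AlgebraicClosure (ZMod p)) W] [Module.Finite (AlgebraicClosure (ZMod p)) W] [Finite H]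
    (hp : p ≠ 2) (ρ : H →* Module.End (AlgebraicClosure (ZMod p)) W)
    {a b : H} (hgen : Subgroup.closure {a, b} = ⊤) (ha : (ρ a - 1) * (ρ a - 1) = 0)
    (hb : (ρ b - 1) * (ρ b - 1) = 0) (hinj : Function.Injective ρ) (Q P0 : Subgroup H) [Q.Normal]
    [P0.Normal] (hP0 : IsPGroup p P0) (hQ : ∀ x ∈ Q, ∃ m : ℕ, m.Coprime p ∧ x ^ m ∈ P0)
    {q : H} (hq : q ∈ Q) (hqa : ⁅q, a⁆ ∉ P0) :
    p = 3 ∧ ∃ (K : Subgroup H) (f : K →* SL(2, ZMod 3)), Function.Surjective f := by
  have hpp := (Fact.out : p.Prime)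
  have hcQ : ⁅q, a⁆ ∈ Q := by
    have := (inferInstance : Q.Normal).conj_mem _ (Q.inv_mem hq) a
    simpa [commutatorElement_def, mul_assoc] using Q.mul_mem hq this
  set c := ⁅q, a⁆ with hc
  have hR : ¬ IsPAct p ρ (Subgroup.zpowers c) := by
    intro h
    obtain ⟨n, hn⟩ := h c (Subgroup.mem_zpowers c)
    obtain ⟨m, hm, hmc⟩ := hQ c hcQ
    rw [← map_pow, ← map_one ρ] at hn
    have h1 : c ^ p ^ n = 1 := hinj hn
    have h2 : orderOf c ∣ p ^ n := orderOf_dvd_of_pow_eq_one h1
    have h3 : (orderOf c).Coprime m := (hm.symm.pow_left n).coprime_dvd_left h2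
    obtain ⟨i, hi⟩ := exists_pow_eq_self_of_coprime h3.symm
    exact hqa (hi ▸ P0.pow_mem hmc i)
  obtain ⟨φ, h1, -, hmv, h4, -⟩ := exists_quad_hom ρ hgen ha hb _ hR
  have hker0 : ∀ z ∈ P0, φ z = 1 := pGroup_le_ker hp φ h1 hmv P0 hP0
  have hco : ∀ x ∈ Q, φ x ^ p = 1 → φ x = 1 := by
    intro x hx hfx
    obtain ⟨m, hm, hmx⟩ := hQ x hx
    have h2 : φ x ^ m = 1 := by rw [← map_pow, hker0 _ hmx]
    exact (pow_eq_one_iff_of_coprime_aux (hm.symm) hfx h2)
  have hφc : φ c ≠ 1 := fun h => h4 fun r hr => ⟨0, by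
    obtain ⟨m, rfl⟩ := Subgroup.mem_zpowers_iff.mp hr
    rw [map_zpow, h, one_zpow, one_pow]⟩
  set M := Q ⊔ Subgroup.zpowers a with hM
  have haM : a ∈ M := Subgroup.mem_sup_right (Subgroup.mem_zpowers a)
  have hqM : q ∈ M := Subgroup.mem_sup_left hq
  have hmove : φ q 1 0 ≠ 0 := by
    intro h10
    -- then `φ c` would be unipotent upper triangular
    apply hφc
    have hd := PLocalB.det_entries (φ q)
    rw [h10, mul_zero, sub_zero] at hd
    have hcq : φ c = PLocalB.upper (φ q 0 0 * φ q 0 0 - 1) := by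
      rw [hc, map_commutatorElement, h1, commutatorElement_def, PLocalB.upper_inv]
      apply Subtype.ext
      simp only [Matrix.SpecialLinearGroup.coe_mul, Matrix.SpecialLinearGroup.coe_inv,
        PLocalB.coe_upper, Matrix.adjugate_fin_two]
      ext i j
      fin_cases i <;> fin_cases j <;>
        simp [Matrix.mul_apply, Fin.sum_univ_two, h10] <;>
          first | linear_combination hd | linear_combination -hd | linear_combination 2 * hd |
            linear_combination -2 * hd | ring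
    refine hco c hcQ ?_
    rw [hcq, PLocalB.upper_pow, CharP.cast_eq_zero, zero_mul, PLocalB.upper_zero]
  obtain ⟨K, f, hKM, hf, hker⟩ := exists_prime_sl_cover hp φ M haM h1 hqM hmove
  have h3 : p = 3 := by
    by_contra hp3
    have hp5 : 5 ≤ p := by
      have := hpp.two_le
      rcases Nat.lt_or_ge p 5 with h | h
      · interval_cases p <;> first | omega | exact absurd hpp (by norm_num)
      · exact h
    -- abelian `p`-quotient of `M` kills the upper unitriangular matrix
    obtain ⟨t, ht0, ht⟩ : ∃ t : ZMod p, t ≠ 0 ∧ t * t - 1 ≠ 0 := by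
      refine ⟨2, fun h => ?_, fun h => ?_⟩
      · have : ((2 : ℕ) : ZMod p) = 0 := by exact_mod_cast h
        rw [ZMod.natCast_eq_zero_iff] at this
        have := Nat.le_of_dvd (by norm_num) this
        omega
      · have : ((3 : ℕ) : ZMod p) = 0 := by
          push_cast; linear_combination h
        rw [ZMod.natCast_eq_zero_iff] at this
        have := Nat.le_of_dvd (by norm_num) this
        omega
    let d : SL(2, ZMod p) := ⟨!![t, 0; 0, t⁻¹], by simp [Matrix.det_fin_two, ht0]⟩
    have hcomm : ⁅d, (PLocalB.upper 1 : SL(2, ZMod p))⁆ = PLocalB.upper (t * t - 1) := by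
      rw [commutatorElement_def, PLocalB.upper_inv]
      apply Subtype.ext
      simp only [Matrix.SpecialLinearGroup.coe_mul, Matrix.SpecialLinearGroup.coe_inv,
        PLocalB.coe_upper, Matrix.adjugate_fin_two]
      ext i j
      fin_cases i <;> fin_cases j <;>
        simp [d, Matrix.mul_apply, Fin.sum_univ_two, ht0] <;> ring
    obtain ⟨kd, hkd⟩ := hf d
    obtain ⟨ku, hku⟩ := hf (PLocalB.upper 1)
    set w := ⁅kd, ku⁆ with hw
    have hwQ : (w : H) ∈ Q := by
      have hkey : ⁅M, M⁆ ≤ Q := by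
        rw [Subgroup.commutator_le]
        intro x hx y hy
        rw [← QuotientGroup.eq_one_iff, ← QuotientGroup.mk'_apply, map_commutatorElement,
          commutatorElement_eq_one_iff_mul_comm]
        have hz : ∀ z ∈ M, QuotientGroup.mk' Q z ∈
            Subgroup.zpowers (QuotientGroup.mk' Q a) := by
          intro z hz
          have hz' : QuotientGroup.mk' Q z ∈ M.map (QuotientGroup.mk' Q) := ⟨z, hz, rfl⟩
          rwa [hM, Subgroup.map_sup, QuotientGroup.map_mk'_self, bot_sup_eq,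
            MonoidHom.map_zpowers] at hz'
        obtain ⟨i, hi⟩ := Subgroup.mem_zpowers_iff.mp (hz x hx)
        obtain ⟨j, hj⟩ := Subgroup.mem_zpowers_iff.mp (hz y hy)
        rw [← hi, ← hj, ← zpow_add, ← zpow_add, add_comm]
      exact hkey (Subgroup.commutator_mem_commutator (hKM kd.2) (hKM ku.2))
    have hfw : f w = PLocalB.upper (t * t - 1) := by
      rw [hw, map_commutatorElement, hkd, hku, hcomm]
    have hwp : f w ^ p = 1 := by
      rw [hfw, PLocalB.upper_pow, CharP.cast_eq_zero, zero_mul, PLocalB.upper_zero]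
    have : f w = 1 := by
      obtain ⟨m, hm, hmw⟩ := hQ (w : H) hwQ
      have h2 : f w ^ m = 1 := by
        rw [← map_pow, hker, Subgroup.coe_pow]
        exact hker0 _ hmw
      exact pow_eq_one_iff_of_coprime_aux hm.symm hwp h2
    rw [hfw, ← PLocalB.upper_zero] at this
    exact ht (PLocalB.upper_injective this)
  subst h3
  exact ⟨rfl, K, f, hf⟩

end Cfsg.Agent.Thompson
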