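import Mathlib
import Cfsg.Prelude.Def_Transfer
import Cfsg.Agent.Lib.Thompson.Basic

/-!
Quadratic action on an abelian subgroup.
-/

set_option autoImplicit false
set_option linter.unusedVariables false

namespace Cfsg.Agent.Thompson

open Cfsg
open scoped commutatorElement

variable {G : Type*} [Group G] {p : ℕ} {V H : Subgroup G}

theorem quadratic_conj_conj (hV : IsMulCommutative V) (hHV : H ≤ Subgroup.normalizer (V : Set G))
    (hq : ⁅⁅V, H⁆, H⁆ = ⊥) {v a b : G} (hv : v ∈ V) (ha : a ∈ H) (hb : b ∈ H) :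
    (b * a) * v * (b * a)⁻¹ = ⁅v, a⁆⁻¹ * ⁅v, b⁆⁻¹ * v := by
  have h1 : b * ⁅v, a⁆⁻¹ = ⁅v, a⁆⁻¹ * b :=
    ((Commute.inv_right (quadratic_comm hq hv ha hb : Commute b ⁅v, a⁆)))
  calc (b * a) * v * (b * a)⁻¹ = b * (a * v * a⁻¹) * b⁻¹ := by group
    _ = b * (⁅v, a⁆⁻¹ * v) * b⁻¹ := by rw [conj_eq_mul_commutator v a]
    _ = ⁅v, a⁆⁻¹ * (b * v * b⁻¹) := by rw [← mul_assoc b, h1]; group
    _ = ⁅v, a⁆⁻¹ * ⁅v, b⁆⁻¹ * v := by rw [conj_eq_mul_commutator v b, mul_assoc]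

theorem quadratic_commutator_le (hV : IsMulCommutative V)
    (hHV : H ≤ Subgroup.normalizer (V : Set G)) (hq : ⁅⁅V, H⁆, H⁆ = ⊥) :
    ⁅H, H⁆ ≤ Subgroup.centralizer (V : Set G) := by
  rw [Subgroup.commutator_le]
  intro a ha b hb
  rw [Subgroup.mem_centralizer_iff]
  intro v hv
  have key : ∀ w ∈ V, (b * a) * w * (b * a)⁻¹ = (a * b) * w * (a * b)⁻¹ := fun w hw => by
    rw [quadratic_conj_conj hV hHV hq hw ha hb, quadratic_conj_conj hV hHV hq hw hb ha,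
      elemAb_comm hV (V.inv_mem (commutatorElement_mem_of_le_normalizer hHV ha hw))
        (V.inv_mem (commutatorElement_mem_of_le_normalizer hHV hb hw))]
  have hw : a⁻¹ * b⁻¹ * v * b * a ∈ V := by
    have := conj_mem_of_le_normalizer hHV (H.mul_mem (H.inv_mem ha) (H.inv_mem hb)) hv
    simpa [mul_assoc] using this
  have h1 := key _ hw
  have e1 : ⁅a, b⁆ * v * ⁅a, b⁆⁻¹ = (a * b) * (a⁻¹ * b⁻¹ * v * b * a) * (a * b)⁻¹ := by
    simp [commutatorElement_def, mul_assoc]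
  have e2 : (b * a) * (a⁻¹ * b⁻¹ * v * b * a) * (b * a)⁻¹ = v := by group
  have h2 : ⁅a, b⁆ * v * ⁅a, b⁆⁻¹ = v := by rw [e1, ← h1, e2]
  exact (mul_inv_eq_iff_eq_mul.mp h2).symm

theorem quadratic_conj_pow (hV : IsMulCommutative V)
    (hHV : H ≤ Subgroup.normalizer (V : Set G)) (hq : ⁅⁅V, H⁆, H⁆ = ⊥) {v a : G} (hv : v ∈ V)
    (ha : a ∈ H) : ∀ n : ℕ, a ^ n * v * (a ^ n)⁻¹ = (⁅v, a⁆⁻¹) ^ n * v
  | 0 => by simp
  | n + 1 => by
    have hc : Commute a (⁅v, a⁆⁻¹ ^ n) :=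
      (Commute.inv_right (quadratic_comm hq hv ha ha : Commute a ⁅v, a⁆)).pow_right n
    calc a ^ (n + 1) * v * (a ^ (n + 1))⁻¹ = a * (a ^ n * v * (a ^ n)⁻¹) * a⁻¹ := by
          rw [pow_succ']; group
      _ = a * (⁅v, a⁆⁻¹ ^ n * v) * a⁻¹ := by rw [quadratic_conj_pow hV hHV hq hv ha n]
      _ = ⁅v, a⁆⁻¹ ^ n * (a * v * a⁻¹) := by rw [← mul_assoc a, hc.eq]; group
      _ = ⁅v, a⁆⁻¹ ^ (n + 1) * v := by rw [conj_eq_mul_commutator v a, pow_succ, mul_assoc]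

theorem quadratic_pow_mem_centralizer (hV : IsElementaryAbelian p V)
    (hHV : H ≤ Subgroup.normalizer (V : Set G)) (hq : ⁅⁅V, H⁆, H⁆ = ⊥) {a : G} (ha : a ∈ H) :
    a ^ p ∈ Subgroup.centralizer (V : Set G) := by
  rw [Subgroup.mem_centralizer_iff]
  intro v hv
  have h := quadratic_conj_pow hV.1 hHV hq hv ha p
  rw [hV.2 _ (V.inv_mem (commutatorElement_mem_of_le_normalizer hHV ha hv)), one_mul] at h
  exact (mul_inv_eq_iff_eq_mul.mp h).symm

theorem card_le_sq_of_quadratic [Finite G] (hV : IsMulCommutative V) {a : G}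
    (ha : a ∈ Subgroup.normalizer (V : Set G))
    (hq : ⁅⁅V, Subgroup.zpowers a⁆, Subgroup.zpowers a⁆ = ⊥) :
    Nat.card V ≤ Nat.card ↥(V ⊓ Subgroup.centralizer (Subgroup.zpowers a : Set G)) ^ 2 := by
  set C := V ⊓ Subgroup.centralizer (Subgroup.zpowers a : Set G) with hC
  set f := commHom V hV a ha with hf
  have h1 : Nat.card f.ker = Nat.card C := by
    rw [hC, ← commHom_ker hV ha, Subgroup.card_map_of_injective V.subtype_injective]
  have h2 : Nat.card f.range ≤ Nat.card C := by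
    rw [Nat.card_congr (f.range.equivMapOfInjective V.subtype V.subtype_injective).toEquiv]
    refine Subgroup.card_le_of_le ?_
    rintro _ ⟨_, ⟨v, rfl⟩, rfl⟩
    refine ⟨(f v).2, ?_⟩
    exact Subgroup.commutator_eq_bot_iff_le_centralizer.mp hq
      (Subgroup.commutator_mem_commutator v.2 (Subgroup.mem_zpowers a))
  rw [Subgroup.card_eq_card_quotient_mul_card_subgroup f.ker,
    Nat.card_congr (QuotientGroup.quotientKerEquivRange f).toEquiv, h1, sq]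
  exact Nat.mul_le_mul_right _ h2

end Cfsg.Agent.Thompson
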