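import Mathlib
import Cfsg.Prelude.Def_Local
import Cfsg.Agent.Lib.Thompson.Basic
import Cfsg.Agent.Lib.Thompson.Quadratic
import Cfsg.Agent.Lib.Thompson.Cores
import Cfsg.Agent.Lib.Thompson.PSolvable
import Cfsg.Agent.Lib.Thompson.QuadSection

/-!
Non-`p`-stable faithful actions on elementary abelian groups: non-abelian Sylow 2-subgroups, and
`p = 3` with an `SL(2, 3)` section in the `p`-solvable case.
-/

set_option autoImplicit false
set_option linter.unusedVariables false
set_option linter.style.haveILetI false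

namespace Cfsg.Agent.Thompson

open Cfsg
open scoped MatrixGroups commutatorElement

variable {G : Type*} [Group G] {p : ℕ}

/-- If `O_p(G) = 1` in a `p`-solvable group then `O_{p'}(G)` contains its centralizer. -/
theorem centralizer_pPrimeCore_le [Fact p.Prime] [Finite G] (hG : IsPSolvable p G)
    (hO : pCore p G = ⊥) :
    Subgroup.centralizer (pPrimeCore p G : Set G) ≤ pPrimeCore p G := by
  set P := pPrimeCore p G with hP
  set C := Subgroup.centralizer (P : Set G) with hC
  set π := QuotientGroup.mk' P with hπ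
  by_contra hne
  have hπs : Function.Surjective π := QuotientGroup.mk'_surjective P
  haveI hCn : C.Normal := Subgroup.normal_centralizer
  haveI : (C.map π).Normal := hCn.map π hπs
  haveI : Nontrivial ↥(C.map π) := by
    rw [Subgroup.nontrivial_iff_ne_bot, ne_eq, Subgroup.map_eq_bot_iff, QuotientGroup.ker_mk']
    exact hne
  have hsolv : IsPSolvable p ↥(C.map π) := isPSolvable_subgroup _ (isPSolvable_quotient P hG)
  rcases pCore_ne_bot_or_pPrimeCore_ne_bot hsolv with h | h
  swap
  · apply h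
    have h1 := map_pPrimeCore_normal_le (p := p) (C.map π)
    rw [pPrimeCore_quotient_pPrimeCore, le_bot_iff, Subgroup.map_eq_bot_iff_of_injective _
      (Subgroup.subtype_injective _)] at h1
    exact h1
  · apply h
    rw [← Subgroup.map_eq_bot_iff_of_injective _ (Subgroup.subtype_injective (C.map π))]
    set Mb := (pCore p ↥(C.map π)).map (C.map π).subtype with hMb
    haveI : Mb.Normal := map_subtype_normal_of_characteristic (C.map π) _
    have hMbC : Mb ≤ C.map π := Subgroup.map_subtype_le _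
    have hMbp : IsPGroup p Mb := isPGroup_pCore.map _
    set M := Mb.comap π ⊓ C with hM
    have hMmap : M.map π = Mb := by
      refine le_antisymm ((Subgroup.map_mono inf_le_left).trans (Subgroup.map_comap_le _ _)) ?_
      intro y hy
      obtain ⟨x, hx, rfl⟩ := hMbC hy
      exact ⟨x, ⟨hy, hx⟩, rfl⟩
    obtain ⟨S⟩ := (inferInstance : Nonempty (Sylow p M))
    have hZc : P.subgroupOf M ≤ Subgroup.center M := by
      intro x hx
      rw [Subgroup.mem_center_iff]
      intro y
      ext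
      exact ((Subgroup.mem_centralizer_iff.mp y.2.2) (x : G) hx).symm
    have hsup : P.subgroupOf M ⊔ (S : Subgroup M) = ⊤ := by
      rw [← Subgroup.index_eq_one]
      have h1 : (P.subgroupOf M ⊔ (S : Subgroup M)).index ∣ (S : Subgroup M).index :=
        Subgroup.index_dvd_of_le le_sup_right
      obtain ⟨k, hk⟩ := IsPGroup.iff_card.mp hMbp
      have h2 : (P.subgroupOf M ⊔ (S : Subgroup M)).index ∣ p ^ k := by
        refine (Subgroup.index_dvd_of_le le_sup_left).trans ?_
        rw [← hk, ← hMmap, ← relIndex_eq_card_map_mk']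
        rfl
      obtain ⟨j, _, hj⟩ := (Nat.dvd_prime_pow Fact.out).mp h2
      rcases Nat.eq_zero_or_pos j with rfl | hj0
      · simpa using hj
      · exact absurd ((dvd_pow_self p hj0.ne').trans (hj ▸ h1)) S.not_dvd_index
    haveI hSn : (S : Subgroup M).Normal := by
      rw [← Subgroup.normalizer_eq_top_iff, ← top_le_iff, ← hsup]
      exact sup_le (fun z hz => Subgroup.centralizer_le_normalizer _
        (Subgroup.mem_centralizer_iff.mpr fun y _ => Subgroup.mem_center_iff.mp (hZc hz) y))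
        Subgroup.le_normalizer
    have hS : (S : Subgroup M) = ⊥ := by
      have h1 : (S : Subgroup M) ≤ pCore p M := le_pCore hSn S.isPGroup'
      have h2 := map_pCore_normal_le (p := p) M
      rw [hO, le_bot_iff, Subgroup.map_eq_bot_iff_of_injective _
        (Subgroup.subtype_injective _)] at h2
      exact le_bot_iff.mp (h2 ▸ h1)
    rw [hS, sup_bot_eq] at hsup
    rw [← hMmap, Subgroup.map_eq_bot_iff, QuotientGroup.ker_mk']
    exact Subgroup.subgroupOf_eq_top.mp hsup

/-- An element of prime order normalising `Q` of order prime to `p` and commuting with `[x, a]`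
commutes with `x`. -/
theorem commute_of_commutes_commutator [hp : Fact p.Prime] {Q : Subgroup G}
    (hQ : (Nat.card Q).Coprime p) {a x : G} (ha : a ^ p = 1) (hc : ⁅x, a⁆ ∈ Q)
    (hcomm : Commute ⁅x, a⁆ a) : ⁅x, a⁆ = 1 := by
  have h1 : (⁅x, a⁆ * a) ^ p = 1 := by
    have : ⁅x, a⁆ * a = MulAut.conj x a := by simp [commutatorElement_def]
    rw [this, ← map_pow, ha, map_one]
  rw [hcomm.mul_pow, ha, mul_one] at h1
  have h2 : (orderOf ⁅x, a⁆).Coprime p :=
    Nat.Coprime.coprime_dvd_left (Subgroup.orderOf_dvd_natCard Q hc) hQ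
  exact orderOf_eq_one_iff.mp
    (Nat.Coprime.eq_one_of_dvd h2 (orderOf_dvd_of_pow_eq_one h1))

/-- The section given by a surjection from a subgroup of `H ≤ G`. -/
theorem exists_section_in {Q : Type*} [Group Q] {H' : Type*} [Group H'] (j : H' →* G)
    (hj : Function.Injective j) (K : Subgroup H') (f : K →* Q) (hf : Function.Surjective f) :
    ∃ (K' L : Subgroup G) (hL : (L.subgroupOf K').Normal), K' ≤ j.range ∧
      Nonempty ((K' ⧸ L.subgroupOf K') ≃* Q) := by
  let e := K.equivMapOfInjective j hj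
  have hL : ((f.comp e.symm.toMonoidHom).ker.map (K.map j).subtype).subgroupOf (K.map j) =
      (f.comp e.symm.toMonoidHom).ker :=
    Subgroup.comap_map_eq_self_of_injective (K.map j).subtype_injective _
  haveI hLn : (((f.comp e.symm.toMonoidHom).ker.map (K.map j).subtype).subgroupOf (K.map j)).Normal := by
    rw [hL]; exact MonoidHom.normal_ker _
  refine ⟨K.map j, (f.comp e.symm.toMonoidHom).ker.map (K.map j).subtype, hLn,
    Subgroup.map_le_range _ _, ?_⟩
  exact ⟨(QuotientGroup.quotientMulEquivOfEq hL).trans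
      (QuotientGroup.quotientKerEquivOfSurjective _ (hf.comp e.symm.surjective))⟩

theorem closure_pair_top (a b : G) :
    Subgroup.closure
      {(⟨a, Subgroup.subset_closure (Or.inl rfl)⟩ : ↥(Subgroup.closure ({a, b} : Set G))),
        ⟨b, Subgroup.subset_closure (Or.inr rfl)⟩} = ⊤ := by
  rw [eq_top_iff]
  rintro ⟨x, hx⟩ -
  induction hx using Subgroup.closure_induction with
  | mem x hx =>
    rcases hx with rfl | rfl
    · exact Subgroup.subset_closure (Or.inl rfl)
    · exact Subgroup.subset_closure (Or.inr rfl)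
  | one => exact one_mem _
  | mul x y hx hy ihx ihy => exact mul_mem ihx ihy
  | inv x hx ihx => exact inv_mem ihx

/-- Transport of an abelian Sylow subgroup to subgroups. -/
theorem isMulCommutative_sylow_of_injective [Finite G] {q : ℕ} [Fact q.Prime] {H' : Type*}
    [Group H'] (j : H' →* G) (hj : Function.Injective j) (T : Sylow q G)
    (hT : IsMulCommutative T) (S : Sylow q H') : IsMulCommutative S := by
  obtain ⟨T', hT'⟩ := (S.isPGroup'.map j).exists_le_sylow
  obtain ⟨g, hg⟩ := MulAction.exists_smul_eq G T T'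
  refine Subgroup.le_centralizer_iff_isMulCommutative.mp fun u hu => ?_
  rw [Subgroup.mem_centralizer_iff]
  intro v hv
  refine hj ?_
  obtain ⟨u', hu', hju⟩ : j u ∈ ((g • T : Sylow q G) : Subgroup G) := hg ▸ hT' ⟨u, hu, rfl⟩
  obtain ⟨v', hv', hjv⟩ : j v ∈ ((g • T : Sylow q G) : Subgroup G) := hg ▸ hT' ⟨v, hv, rfl⟩
  rw [map_mul, map_mul, ← hju, ← hjv]
  show MulAut.conj g v' * MulAut.conj g u' = MulAut.conj g u' * MulAut.conj g v'
  rw [← map_mul, ← map_mul, elemAb_comm hT hv' hu']

section Faithful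

variable [Finite G] [hp : Fact p.Prime]

/-- Two quadratic generators of a faithful group that is not a `p`-group. -/
theorem sylow_two_nonabelian_of_pair (hp2 : p ≠ 2) (V : Subgroup G) (hV : IsElementaryAbelian p V)
    {a b : G} (haV : a ∈ Subgroup.normalizer (V : Set G))
    (hbV : b ∈ Subgroup.normalizer (V : Set G))
    (ha : ⁅⁅V, Subgroup.zpowers a⁆, Subgroup.zpowers a⁆ = ⊥)
    (hb : ⁅⁅V, Subgroup.zpowers b⁆, Subgroup.zpowers b⁆ = ⊥)
    (hf : Subgroup.closure {a, b} ⊓ Subgroup.centralizer (V : Set G) = ⊥)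
    (hnp : ¬ IsPGroup p (Subgroup.closure ({a, b} : Set G)))
    (T : Sylow 2 ↥(Subgroup.closure ({a, b} : Set G))) : ¬ IsMulCommutative T := by
  have hH : Subgroup.closure {a, b} ≤ Subgroup.normalizer (V : Set G) := by
    rw [Subgroup.closure_le]; rintro x (rfl | rfl) <;> assumption
  obtain ⟨n, ρ, h1, h2⟩ := exists_linear_rep V _ hV hH
  refine not_isMulCommutative_sylow_two hp2 ρ (closure_pair_top a b) (h2 _ ha) (h2 _ hb) ?_ T
  intro hact
  refine hnp fun x => ?_
  obtain ⟨m, hm⟩ := hact x (Subgroup.mem_top x)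
  refine ⟨m, ?_⟩
  rw [← map_pow, h1] at hm
  have : ((x ^ p ^ m : ↥(Subgroup.closure ({a, b} : Set G))) : G) ∈ (⊥ : Subgroup G) :=
    hf ▸ ⟨(x ^ p ^ m).2, hm⟩
  exact Subtype.ext this

/-- A quadratic element outside `O_p` of a faithful group. -/
theorem sylow_two_nonabelian_of_not_stable (hp2 : p ≠ 2) (V H : Subgroup G)
    (hV : IsElementaryAbelian p V) (hHV : H ≤ Subgroup.normalizer (V : Set G))
    (hf : H ⊓ Subgroup.centralizer (V : Set G) = ⊥) {a : G} (haH : a ∈ H)
    (hq : ⁅⁅V, Subgroup.zpowers a⁆, Subgroup.zpowers a⁆ = ⊥)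
    (hna : a ∉ (pCore p H).map H.subtype) (T : Sylow 2 H) : ¬ IsMulCommutative T := by
  intro hT
  obtain ⟨g, hg⟩ : ∃ g : H, ¬ IsPGroup p
      (Subgroup.closure ({⟨a, haH⟩, g * ⟨a, haH⟩ * g⁻¹} : Set H)) := by
    by_contra h
    push Not at h
    obtain ⟨N, hN, hNp, haN⟩ := Cfsg.Agent.Involution.baerSuzuki (⟨a, haH⟩ : H) h
    exact hna ⟨⟨a, haH⟩, le_pCore hN hNp haN, rfl⟩
  set b : G := (g : G) * a * (g : G)⁻¹ with hb
  have hbH : b ∈ H := H.mul_mem (H.mul_mem g.2 haH) (H.inv_mem g.2)
  have hle : Subgroup.closure {a, b} ≤ H := by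
    rw [Subgroup.closure_le]; rintro x (rfl | rfl) <;> assumption
  have hbq : ⁅⁅V, Subgroup.zpowers b⁆, Subgroup.zpowers b⁆ = ⊥ := by
    have hmV : V.map (MulAut.conj (g : G)).toMonoidHom = V := by
      ext x
      constructor
      · rintro ⟨v, hv, rfl⟩
        exact conj_mem_of_le_normalizer hHV g.2 hv
      · intro hx
        exact ⟨(g : G)⁻¹ * x * g, conj_inv_mem_of_le_normalizer hHV g.2 hx, by simp [mul_assoc]⟩
    have h := congrArg (Subgroup.map (MulAut.conj (g : G)).toMonoidHom) hq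
    rwa [Subgroup.map_commutator, Subgroup.map_commutator, hmV, MonoidHom.map_zpowers,
      Subgroup.map_bot] at h
  refine sylow_two_nonabelian_of_pair hp2 V hV (hHV haH) (hHV hbH) hq hbq
    (le_bot_iff.mp (hf ▸ inf_le_inf_right _ hle)) (fun hpg => hg ?_)
    (Classical.arbitrary _)
    (isMulCommutative_sylow_of_injective (Subgroup.inclusion hle)
      (Subgroup.inclusion_injective hle) T hT _)
  have hmap : (Subgroup.closure ({⟨a, haH⟩, g * ⟨a, haH⟩ * g⁻¹} : Set H)).map H.subtype =
      Subgroup.closure {a, b} := by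
    rw [MonoidHom.map_closure, Set.image_pair]; rfl
  exact (hmap ▸ hpg : IsPGroup p ((Subgroup.closure ({⟨a, haH⟩, g * ⟨a, haH⟩ * g⁻¹} : Set H)).map
    H.subtype)).of_equiv (Subgroup.equivMapOfInjective _ _ H.subtype_injective).symm

/-- A moved normal `p'`-by-`p` subgroup under two quadratic generators. -/
theorem sl_two_three_of_pair {H' : Type*} [Group H'] [Finite H'] (hp2 : p ≠ 2) (j : H' →* G)
    (hj : Function.Injective j) (V : Subgroup G) (hV : IsElementaryAbelian p V)
    (hN : j.range ≤ Subgroup.normalizer (V : Set G))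
    (hf : j.range ⊓ Subgroup.centralizer (V : Set G) = ⊥) {a b : H'}
    (hgen : Subgroup.closure {a, b} = ⊤)
    (ha : ⁅⁅V, Subgroup.zpowers (j a)⁆, Subgroup.zpowers (j a)⁆ = ⊥)
    (hb : ⁅⁅V, Subgroup.zpowers (j b)⁆, Subgroup.zpowers (j b)⁆ = ⊥)
    (Q P0 : Subgroup H') [Q.Normal] [P0.Normal] (hP0 : IsPGroup p P0)
    (hQ : ∀ x ∈ Q, ∃ m : ℕ, m.Coprime p ∧ x ^ m ∈ P0) {q : H'} (hq : q ∈ Q)
    (hqa : ⁅q, a⁆ ∉ P0) :
    p = 3 ∧ ∃ (K L : Subgroup G) (hL : (L.subgroupOf K).Normal), K ≤ j.range ∧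
      Nonempty ((K ⧸ L.subgroupOf K) ≃* Matrix.SpecialLinearGroup (Fin 2) (ZMod 3)) := by
  obtain ⟨n, ρ, h1, h2⟩ := exists_linear_rep V j.range hV hN
  have hinj : Function.Injective (ρ.comp j.rangeRestrict) := by
    intro x y hxy
    refine hj ?_
    have h3 : ρ (j.rangeRestrict (x * y⁻¹)) = 1 := by
      rw [map_mul, map_mul]
      rw [MonoidHom.comp_apply, MonoidHom.comp_apply] at hxy
      rw [hxy, ← map_mul, ← map_mul, mul_inv_cancel, map_one, map_one]
    have h4 : j (x * y⁻¹) ∈ (⊥ : Subgroup G) := hf ▸ ⟨⟨_, rfl⟩, (h1 _).mp h3⟩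
    rw [Subgroup.mem_bot, map_mul, map_inv, mul_inv_eq_one] at h4
    exact h4
  obtain ⟨h3, K, f, hfs⟩ := sl_two_three_section hp2 (ρ.comp j.rangeRestrict) hgen
    (h2 (j.rangeRestrict a) ha) (h2 (j.rangeRestrict b) hb) hinj Q P0 hP0 hQ hq hqa
  exact ⟨h3, exists_section_in j hj K f hfs⟩

/-- The `p`-solvable case. -/
theorem sl_two_three_of_pSolvable (hp2 : p ≠ 2) (V H : Subgroup G)
    (hV : IsElementaryAbelian p V) (hHV : H ≤ Subgroup.normalizer (V : Set G))
    (hf : H ⊓ Subgroup.centralizer (V : Set G) = ⊥) (hsep : IsPSolvable p H) {a : G} (haH : a ∈ H)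
    (hq : ⁅⁅V, Subgroup.zpowers a⁆, Subgroup.zpowers a⁆ = ⊥)
    (hna : a ∉ (pCore p H).map H.subtype) :
    p = 3 ∧ ∃ (K L : Subgroup G) (hL : (L.subgroupOf K).Normal), K ≤ H ∧
      Nonempty ((K ⧸ L.subgroupOf K) ≃* Matrix.SpecialLinearGroup (Fin 2) (ZMod 3)) := by
  set A : H := ⟨a, haH⟩ with hA
  have hAp : A ^ p = 1 := by
    have h1 := quadratic_pow_mem_centralizer hV
      (Subgroup.zpowers_le.mpr (hHV haH)) hq (Subgroup.mem_zpowers a)
    have h2 : a ^ p ∈ (⊥ : Subgroup G) := hf ▸ ⟨H.pow_mem haH p, h1⟩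
    exact Subtype.ext h2
  set P := pCore p H with hP
  set π := QuotientGroup.mk' P with hπ
  set Qb := pPrimeCore p (H ⧸ P) with hQb
  have hQbc : (Nat.card Qb).Coprime p := card_pPrimeCore_coprime
  obtain ⟨x, hx, hxa⟩ : ∃ x : H, π x ∈ Qb ∧ ⁅x, A⁆ ∉ P := by
    by_contra hcon
    push Not at hcon
    have hmem : π A ∈ Subgroup.centralizer (Qb : Set (H ⧸ P)) := by
      rw [Subgroup.mem_centralizer_iff]
      intro y hy
      obtain ⟨x, rfl⟩ := QuotientGroup.mk'_surjective P y
      rw [← commutatorElement_eq_one_iff_mul_comm, ← map_commutatorElement,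
        QuotientGroup.mk'_apply, QuotientGroup.eq_one_iff]
      exact hcon x hy
    have h1 := centralizer_pPrimeCore_le (isPSolvable_quotient P hsep) pCore_quotient_pCore hmem
    have h2 : π A = 1 :=
      pow_eq_one_iff_of_coprime_aux (hQbc.symm) (by rw [← map_pow, hAp, map_one])
        (orderOf_dvd_iff_pow_eq_one.mp (Subgroup.orderOf_dvd_natCard Qb h1))
    rw [hπ, QuotientGroup.mk'_apply, QuotientGroup.eq_one_iff] at h2
    exact hna ⟨A, h2, rfl⟩
  set B : H := x * A * x⁻¹ with hB
  set H1 := Subgroup.closure ({A, B} : Set H) with hH1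
  have hA1 : A ∈ H1 := Subgroup.subset_closure (Or.inl rfl)
  have hB1 : B ∈ H1 := Subgroup.subset_closure (Or.inr rfl)
  have hc : ⁅x, A⁆ = B * A⁻¹ := by rw [commutatorElement_def]
  have hcQ : π ⁅x, A⁆ ∈ Qb := by
    rw [map_commutatorElement, commutatorElement_def, mul_assoc, mul_assoc]
    refine Qb.mul_mem hx ?_
    rw [← mul_assoc]
    exact (instPPrimeCoreNormal (p := p) (G := H ⧸ P)).conj_mem _ (Qb.inv_mem hx) _
  have hbq : ⁅⁅V, Subgroup.zpowers (B : G)⁆, Subgroup.zpowers (B : G)⁆ = ⊥ := by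
    have hmV : V.map (MulAut.conj (x : G)).toMonoidHom = V := by
      ext y
      constructor
      · rintro ⟨v, hv, rfl⟩
        exact conj_mem_of_le_normalizer hHV x.2 hv
      · intro hy
        exact ⟨(x : G)⁻¹ * y * x, conj_inv_mem_of_le_normalizer hHV x.2 hy, by simp [mul_assoc]⟩
    have h := congrArg (Subgroup.map (MulAut.conj (x : G)).toMonoidHom) hq
    rwa [Subgroup.map_commutator, Subgroup.map_commutator, hmV, MonoidHom.map_zpowers,
      Subgroup.map_bot] at h
  have hrange : (H.subtype.comp H1.subtype).range ≤ H := by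
    rintro _ ⟨y, rfl⟩
    exact (H1.subtype y).2
  have hqa : ⁅⁅x, A⁆, A⁆ ∉ P := fun hmem => hxa <| by
    have h4 : ⁅⁅x, A⁆, A⁆ ∈ P := hmem
    rw [← QuotientGroup.eq_one_iff, ← QuotientGroup.mk'_apply] at h4 ⊢
    rw [map_commutatorElement] at h4 ⊢
    refine commute_of_commutes_commutator hQbc ?_ (by rw [← map_commutatorElement]; exact hcQ) ?_
    · rw [← map_pow, hAp, map_one]
    · rw [map_commutatorElement] at h4
      exact commutatorElement_eq_one_iff_commute.mp h4
  obtain ⟨h3, K, L, hL, hK, he⟩ := sl_two_three_of_pair (p := p) hp2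
    (H.subtype.comp H1.subtype) (H.subtype_injective.comp H1.subtype_injective) V hV
    (hrange.trans hHV) (le_bot_iff.mp (hf ▸ inf_le_inf_right _ hrange))
    (closure_pair_top A B) hq hbq ((Qb.comap π).subgroupOf H1) (P.subgroupOf H1)
    isPGroup_pCore.comap_subtype (fun y hy => ⟨Nat.card Qb, hQbc, by
      show ((y : H) ^ Nat.card Qb : H) ∈ P
      rw [← QuotientGroup.eq_one_iff, ← QuotientGroup.mk'_apply, map_pow]
      exact orderOf_dvd_iff_pow_eq_one.mp (Subgroup.orderOf_dvd_natCard Qb hy)⟩)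
    (q := ⟨⁅x, A⁆, hc ▸ H1.mul_mem hB1 (H1.inv_mem hA1)⟩) hcQ hqa
  exact ⟨h3, K, L, hL, hK.trans hrange, he⟩

end Faithful

end Cfsg.Agent.Thompson
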