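import Mathlib
import Cfsg.Prelude.Def_Transfer
import Cfsg.Prelude.Def_PLocal
import Cfsg.Agent.Lib.Thompson.Basic

/-!
Basic theory of the Thompson subgroup `J(P)` (elementary abelian version) and of `Ω₁`.
-/

set_option autoImplicit false
set_option linter.unusedVariables false
set_option linter.style.haveILetI false

namespace Cfsg.Agent.Thompson

open Cfsg

variable {G : Type*} [Group G] {p : ℕ}

section Max

theorem exists_mem_maxElementaryAbelian (p : ℕ) (G : Type*) [Group G] [Finite G] :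
    ∃ A, A ∈ maxElementaryAbelianSubgroups p G := by
  obtain ⟨A, hA, hmax⟩ := Set.exists_max_image {A : Subgroup G | IsElementaryAbelian p A}
    (fun A => Nat.card A) (Set.toFinite _) ⟨⊥, isElementaryAbelian_bot⟩
  exact ⟨A, hA, hmax⟩

theorem maxElementaryAbelian_card_eq {A B : Subgroup G}
    (hA : A ∈ maxElementaryAbelianSubgroups p G) (hB : B ∈ maxElementaryAbelianSubgroups p G) :
    Nat.card A = Nat.card B :=
  le_antisymm (hB.2 A hA.1) (hA.2 B hB.1)

theorem mem_max_of_card_le {A B : Subgroup G} (hA : A ∈ maxElementaryAbelianSubgroups p G)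
    (hB : IsElementaryAbelian p B) (h : Nat.card A ≤ Nat.card B) :
    B ∈ maxElementaryAbelianSubgroups p G :=
  ⟨hB, fun C hC => (hA.2 C hC).trans h⟩

theorem le_thompsonSubgroup {A : Subgroup G} (hA : A ∈ maxElementaryAbelianSubgroups p G) :
    A ≤ thompsonSubgroup p G :=
  le_sSup hA

/-- A maximal elementary abelian subgroup contains every element of order dividing `p`
centralizing it. -/
theorem mem_of_centralizes_max [Finite G] {A : Subgroup G}
    (hA : A ∈ maxElementaryAbelianSubgroups p G) {x : G}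
    (hx : x ∈ Subgroup.centralizer (A : Set G)) (hxp : x ^ p = 1) : x ∈ A := by
  have h : IsElementaryAbelian p (A ⊔ Subgroup.closure {x} : Subgroup G) :=
    isElementaryAbelian_sup hA.1
      (isElementaryAbelian_closure (by simp) (by simpa using hxp))
      (Subgroup.le_centralizer_iff.mpr ((Subgroup.closure_le _).mpr (Set.singleton_subset_iff.mpr hx)))
  have h2 := Subgroup.eq_of_le_of_card_ge le_sup_left (hA.2 _ h)
  rw [h2]
  exact Subgroup.mem_sup_right (Subgroup.subset_closure rfl)

theorem le_max_of_centralizes [Finite G] {A B : Subgroup G}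
    (hA : A ∈ maxElementaryAbelianSubgroups p G) (hB : IsElementaryAbelian p B)
    (h : B ≤ Subgroup.centralizer (A : Set G)) : B ≤ A :=
  fun x hx => mem_of_centralizes_max hA (h hx) (hB.2 x hx)

theorem max_map_equiv {G' : Type*} [Group G'] (f : G ≃* G') {A : Subgroup G}
    (hA : A ∈ maxElementaryAbelianSubgroups p G) :
    A.map f.toMonoidHom ∈ maxElementaryAbelianSubgroups p G' := by
  refine ⟨isElementaryAbelian_map _ hA.1, fun B hB => ?_⟩
  rw [← Nat.card_congr (A.equivMapOfInjective f.toMonoidHom f.injective).toEquiv,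
    Nat.card_congr (B.equivMapOfInjective f.symm.toMonoidHom f.symm.injective).toEquiv]
  exact hA.2 _ (isElementaryAbelian_map _ hB)

theorem map_thompsonSubgroup_equiv {G' : Type*} [Group G'] (f : G ≃* G') :
    (thompsonSubgroup p G).map f.toMonoidHom = thompsonSubgroup p G' := by
  apply le_antisymm
  · rw [Subgroup.map_le_iff_le_comap]
    refine sSup_le fun A hA => ?_
    rw [← Subgroup.map_le_iff_le_comap]
    exact le_sSup (max_map_equiv f hA)
  · refine sSup_le fun A hA y hy => ?_
    exact ⟨f.symm y, le_sSup (max_map_equiv f.symm hA) ⟨y, hy, rfl⟩, f.apply_symm_apply y⟩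

instance instThompsonCharacteristic : (thompsonSubgroup p G).Characteristic :=
  Subgroup.characteristic_iff_map_eq.mpr fun φ => map_thompsonSubgroup_equiv φ

end Max

section Relative

/-- `A` is of largest order among the elementary abelian subgroups of `H`. -/
def IsMaxEAIn (p : ℕ) (A H : Subgroup G) : Prop :=
  A ≤ H ∧ IsElementaryAbelian p A ∧
    ∀ B : Subgroup G, B ≤ H → IsElementaryAbelian p B → Nat.card B ≤ Nat.card A

theorem isMaxEAIn_top_iff {A : Subgroup G} :
    IsMaxEAIn p A ⊤ ↔ A ∈ maxElementaryAbelianSubgroups p G :=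
  ⟨fun h => ⟨h.2.1, fun B hB => h.2.2 B le_top hB⟩, fun h => ⟨le_top, h.1, fun B _ hB => h.2 B hB⟩⟩

theorem card_subgroupOf_of_le {A H : Subgroup G} (h : A ≤ H) :
    Nat.card (A.subgroupOf H) = Nat.card A :=
  Nat.card_congr (Subgroup.subgroupOfEquivOfLe h).toEquiv

theorem isMaxEAIn_map_subtype {H : Subgroup G} {A : Subgroup H}
    (hA : A ∈ maxElementaryAbelianSubgroups p H) : IsMaxEAIn p (A.map H.subtype) H := by
  refine ⟨Subgroup.map_subtype_le A, isElementaryAbelian_map _ hA.1, fun B hB hBe => ?_⟩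
  rw [Subgroup.card_map_of_injective H.subtype_injective, ← card_subgroupOf_of_le hB]
  exact hA.2 _ (isElementaryAbelian_subgroupOf hBe H)

theorem IsMaxEAIn.subgroupOf_mem {A H : Subgroup G} (h : IsMaxEAIn p A H) :
    A.subgroupOf H ∈ maxElementaryAbelianSubgroups p H := by
  refine ⟨isElementaryAbelian_subgroupOf h.2.1 H, fun B hB => ?_⟩
  rw [card_subgroupOf_of_le h.1, ← Subgroup.card_map_of_injective H.subtype_injective]
  exact h.2.2 _ (Subgroup.map_subtype_le B) (isElementaryAbelian_map _ hB)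

theorem thompsonSubgroupOf_eq (H : Subgroup G) :
    thompsonSubgroupOf p H = sSup {A : Subgroup G | IsMaxEAIn p A H} := by
  apply le_antisymm
  · rw [thompsonSubgroupOf, thompsonSubgroup, Subgroup.map_le_iff_le_comap]
    refine sSup_le fun A hA => ?_
    rw [← Subgroup.map_le_iff_le_comap]
    exact le_sSup (isMaxEAIn_map_subtype hA)
  · refine sSup_le fun A hA => ?_
    rw [← Subgroup.map_subgroupOf_eq_of_le hA.1]
    exact Subgroup.map_mono (le_thompsonSubgroup hA.subgroupOf_mem)

theorem thompsonSubgroupOf_le (H : Subgroup G) : thompsonSubgroupOf p H ≤ H :=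
  Subgroup.map_subtype_le _

theorem le_thompsonSubgroupOf {A H : Subgroup G} (h : IsMaxEAIn p A H) :
    A ≤ thompsonSubgroupOf p H := by
  rw [thompsonSubgroupOf_eq]; exact le_sSup h

theorem exists_isMaxEAIn [Finite G] (p : ℕ) (H : Subgroup G) : ∃ A, IsMaxEAIn p A H := by
  obtain ⟨A, hA⟩ := exists_mem_maxElementaryAbelian p H
  exact ⟨_, isMaxEAIn_map_subtype hA⟩

theorem IsMaxEAIn.of_le {A H K : Subgroup G} (h : IsMaxEAIn p A H) (hK : K ≤ H) (hA : A ≤ K) :
    IsMaxEAIn p A K :=
  ⟨hA, h.2.1, fun B hB hBe => h.2.2 B (hB.trans hK) hBe⟩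

/-- If `J(H) ≤ K ≤ H` then `J(K) = J(H)`. -/
theorem thompsonSubgroupOf_eq_of_le [Finite G] {H K : Subgroup G} (hKH : K ≤ H)
    (hJ : thompsonSubgroupOf p H ≤ K) : thompsonSubgroupOf p K = thompsonSubgroupOf p H := by
  obtain ⟨A0, hA0⟩ := exists_isMaxEAIn p H
  have hA0K : A0 ≤ K := (le_thompsonSubgroupOf hA0).trans hJ
  rw [thompsonSubgroupOf_eq, thompsonSubgroupOf_eq]
  congr 1
  ext A
  constructor
  · intro hA
    exact ⟨hA.1.trans hKH, hA.2.1,
      fun B hB hBe => (hA0.2.2 B hB hBe).trans (hA.2.2 A0 hA0K hA0.2.1)⟩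
  · intro hA
    exact hA.of_le hKH ((le_thompsonSubgroupOf hA).trans hJ)

theorem thompsonSubgroupOf_top : thompsonSubgroupOf p (⊤ : Subgroup G) = thompsonSubgroup p G := by
  rw [thompsonSubgroupOf_eq, thompsonSubgroup]
  congr 1
  ext A
  exact isMaxEAIn_top_iff

theorem thompsonSubgroupOf_map {G' : Type*} [Group G'] (f : G →* G') (H : Subgroup G)
    (hf : Set.InjOn f H) :
    (thompsonSubgroupOf p H).map f = thompsonSubgroupOf p (H.map f) := by
  have hinj : Function.Injective (f.subgroupMap H) := fun x y h =>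
    Subtype.ext (hf x.2 y.2 (congrArg Subtype.val h))
  let e : H ≃* H.map f :=
    MulEquiv.ofBijective (f.subgroupMap H) ⟨hinj, f.subgroupMap_surjective H⟩
  rw [thompsonSubgroupOf, thompsonSubgroupOf, ← map_thompsonSubgroup_equiv (p := p) e,
    Subgroup.map_map, Subgroup.map_map]
  rfl

theorem thompsonSubgroupOf_conj (H : Subgroup G) (g : G) :
    (thompsonSubgroupOf p H).map (MulAut.conj g).toMonoidHom =
      thompsonSubgroupOf p (H.map (MulAut.conj g).toMonoidHom) :=
  thompsonSubgroupOf_map _ H ((MulAut.conj g).injective.injOn)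

/-- `N_G(H) ≤ N_G(J(H))`. -/
theorem normalizer_le_normalizer_thompsonSubgroupOf (H : Subgroup G) :
    Subgroup.normalizer (H : Set G) ≤
      Subgroup.normalizer (thompsonSubgroupOf p H : Set G) := by
  intro g hg
  rw [Subgroup.mem_normalizer_iff] at hg
  have h1 : H.map (MulAut.conj g).toMonoidHom = H := by
    ext x
    constructor
    · rintro ⟨y, hy, rfl⟩; exact (hg y).mp hy
    · intro hx
      exact ⟨g⁻¹ * x * g, (hg _).mpr (by simpa [mul_assoc] using hx), by simp [mul_assoc]⟩
  have h2 := thompsonSubgroupOf_conj (p := p) H g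
  rw [h1] at h2
  rw [Subgroup.mem_normalizer_iff]
  intro x
  constructor
  · intro hx; rw [← h2]; exact ⟨x, hx, rfl⟩
  · intro hx
    rw [← h2] at hx
    obtain ⟨y, hy, hxy⟩ := hx
    simpa [MulEquiv.coe_toMonoidHom, MulAut.conj_apply] using
      ((MulAut.conj g).injective hxy ▸ hy)

theorem isMaxEAIn_smul {A H : Subgroup G} (h : IsMaxEAIn p A H) (g : G) :
    IsMaxEAIn p (A.map (MulAut.conj g).toMonoidHom) (H.map (MulAut.conj g).toMonoidHom) := by
  refine ⟨Subgroup.map_mono h.1, isElementaryAbelian_map _ h.2.1, fun B hB hBe => ?_⟩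
  obtain ⟨B, rfl⟩ : ∃ B' : Subgroup G, B'.map (MulAut.conj g).toMonoidHom = B :=
    ⟨B.comap (MulAut.conj g).toMonoidHom,
      Subgroup.map_comap_eq_self_of_surjective (MulAut.conj g).surjective _⟩
  have hinj : Function.Injective (MulAut.conj g).toMonoidHom := (MulAut.conj g).injective
  rw [Subgroup.card_map_of_injective hinj, Subgroup.card_map_of_injective hinj]
  exact h.2.2 B ((Subgroup.map_le_map_iff_of_injective hinj).mp hB)
    ((isElementaryAbelian_iff_of_injective hinj).mp hBe)

theorem exists_sylow_isMaxEAIn [Finite G] [Fact p.Prime] {A : Subgroup G}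
    (hA : A ∈ maxElementaryAbelianSubgroups p G) :
    ∃ S : Sylow p G, A ≤ S ∧ IsMaxEAIn p A (S : Subgroup G) := by
  obtain ⟨S, hS⟩ := (isPGroup_of_isElementaryAbelian hA.1).exists_le_sylow
  exact ⟨S, hS, hS, hA.1, fun B _ hB => hA.2 B hB⟩

theorem isMaxEAIn_sylow_iff [Finite G] [Fact p.Prime] (S : Sylow p G) {A : Subgroup G}
    (h : IsMaxEAIn p A (S : Subgroup G)) : A ∈ maxElementaryAbelianSubgroups p G := by
  refine ⟨h.2.1, fun B hB => ?_⟩
  obtain ⟨T, hT⟩ := (isPGroup_of_isElementaryAbelian hB).exists_le_sylow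
  obtain ⟨g, hg⟩ := MulAction.exists_smul_eq G T S
  have hinj : Function.Injective (MulAut.conj g).toMonoidHom := (MulAut.conj g).injective
  rw [← Subgroup.card_map_of_injective hinj]
  refine h.2.2 _ ?_ (isElementaryAbelian_map _ hB)
  rw [← hg, Sylow.coe_subgroup_smul]
  exact Subgroup.map_mono hT

theorem thompsonSubgroupOf_sylow_le [Finite G] [Fact p.Prime] (S : Sylow p G) :
    thompsonSubgroupOf p (S : Subgroup G) ≤ thompsonSubgroup p G := by
  rw [thompsonSubgroupOf_eq]
  exact sSup_le fun A hA => le_thompsonSubgroup (isMaxEAIn_sylow_iff S hA)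

theorem thompsonSubgroup_eq_iSup_sylow [Finite G] [Fact p.Prime] :
    thompsonSubgroup p G = ⨆ S : Sylow p G, thompsonSubgroupOf p (S : Subgroup G) := by
  refine le_antisymm (sSup_le fun A hA => ?_) (iSup_le thompsonSubgroupOf_sylow_le)
  obtain ⟨S, _, hS⟩ := exists_sylow_isMaxEAIn hA
  exact (le_thompsonSubgroupOf hS).trans
    (le_iSup (fun S : Sylow p G => thompsonSubgroupOf p (S : Subgroup G)) S)

theorem mem_thompsonSubgroup_of_centralizes [Finite G] {x : G}
    (hx : x ∈ Subgroup.centralizer (thompsonSubgroup p G : Set G)) (hxp : x ^ p = 1) :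
    x ∈ thompsonSubgroup p G := by
  obtain ⟨A, hA⟩ := exists_mem_maxElementaryAbelian p G
  exact le_thompsonSubgroup hA
    (mem_of_centralizes_max hA (Subgroup.centralizer_le (le_thompsonSubgroup hA) hx) hxp)

theorem thompsonSubgroup_ne_bot [Finite G] [hp : Fact p.Prime] (h : p ∣ Nat.card G) :
    thompsonSubgroup p G ≠ ⊥ := by
  obtain ⟨x, hx⟩ := exists_prime_orderOf_dvd_card' p h
  intro hb
  have hc : x ∈ Subgroup.centralizer (thompsonSubgroup p G : Set G) := by
    rw [hb, Subgroup.mem_centralizer_iff]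
    intro y hy
    rw [Subgroup.mem_bot.mp hy, one_mul, mul_one]
  have := mem_thompsonSubgroup_of_centralizes hc (hx ▸ pow_orderOf_eq_one x)
  rw [hb, Subgroup.mem_bot] at this
  rw [this, orderOf_one] at hx
  exact hp.out.ne_one hx.symm

end Relative

section Omega

theorem omegaOne_le (p : ℕ) (H : Subgroup G) : omegaOne p H ≤ H :=
  (Subgroup.closure_le H).mpr fun _ hx => hx.1

theorem mem_omegaOne {H : Subgroup G} {x : G} (hx : x ∈ H) (hp : x ^ p = 1) : x ∈ omegaOne p H :=
  Subgroup.subset_closure ⟨hx, hp⟩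

theorem omegaOne_mono {H K : Subgroup G} (h : H ≤ K) : omegaOne p H ≤ omegaOne p K :=
  Subgroup.closure_mono fun _ hx => ⟨h hx.1, hx.2⟩

theorem map_omegaOne {G' : Type*} [Group G'] (f : G →* G') (H : Subgroup G)
    (hf : Set.InjOn f H) : (omegaOne p H).map f = omegaOne p (H.map f) := by
  rw [omegaOne, omegaOne, MonoidHom.map_closure]
  congr 1
  ext y
  constructor
  · rintro ⟨x, ⟨hx, hxp⟩, rfl⟩
    exact ⟨⟨x, hx, rfl⟩, by rw [← map_pow, hxp, map_one]⟩
  · rintro ⟨⟨x, hx, rfl⟩, hp⟩
    refine ⟨x, ⟨hx, hf (H.pow_mem hx p) H.one_mem ?_⟩, rfl⟩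
    rw [map_pow, hp, map_one]

theorem isElementaryAbelian_omegaOne {H : Subgroup G} (h : IsMulCommutative H) :
    IsElementaryAbelian p (omegaOne p H) :=
  isElementaryAbelian_closure (fun _ hx _ hy => elemAb_comm h hx.1 hy.1) (fun _ hx => hx.2)

theorem omegaOne_ne_bot [Finite G] [hp : Fact p.Prime] {H : Subgroup G} (h : IsPGroup p H)
    (hH : H ≠ ⊥) : omegaOne p H ≠ ⊥ := by
  obtain ⟨n, hn⟩ := IsPGroup.iff_card.mp h
  have hdvd : p ∣ Nat.card H := by
    have hn0 : n ≠ 0 := by
      rintro rfl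
      exact hH (Subgroup.card_eq_one.mp (by simpa using hn))
    rw [hn]; exact dvd_pow_self p hn0
  obtain ⟨x, hx⟩ := exists_prime_orderOf_dvd_card' p hdvd
  intro hb
  have h1 : (x : G) ^ p = 1 := by
    have := congrArg Subtype.val (hx ▸ pow_orderOf_eq_one x)
    simpa using this
  have : (x : G) ∈ omegaOne p H := mem_omegaOne x.2 h1
  rw [hb, Subgroup.mem_bot] at this
  rw [← Subgroup.orderOf_coe, this, orderOf_one] at hx
  exact hp.out.ne_one hx.symm

end Omega

end Cfsg.Agent.Thompson
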