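import Mathlib
import Cfsg.Prelude.Def_Transfer
import Cfsg.Prelude.Def_PLocal
import Cfsg.Agent.Lib.Thompson.Basic
import Cfsg.Agent.Lib.Thompson.JSubgroup

/-!
The replacement theorems of Thompson and Timmesfeld for best offenders on an abelian subgroup.
-/

set_option autoImplicit false
set_option linter.unusedVariables false
set_option linter.style.haveILetI false

namespace Cfsg.Agent.Thompson

open Cfsg
open scoped commutatorElement Pointwise

variable {G : Type*} [Group G] {p : ℕ}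

theorem card_sup_mul_card_inf {H K : Subgroup G}
    (h : K ≤ Subgroup.normalizer (H : Set G)) :
    Nat.card ↥(H ⊔ K) * Nat.card ↥(H ⊓ K) = Nat.card H * Nat.card K := by
  haveI : (H.subgroupOf (H ⊔ K)).Normal :=
    Subgroup.normal_subgroupOf_of_le_normalizer (sup_le Subgroup.le_normalizer h)
  have h1 : H.relIndex (H ⊔ K) = H.relIndex K := by
    rw [← Subgroup.relIndex_subgroupOf (H := H) le_rfl,
      ← Subgroup.relIndex_subgroupOf (H := H) (K := K) (le_sup_right : K ≤ H ⊔ K),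
      ← Subgroup.relIndex_sup_left (K.subgroupOf (H ⊔ K)) (H.subgroupOf (H ⊔ K)),
      ← Subgroup.subgroupOf_sup le_sup_left le_sup_right]
  have h2 : Nat.card ↥(H ⊔ K) = Nat.card H * H.relIndex (H ⊔ K) := by
    rw [← Subgroup.relIndex_bot_left, ← Subgroup.relIndex_bot_left,
      Subgroup.relIndex_mul_relIndex _ _ _ bot_le le_sup_left]
  have h3 : Nat.card K = Nat.card ↥(H ⊓ K) * H.relIndex K := by
    rw [← Subgroup.inf_relIndex_right, ← Subgroup.relIndex_bot_left, ← Subgroup.relIndex_bot_left,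
      Subgroup.relIndex_mul_relIndex _ _ _ bot_le inf_le_right]
  rw [h2, h3, h1]
  ring

/-- The measure `|B| |C_V(B)|`. -/
noncomputable def measureOn (V B : Subgroup G) : ℕ :=
  Nat.card B * Nat.card ↥(V ⊓ Subgroup.centralizer (B : Set G))

theorem measureOn_eq (V B : Subgroup G) :
    measureOn V B = Nat.card B * Nat.card ↥(V ⊓ Subgroup.centralizer (B : Set G)) := rfl

theorem le_normalizer_of_commutator_le {A B : Subgroup G} (hB : B ≤ A) (h : ⁅A, A⁆ ≤ B) :
    A ≤ Subgroup.normalizer (B : Set G) :=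
  Subgroup.le_normalizer_iff_commutator_le_left.mpr ((Subgroup.commutator_mono hB le_rfl).trans h)

variable {V A : Subgroup G}

/-- For fixed `u`, the elements `[u, a]` separate the cosets of `C_A([u, A])` modulo `C_V(A)`. -/
theorem inv_mul_mem_centralizer_commutators (hV : IsMulCommutative V)
    (hAV : A ≤ Subgroup.normalizer (V : Set G)) (hab : ⁅A, A⁆ ≤ Subgroup.centralizer (V : Set G))
    {u a b z : G} (hu : u ∈ V) (ha : a ∈ A) (hb : b ∈ A)
    (hz : z ∈ V ⊓ Subgroup.centralizer (A : Set G)) (h : ⁅u, a⁆ = ⁅u, b⁆ * z) :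
    b⁻¹ * a ∈ Subgroup.centralizer
      ((Subgroup.closure ((fun d => ⁅u, d⁆) '' (A : Set G)) : Subgroup G) : Set G) := by
  rw [Subgroup.centralizer_closure, Subgroup.mem_centralizer_iff]
  rintro _ ⟨d, hd, rfl⟩
  set c := b⁻¹ * a with hc
  have hcA : c ∈ A := A.mul_mem (A.inv_mem hb) ha
  have hzA : ∀ e ∈ A, e * z = z * e := fun e he => Subgroup.mem_centralizer_iff.mp hz.2 e he
  -- `c u⁻¹ c⁻¹ = u⁻¹ z`
  have h0 : a * u⁻¹ * a⁻¹ = b * u⁻¹ * b⁻¹ * z := by
    have h' := congrArg (fun y => u⁻¹ * y) h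
    simp only [commutatorElement_def, ← mul_assoc, inv_mul_cancel, one_mul] at h'
    exact h'
  have h1 : c * u⁻¹ * c⁻¹ = u⁻¹ * z :=
    calc c * u⁻¹ * c⁻¹ = b⁻¹ * (a * u⁻¹ * a⁻¹) * b := by rw [hc]; group
      _ = b⁻¹ * (b * u⁻¹ * b⁻¹ * z) * b := by rw [h0]
      _ = u⁻¹ * (b⁻¹ * (z * b)) := by group
      _ = u⁻¹ * z := by rw [← hzA b hb, ← mul_assoc b⁻¹, inv_mul_cancel, one_mul]
  have h2 : c * u * c⁻¹ = u * z⁻¹ := by
    have h' := congrArg (·⁻¹) h1
    simp only [mul_inv_rev, inv_inv] at h'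
    rw [mul_assoc, h', elemAb_comm hV (V.inv_mem hz.1) hu]
  have hcd : ∀ v ∈ V, c * (d * v * d⁻¹) * c⁻¹ = d * (c * v * c⁻¹) * d⁻¹ := fun v hv => by
    have hk := hab (Subgroup.commutator_mem_commutator (A.inv_mem hd) (A.inv_mem hcA))
    have := Subgroup.mem_centralizer_iff.mp hk v hv
    calc c * (d * v * d⁻¹) * c⁻¹ = c * d * (v * ⁅d⁻¹, c⁻¹⁆) * ⁅d⁻¹, c⁻¹⁆⁻¹ * d⁻¹ * c⁻¹ := by
          group
      _ = c * d * (⁅d⁻¹, c⁻¹⁆ * v) * ⁅d⁻¹, c⁻¹⁆⁻¹ * d⁻¹ * c⁻¹ := by rw [this]
      _ = d * (c * v * c⁻¹) * d⁻¹ := by simp [commutatorElement_def, mul_assoc]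
  have h3 : c * ⁅u, d⁆ * c⁻¹ = ⁅u, d⁆ :=
    calc c * ⁅u, d⁆ * c⁻¹ = (c * u * c⁻¹) * (c * (d * u⁻¹ * d⁻¹) * c⁻¹) := by
          rw [commutatorElement_def]; group
      _ = (u * z⁻¹) * (d * (u⁻¹ * z) * d⁻¹) := by rw [hcd _ (V.inv_mem hu), h1, h2]
      _ = (u * z⁻¹) * (d * u⁻¹ * (z * d⁻¹)) := by group
      _ = u * (z⁻¹ * (d * u⁻¹ * d⁻¹)) * z := by
          rw [← hzA d⁻¹ (A.inv_mem hd)]; group
      _ = u * ((d * u⁻¹ * d⁻¹) * z⁻¹) * z := by
          rw [elemAb_comm hV (V.inv_mem hz.1) (conj_mem_of_le_normalizer hAV hd (V.inv_mem hu))]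
      _ = ⁅u, d⁆ := by rw [commutatorElement_def]; group
  exact (mul_inv_eq_iff_eq_mul.mp h3).symm

/-- `B` fixes the pair `(X, A)` in the replacement sense. -/
def ReplProp (V A X : Subgroup G) : Prop :=
  measureOn V (A ⊓ Subgroup.centralizer (X : Set G)) = measureOn V A ∧
    V ⊓ Subgroup.centralizer ((A ⊓ Subgroup.centralizer (X : Set G) : Subgroup G) : Set G) =
      X ⊔ (V ⊓ Subgroup.centralizer (A : Set G))

theorem replProp_commutators [Finite G] (hV : IsMulCommutative V)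
    (hAV : A ≤ Subgroup.normalizer (V : Set G)) (hab : ⁅A, A⁆ ≤ Subgroup.centralizer (V : Set G))
    (hmax : ∀ B, B ≤ A → measureOn V B ≤ measureOn V A) {u : G} (hu : u ∈ V) :
    ReplProp V A (Subgroup.closure ((fun d => ⁅u, d⁆) '' (A : Set G))) := by
  set X := Subgroup.closure ((fun d => ⁅u, d⁆) '' (A : Set G)) with hX
  set B := A ⊓ Subgroup.centralizer (X : Set G) with hB
  set Y := V ⊓ Subgroup.centralizer (A : Set G) with hY
  have hXV : X ≤ V := by
    rw [hX, Subgroup.closure_le]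
    rintro _ ⟨d, hd, rfl⟩
    exact commutatorElement_mem_of_le_normalizer hAV hd hu
  have hle : X ⊔ Y ≤ V ⊓ Subgroup.centralizer (B : Set G) := by
    refine sup_le (le_inf hXV ?_) (le_inf inf_le_left ?_)
    · exact Subgroup.le_centralizer_iff.mp inf_le_right
    · exact inf_le_right.trans (Subgroup.centralizer_le inf_le_left)
  -- count cosets
  let f : A → ↥(X ⊔ Y) ⧸ Y.subgroupOf (X ⊔ Y) := fun a =>
    QuotientGroup.mk ⟨⁅u, (a : G)⁆, Subgroup.mem_sup_left (Subgroup.subset_closure ⟨a, a.2, rfl⟩)⟩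
  let g : A ⧸ B.subgroupOf A → ↥(X ⊔ Y) ⧸ Y.subgroupOf (X ⊔ Y) := fun q => f q.out
  have hg : Function.Injective g := by
    intro q r hqr
    rw [← QuotientGroup.out_eq' q, ← QuotientGroup.out_eq' r, QuotientGroup.eq]
    simp only [g, f] at hqr
    rw [QuotientGroup.eq, Subgroup.mem_subgroupOf] at hqr
    simp only [Subgroup.coe_mul, Subgroup.coe_inv] at hqr
    refine Subgroup.mem_subgroupOf.mpr ⟨(q.out⁻¹ * r.out).2, ?_⟩
    simp only [Subgroup.coe_mul, Subgroup.coe_inv]
    exact inv_mul_mem_centralizer_commutators hV hAV hab hu r.out.2 q.out.2 hqr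
      (by rw [mul_inv_cancel_left])
  have h1 : B.relIndex A ≤ Y.relIndex (X ⊔ Y) := Nat.card_le_card_of_injective g hg
  have hA : Nat.card A = Nat.card B * B.relIndex A := by
    rw [← Subgroup.relIndex_bot_left, ← Subgroup.relIndex_bot_left,
      Subgroup.relIndex_mul_relIndex _ _ _ bot_le inf_le_left]
  have hXY : Nat.card ↥(X ⊔ Y) = Nat.card Y * Y.relIndex (X ⊔ Y) := by
    rw [← Subgroup.relIndex_bot_left, ← Subgroup.relIndex_bot_left,
      Subgroup.relIndex_mul_relIndex _ _ _ bot_le le_sup_right]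
  have h2 : measureOn V A ≤ Nat.card B * Nat.card ↥(X ⊔ Y) := by
    rw [measureOn_eq, ← hY, hA, hXY, mul_assoc, mul_comm (B.relIndex A)]
    gcongr
  have h3 : measureOn V B ≤ measureOn V A := hmax B inf_le_left
  have h4 : Nat.card B * Nat.card ↥(X ⊔ Y) ≤ measureOn V B := by
    rw [measureOn_eq]
    exact Nat.mul_le_mul_left _ (Subgroup.card_le_of_le hle)
  refine ⟨le_antisymm h3 (h2.trans h4), (Subgroup.eq_of_le_of_card_ge hle ?_).symm⟩
  have h5 := h3.trans h2
  rw [measureOn_eq] at h5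
  exact Nat.le_of_mul_le_mul_left h5 Nat.card_pos

theorem replProp_bot : ReplProp V A ⊥ := by
  have h : A ⊓ Subgroup.centralizer ((⊥ : Subgroup G) : Set G) = A := by
    rw [inf_eq_left]
    intro x _
    rw [Subgroup.mem_centralizer_iff]
    intro y hy
    rw [Subgroup.mem_bot.mp hy, one_mul, mul_one]
  rw [ReplProp, h, bot_sup_eq]
  exact ⟨rfl, rfl⟩

theorem replProp_sup [Finite G] (hV : IsMulCommutative V)
    (hAV : A ≤ Subgroup.normalizer (V : Set G)) (hab : ⁅A, A⁆ ≤ Subgroup.centralizer (V : Set G))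
    (hmax : ∀ B, B ≤ A → measureOn V B ≤ measureOn V A) {X X' : Subgroup G} (hXV : X ≤ V)
    (hX'V : X' ≤ V) (hX : ReplProp V A X) (hX' : ReplProp V A X') : ReplProp V A (X ⊔ X') := by
  set B := A ⊓ Subgroup.centralizer (X : Set G) with hB
  set C := A ⊓ Subgroup.centralizer (X' : Set G) with hC
  set Y := V ⊓ Subgroup.centralizer (A : Set G) with hY
  have hinf : A ⊓ Subgroup.centralizer ((X ⊔ X' : Subgroup G) : Set G) = B ⊓ C := by
    apply le_antisymm
    · exact le_inf (inf_le_inf_left _ (Subgroup.centralizer_le (le_sup_left : X ≤ X ⊔ X')))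
        (inf_le_inf_left _ (Subgroup.centralizer_le (le_sup_right : X' ≤ X ⊔ X')))
    · refine le_inf (inf_le_left.trans inf_le_left) ?_
      rw [Subgroup.le_centralizer_iff, sup_le_iff]
      exact ⟨Subgroup.le_centralizer_iff.mp (inf_le_left.trans inf_le_right),
        Subgroup.le_centralizer_iff.mp (inf_le_right.trans inf_le_right)⟩
  have hAA : ⁅A, A⁆ ≤ B :=
    le_inf (Subgroup.le_normalizer_iff_commutator_le_left.mp Subgroup.le_normalizer)
      (hab.trans (Subgroup.centralizer_le hXV))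
  have hCB : C ≤ Subgroup.normalizer (B : Set G) :=
    inf_le_left.trans (le_normalizer_of_commutator_le inf_le_left hAA)
  have hcard := card_sup_mul_card_inf hCB
  set P := V ⊓ Subgroup.centralizer (B : Set G) with hP
  set Q := V ⊓ Subgroup.centralizer (C : Set G) with hQ
  have hQP : Q ≤ Subgroup.normalizer (P : Set G) :=
    inf_le_left.trans ((le_centralizer_self hV).trans ((Subgroup.centralizer_le inf_le_left).trans
      (Subgroup.centralizer_le_normalizer _)))
  have hcardV := card_sup_mul_card_inf hQP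
  have hsup : P ⊔ Q ≤ V ⊓ Subgroup.centralizer ((B ⊓ C : Subgroup G) : Set G) :=
    sup_le (inf_le_inf_left _ (Subgroup.centralizer_le inf_le_left))
      (inf_le_inf_left _ (Subgroup.centralizer_le inf_le_right))
  have hinfPQ : P ⊓ Q ≤ V ⊓ Subgroup.centralizer ((B ⊔ C : Subgroup G) : Set G) := by
    refine le_inf (inf_le_left.trans inf_le_left) ?_
    rw [Subgroup.le_centralizer_iff, sup_le_iff]
    exact ⟨Subgroup.le_centralizer_iff.mp (inf_le_left.trans inf_le_right),
      Subgroup.le_centralizer_iff.mp (inf_le_right.trans inf_le_right)⟩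
  have hBC : measureOn V (B ⊔ C) ≤ measureOn V A := hmax _ (sup_le inf_le_left inf_le_left)
  have hI : measureOn V (B ⊓ C) ≤ measureOn V A := hmax _ (inf_le_left.trans inf_le_left)
  have key : measureOn V A * (Nat.card ↥(B ⊓ C) * Nat.card ↥(P ⊔ Q)) ≥
      measureOn V A * measureOn V A := by
    calc measureOn V A * measureOn V A = measureOn V B * measureOn V C := by rw [hX.1, hX'.1]
      _ = (Nat.card ↥(B ⊔ C) * Nat.card ↥(P ⊓ Q)) *
            (Nat.card ↥(B ⊓ C) * Nat.card ↥(P ⊔ Q)) := by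
          rw [measureOn_eq, measureOn_eq, ← hP, ← hQ, mul_mul_mul_comm, ← hcard, ← hcardV]
          ring
      _ ≤ measureOn V A * (Nat.card ↥(B ⊓ C) * Nat.card ↥(P ⊔ Q)) := by
          refine Nat.mul_le_mul_right _ (le_trans ?_ hBC)
          exact Nat.mul_le_mul_left _ (Subgroup.card_le_of_le hinfPQ)
  have hpos : 0 < measureOn V A := Nat.mul_pos Nat.card_pos Nat.card_pos
  have k1 : measureOn V A ≤ Nat.card ↥(B ⊓ C) * Nat.card ↥(P ⊔ Q) :=
    Nat.le_of_mul_le_mul_left key hpos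
  rw [ReplProp, hinf]
  refine ⟨le_antisymm hI (k1.trans (Nat.mul_le_mul_left _ (Subgroup.card_le_of_le hsup))), ?_⟩
  have k2 : V ⊓ Subgroup.centralizer ((B ⊓ C : Subgroup G) : Set G) = P ⊔ Q := by
    refine (Subgroup.eq_of_le_of_card_ge hsup ?_).symm
    exact Nat.le_of_mul_le_mul_left (hI.trans k1) Nat.card_pos
  rw [k2, hP, hQ, hX.2, hX'.2, sup_sup_sup_comm, sup_idem]

theorem replProp_commutator [Finite G] (hV : IsMulCommutative V)
    (hAV : A ≤ Subgroup.normalizer (V : Set G)) (hab : ⁅A, A⁆ ≤ Subgroup.centralizer (V : Set G))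
    (hmax : ∀ B, B ≤ A → measureOn V B ≤ measureOn V A) {U : Subgroup G} (hU : U ≤ V) :
    ReplProp V A ⁅U, A⁆ := by
  classical
  haveI := Fintype.ofFinite G
  let F : G → Subgroup G := fun u => Subgroup.closure ((fun d => ⁅u, d⁆) '' (A : Set G))
  have hUset : ⁅U, A⁆ = (Finset.univ.filter (· ∈ U)).sup F := by
    apply le_antisymm
    · rw [Subgroup.commutator_le]
      intro u hu a ha
      exact (Finset.le_sup (f := F) (Finset.mem_filter.mpr ⟨Finset.mem_univ u, hu⟩) :
        F u ≤ _) (Subgroup.subset_closure ⟨a, ha, rfl⟩)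
    · refine Finset.sup_le fun u hu => ?_
      rw [Finset.mem_filter] at hu
      rw [Subgroup.closure_le]
      rintro _ ⟨a, ha, rfl⟩
      exact Subgroup.commutator_mem_commutator hu.2 ha
  rw [hUset]
  refine (Finset.sup_induction (p := fun X => X ≤ V ∧ ReplProp V A X) ⟨bot_le, replProp_bot⟩
    (fun X hX X' hX' => ⟨sup_le hX.1 hX'.1, replProp_sup hV hAV hab hmax hX.1 hX'.1 hX.2 hX'.2⟩)
    fun u hu => ?_).2
  rw [Finset.mem_filter] at hu
  refine ⟨?_, replProp_commutators hV hAV hab hmax (hU hu.2)⟩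
  rw [Subgroup.closure_le]
  rintro _ ⟨d, hd, rfl⟩
  exact commutatorElement_mem_of_le_normalizer hAV hd (hU hu.2)

/-- `[V, A] < V` : if `A / C_A(V)` has prime exponent, then `[W, A] = W` forces `W = 1`. -/
theorem eq_bot_of_commutator_eq_self_of_exponent [Finite G] [hp : Fact p.Prime]
    (hV : IsPGroup p V) (hAV : A ≤ Subgroup.normalizer (V : Set G))
    (hexp : ∀ a ∈ A, a ^ p ∈ Subgroup.centralizer (V : Set G)) {W : Subgroup G} (hWV : W ≤ V)
    (hW : W ≤ ⁅W, A⁆) (hWA : A ≤ Subgroup.normalizer (W : Set G)) : W = ⊥ := by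
  obtain ⟨T⟩ := (inferInstance : Nonempty (Sylow p A))
  set P := (T : Subgroup A).map A.subtype with hP
  set C := A ⊓ Subgroup.centralizer (V : Set G) with hC
  have hPA : P ≤ A := Subgroup.map_subtype_le _
  have hPC : P ≤ Subgroup.normalizer (C : Set G) := by
    rw [Subgroup.le_normalizer_iff]
    intro a ha c hc
    exact ⟨A.mul_mem (A.mul_mem (hPA ha) hc.1) (A.inv_mem (hPA ha)),
      (Subgroup.mem_normalizer_iff.mp (le_normalizer_centralizer hAV (hPA ha)) c).mp hc.2⟩
  have hAle : A ≤ C ⊔ P := by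
    haveI hCn : (C.subgroupOf A).Normal := by
      refine Subgroup.normal_subgroupOf_of_le_normalizer ?_
      rw [Subgroup.le_normalizer_iff]
      intro a ha c hc
      exact ⟨A.mul_mem (A.mul_mem ha hc.1) (A.inv_mem ha),
        (Subgroup.mem_normalizer_iff.mp (le_normalizer_centralizer hAV ha) c).mp hc.2⟩
    have hq : IsPGroup p (A ⧸ C.subgroupOf A) := by
      intro x
      obtain ⟨a, rfl⟩ := QuotientGroup.mk'_surjective (C.subgroupOf A) x
      refine ⟨1, ?_⟩
      rw [pow_one, ← map_pow, QuotientGroup.mk'_apply, QuotientGroup.eq_one_iff]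
      exact ⟨A.pow_mem a.2 p, hexp a a.2⟩
    have htop : C.subgroupOf A ⊔ (T : Subgroup A) = ⊤ := by
      rw [← Subgroup.index_eq_one]
      have h1 : (C.subgroupOf A ⊔ (T : Subgroup A)).index ∣ (T : Subgroup A).index :=
        Subgroup.index_dvd_of_le le_sup_right
      obtain ⟨k, hk⟩ := IsPGroup.iff_card.mp hq
      rw [← Subgroup.index_eq_card] at hk
      have h2 : (C.subgroupOf A ⊔ (T : Subgroup A)).index ∣ p ^ k :=
        hk ▸ Subgroup.index_dvd_of_le le_sup_left
      obtain ⟨j, _, hj⟩ := (Nat.dvd_prime_pow hp.out).mp h2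
      rcases Nat.eq_zero_or_pos j with rfl | hj0
      · simpa using hj
      · exact absurd ((dvd_pow_self p hj0.ne').trans (hj ▸ h1)) T.not_dvd_index
    have := congrArg (Subgroup.map A.subtype) htop
    rw [Subgroup.map_sup, Subgroup.map_subgroupOf_eq_of_le inf_le_left, ← MonoidHom.range_eq_map,
      Subgroup.range_subtype] at this
    exact this.ge
  have h1 : W ≤ ⁅W, P⁆ := hW.trans (commutator_le_of_le_sup_centralizer
    ((inf_le_right : C ≤ _).trans (Subgroup.centralizer_le hWV)) (hPA.trans hWA) hPC hAle)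
  refine eq_bot_of_commutator_eq_self (p := p) (P := W ⊔ P) ?_ le_sup_left
    (h1.trans (Subgroup.commutator_mono le_rfl le_sup_right))
  exact (hV.to_le hWV).to_sup_of_normal_left' (T.isPGroup'.map _) (hPA.trans hWA)

/-- **Timmesfeld replacement**. -/
theorem bestOffender_replacement [Finite G] [hp : Fact p.Prime] (hV : IsPGroup p V)
    (hVc : IsMulCommutative V) (hAV : A ≤ Subgroup.normalizer (V : Set G))
    (hA : IsBestOffenderOn p V A) {U : Subgroup G} (hU : U ≤ V) :
    IsBestOffenderOn p V (A ⊓ Subgroup.centralizer ((⁅U, A⁆ : Subgroup G) : Set G)) ∧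
      V ⊓ Subgroup.centralizer
          ((A ⊓ Subgroup.centralizer ((⁅U, A⁆ : Subgroup G) : Set G) : Subgroup G) : Set G) =
        ⁅U, A⁆ ⊔ (V ⊓ Subgroup.centralizer (A : Set G)) ∧
      (⁅V, A⁆ ≠ ⊥ →
        ⁅V, A ⊓ Subgroup.centralizer ((⁅U, A⁆ : Subgroup G) : Set G)⁆ ≠ ⊥) := by
  obtain ⟨hm, hfix⟩ := replProp_commutator hVc hAV hA.2.1 hA.1 hU
  set B := A ⊓ Subgroup.centralizer ((⁅U, A⁆ : Subgroup G) : Set G) with hB
  refine ⟨⟨fun C hC => (hA.1 C (hC.trans inf_le_left)).trans (le_of_eq hm.symm),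
    (Subgroup.commutator_mono inf_le_left inf_le_left).trans hA.2.1,
    fun a ha => hA.2.2 a ha.1⟩, hfix, fun hne hb => hne ?_⟩
  have h1 : V ≤ ⁅U, A⁆ ⊔ (V ⊓ Subgroup.centralizer (A : Set G)) := by
    rw [← hfix]
    exact le_inf le_rfl (Subgroup.commutator_eq_bot_iff_le_centralizer.mp hb)
  have hW : ⁅V, A⁆ ≤ V := commutator_le_of_le_normalizer hAV
  refine eq_bot_of_commutator_eq_self_of_exponent hV hAV hA.2.2 hW ?_
    (Subgroup.le_normalizer_iff.mpr fun a ha => ?_)
  · rw [Subgroup.commutator_le]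
    intro v hv a ha
    have hv' : v ∈ (⁅U, A⁆ ⊔ (V ⊓ Subgroup.centralizer (A : Set G)) : Subgroup G) := h1 hv
    have hn : (V ⊓ Subgroup.centralizer (A : Set G)) ≤
        Subgroup.normalizer ((⁅U, A⁆ : Subgroup G) : Set G) :=
      inf_le_left.trans ((le_centralizer_self hVc).trans ((Subgroup.centralizer_le
        ((Subgroup.commutator_mono hU le_rfl).trans hW)).trans
          (Subgroup.centralizer_le_normalizer _)))
    rw [← SetLike.mem_coe, Subgroup.coe_mul_of_right_le_normalizer_left _ _ hn] at hv'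
    obtain ⟨x, hx, y, hy, rfl⟩ := hv'
    have hya : ⁅y, a⁆ = 1 :=
      commutatorElement_eq_one_iff_mul_comm.mpr (Subgroup.mem_centralizer_iff.mp hy.2 a ha).symm
    rw [commutatorElement_mul_left_of_mem hVc (hAV ha)
      ((Subgroup.commutator_mono hU le_rfl).trans hW hx) hy.1, hya, mul_one]
    exact Subgroup.commutator_mem_commutator (Subgroup.commutator_mono hU le_rfl hx) ha
  · intro w hw
    suffices h : ⁅V, A⁆ ≤ (⁅V, A⁆).comap (MulAut.conj a).toMonoidHom from h hw
    rw [Subgroup.commutator_le]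
    intro v hv b hb'
    show a * ⁅v, b⁆ * a⁻¹ ∈ ⁅V, A⁆
    rw [conjugate_commutatorElement]
    exact Subgroup.commutator_mem_commutator (conj_mem_of_le_normalizer hAV ha hv)
      (A.mul_mem (A.mul_mem ha hb') (A.inv_mem ha))

theorem bestOffender_of_max [Finite G] [V.Normal] (hV : IsElementaryAbelian p V) {A : Subgroup G}
    (hA : A ∈ maxElementaryAbelianSubgroups p G) : IsBestOffenderOn p V A := by
  refine ⟨fun B hB => ?_, ?_, fun a ha => by rw [hA.1.2 a ha]; exact one_mem _⟩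
  · set P := V ⊓ Subgroup.centralizer (B : Set G) with hP
    have hBe : IsElementaryAbelian p B := isElementaryAbelian_of_le hA.1 hB
    have hc : P ≤ Subgroup.centralizer (B : Set G) := inf_le_right
    have hE : IsElementaryAbelian p (P ⊔ B : Subgroup G) :=
      isElementaryAbelian_sup (isElementaryAbelian_of_le hV inf_le_left) hBe hc
    have hle := hA.2 _ hE
    have hcard := card_sup_mul_card_inf (H := P) (K := B)
      ((Subgroup.le_centralizer_iff.mp hc).trans (Subgroup.centralizer_le_normalizer _))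
    have hin : P ⊓ B ≤ V ⊓ Subgroup.centralizer (A : Set G) :=
      le_inf (inf_le_left.trans inf_le_left)
        ((inf_le_right.trans hB).trans (le_centralizer_self hA.1.1))
    rw [mul_comm, ← hcard]
    exact Nat.mul_le_mul hle (Subgroup.card_le_of_le hin)
  · rw [Subgroup.commutator_self_eq_bot_iff.mpr hA.1.1]
    exact bot_le

/-- **Replacement theorem for the Thompson subgroup**. -/
theorem max_replacement [Finite G] [hp : Fact p.Prime] [V.Normal] (hV : IsElementaryAbelian p V)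
    {A : Subgroup G} (hA : A ∈ maxElementaryAbelianSubgroups p G) :
    (⁅V, A⁆ ⊔ (A ⊓ Subgroup.centralizer ((⁅V, A⁆ : Subgroup G) : Set G))) ∈
        maxElementaryAbelianSubgroups p G ∧
      ⁅⁅V, ⁅V, A⁆ ⊔ (A ⊓ Subgroup.centralizer ((⁅V, A⁆ : Subgroup G) : Set G))⁆,
        ⁅V, A⁆ ⊔ (A ⊓ Subgroup.centralizer ((⁅V, A⁆ : Subgroup G) : Set G))⁆ = ⊥ ∧
      (⁅V, A⁆ ≠ ⊥ →
        ⁅V, ⁅V, A⁆ ⊔ (A ⊓ Subgroup.centralizer ((⁅V, A⁆ : Subgroup G) : Set G))⁆ ≠ ⊥) := by
  have hAV : A ≤ Subgroup.normalizer (V : Set G) := Subgroup.le_normalizer_of_normal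
  have hbest := bestOffender_of_max hV hA
  obtain ⟨hm, hfix⟩ := replProp_commutator hV.1 hAV hbest.2.1 hbest.1 (le_refl V)
  obtain ⟨-, -, hne⟩ := bestOffender_replacement (isPGroup_of_isElementaryAbelian hV) hV.1 hAV
    hbest (le_refl V)
  set W := ⁅V, A⁆ with hW
  set B := A ⊓ Subgroup.centralizer (W : Set G) with hB
  set Y := V ⊓ Subgroup.centralizer (A : Set G) with hY
  have hWV : W ≤ V := commutator_le_of_le_normalizer hAV
  have hWe := isElementaryAbelian_of_le hV hWV
  have hBe := isElementaryAbelian_of_le hA.1 (inf_le_left : B ≤ A)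
  have hWB : W ≤ Subgroup.centralizer (B : Set G) := Subgroup.le_centralizer_iff.mp inf_le_right
  have hYA : Y ≤ A := le_max_of_centralizes hA (isElementaryAbelian_of_le hV inf_le_left) inf_le_right
  have hinf : W ⊓ B = W ⊓ Y := by
    apply le_antisymm
    · exact le_inf inf_le_left (le_inf (inf_le_left.trans hWV)
        ((inf_le_right.trans inf_le_left).trans (le_centralizer_self hA.1.1)))
    · refine le_inf inf_le_left (le_inf (inf_le_right.trans hYA) ?_)
      exact (inf_le_left.trans hWV).trans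
        ((le_centralizer_self hV.1).trans (Subgroup.centralizer_le hWV))
  refine ⟨?_, ?_, fun h hb => hne h (le_bot_iff.mp
    (hb ▸ Subgroup.commutator_mono le_rfl le_sup_right))⟩
  · refine mem_max_of_card_le hA (isElementaryAbelian_sup hWe hBe hWB) (le_of_eq ?_)
    have h1 := card_sup_mul_card_inf (H := W) (K := B)
      ((Subgroup.le_centralizer_iff.mp hWB).trans (Subgroup.centralizer_le_normalizer _))
    have h2 := card_sup_mul_card_inf (H := W) (K := Y)
      ((inf_le_left.trans (le_centralizer_self hV.1)).trans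
        ((Subgroup.centralizer_le hWV).trans (Subgroup.centralizer_le_normalizer _)))
    rw [hinf] at h1
    rw [measureOn_eq, measureOn_eq, hfix] at hm
    have hpos : 0 < Nat.card ↥(W ⊓ Y) * Nat.card Y := Nat.mul_pos Nat.card_pos Nat.card_pos
    refine Nat.eq_of_mul_eq_mul_right hpos ?_
    calc Nat.card A * (Nat.card ↥(W ⊓ Y) * Nat.card Y)
        = Nat.card ↥(W ⊓ Y) * (Nat.card A * Nat.card Y) := by ring
      _ = Nat.card ↥(W ⊓ Y) * (Nat.card B * Nat.card ↥(W ⊔ Y)) := by rw [hm]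
      _ = Nat.card B * (Nat.card W * Nat.card Y) := by rw [← h2]; ring
      _ = Nat.card ↥(W ⊔ B) * (Nat.card ↥(W ⊓ Y) * Nat.card Y) := by
          rw [← mul_assoc (Nat.card ↥(W ⊔ B)), h1]; ring
  · rw [Subgroup.commutator_eq_bot_iff_le_centralizer]
    have h1 : ⁅V, W ⊔ B⁆ ≤ W := by
      have h3 : ⁅V, W ⊔ B⁆ ≤ ⁅V, B⁆ :=
        commutator_le_of_le_sup_centralizer (hWV.trans (le_centralizer_self hV.1))
          Subgroup.le_normalizer_of_normal
          ((Subgroup.le_centralizer_iff.mp hWB).trans (Subgroup.centralizer_le_normalizer _)) le_rfl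
      exact h3.trans (Subgroup.commutator_mono le_rfl inf_le_left)
    refine h1.trans ?_
    rw [Subgroup.le_centralizer_iff, sup_le_iff]
    exact ⟨le_centralizer_self hWe.1, inf_le_right⟩

end Cfsg.Agent.Thompson
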