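import Mathlib
import Cfsg.Prelude.Def_PLocal
import Cfsg.Agent.Lib.Thompson.Basic
import Cfsg.Agent.Lib.Thompson.Cores
import Cfsg.Agent.Lib.Thompson.JSubgroup
import Cfsg.Agent.Lib.Thompson.PSolvable
import Cfsg.Agent.Lib.Transfer.Focal
import Cfsg.Agent.Lib.Coprime.Action

/-!
`Ω₁(Z(S))`, the subgroup it generates, and Thompson factorizability.
-/

set_option autoImplicit false
set_option linter.unusedVariables false
set_option linter.style.haveILetI false
set_option linter.unusedSectionVars false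

namespace Cfsg.Agent.Thompson

open Cfsg
open scoped commutatorElement Pointwise

variable {G : Type*} [Group G] {p : ℕ}

theorem isMulCommutative_inf_centralizer_self (S : Subgroup G) :
    IsMulCommutative (S ⊓ Subgroup.centralizer (S : Set G) : Subgroup G) :=
  Subgroup.le_centralizer_iff_isMulCommutative.mp
    (inf_le_right.trans (Subgroup.centralizer_le inf_le_left))

theorem omegaCenter_le (S : Subgroup G) :
    omegaOne p (S ⊓ Subgroup.centralizer (S : Set G)) ≤ S :=
  (omegaOne_le p _).trans inf_le_left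

theorem omegaCenter_le_centralizer (S : Subgroup G) :
    omegaOne p (S ⊓ Subgroup.centralizer (S : Set G)) ≤ Subgroup.centralizer (S : Set G) :=
  (omegaOne_le p _).trans inf_le_right

theorem isElementaryAbelian_omegaCenter (S : Subgroup G) :
    IsElementaryAbelian p (omegaOne p (S ⊓ Subgroup.centralizer (S : Set G))) :=
  isElementaryAbelian_omegaOne (isMulCommutative_inf_centralizer_self S)

theorem map_inf_centralizer_of_injOn {G' : Type*} [Group G'] (f : G →* G') (S : Subgroup G)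
    (hf : Set.InjOn f S) :
    (S ⊓ Subgroup.centralizer (S : Set G)).map f =
      S.map f ⊓ Subgroup.centralizer (S.map f : Set G') := by
  apply le_antisymm
  · rintro _ ⟨x, hx, rfl⟩
    refine ⟨⟨x, hx.1, rfl⟩, ?_⟩
    rintro _ ⟨y, hy, rfl⟩
    rw [← map_mul, ← map_mul, hx.2 y hy]
  · rintro _ ⟨⟨x, hx, rfl⟩, hc⟩
    refine ⟨x, ⟨hx, Subgroup.mem_centralizer_iff.mpr fun y hy => ?_⟩, rfl⟩
    refine hf (S.mul_mem hy hx) (S.mul_mem hx hy) ?_
    rw [map_mul, map_mul]
    exact Subgroup.mem_centralizer_iff.mp hc _ ⟨y, hy, rfl⟩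

theorem map_omegaCenter {G' : Type*} [Group G'] (f : G →* G') (S : Subgroup G)
    (hf : Set.InjOn f S) :
    (omegaOne p (S ⊓ Subgroup.centralizer (S : Set G))).map f =
      omegaOne p (S.map f ⊓ Subgroup.centralizer (S.map f : Set G')) := by
  rw [map_omegaOne f _ (hf.mono (SetLike.coe_subset_coe.mpr inf_le_left)),
    map_inf_centralizer_of_injOn f S hf]

theorem coe_smul_sylow (S : Sylow p G) (g : G) :
    ((g • S : Sylow p G) : Subgroup G) = (S : Subgroup G).map (MulAut.conj g).toMonoidHom := by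
  rw [Sylow.coe_subgroup_smul]
  rfl

theorem map_omegaCenter_smul (S : Sylow p G) (g : G) :
    (omegaOne p ((S : Subgroup G) ⊓ Subgroup.centralizer ((S : Subgroup G) : Set G))).map
        (MulAut.conj g).toMonoidHom =
      omegaOne p (((g • S : Sylow p G) : Subgroup G) ⊓
        Subgroup.centralizer (((g • S : Sylow p G) : Subgroup G) : Set G)) := by
  rw [map_omegaCenter _ _ (MulAut.conj g).injective.injOn, coe_smul_sylow]

instance iSupOmegaCenter_normal :
    (⨆ S : Sylow p G, omegaOne p ((S : Subgroup G) ⊓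
      Subgroup.centralizer ((S : Subgroup G) : Set G))).Normal := by
  constructor
  intro x hx g
  suffices h : (⨆ S : Sylow p G, omegaOne p ((S : Subgroup G) ⊓
      Subgroup.centralizer ((S : Subgroup G) : Set G))).map (MulAut.conj g).toMonoidHom ≤
      ⨆ S : Sylow p G, omegaOne p ((S : Subgroup G) ⊓
        Subgroup.centralizer ((S : Subgroup G) : Set G)) from h ⟨x, hx, rfl⟩
  rw [Subgroup.map_iSup]
  refine iSup_le fun S => ?_
  rw [map_omegaCenter_smul]
  exact le_iSup (fun S : Sylow p G => omegaOne p ((S : Subgroup G) ⊓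
    Subgroup.centralizer ((S : Subgroup G) : Set G))) (g • S)

variable [Finite G] [hp : Fact p.Prime]

/-- A normal subgroup generated by fixed points of Sylow `p`-subgroups: `O_p(G / C_G(V)) = 1`. -/
theorem pCore_quotient_centralizer_eq_bot (V : Subgroup G) [V.Normal]
    (hgen : V ≤ ⨆ S : Sylow p G, V ⊓ Subgroup.centralizer ((S : Subgroup G) : Set G)) :
    pCore p (G ⧸ Subgroup.centralizer (V : Set G)) = ⊥ := by
  set C := Subgroup.centralizer (V : Set G) with hC
  rw [eq_bot_iff]
  intro y hy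
  obtain ⟨g, rfl⟩ := QuotientGroup.mk'_surjective C y
  rw [Subgroup.mem_bot, QuotientGroup.mk'_apply, QuotientGroup.eq_one_iff]
  rw [hC, Subgroup.mem_centralizer_iff]
  intro v hv
  suffices h : (⨆ S : Sylow p G, V ⊓ Subgroup.centralizer ((S : Subgroup G) : Set G)) ≤
      Subgroup.centralizer {g} from
    (Subgroup.mem_centralizer_singleton_iff.mp (h (hgen hv)))
  refine iSup_le fun S v hv => ?_
  rw [Subgroup.mem_centralizer_singleton_iff]
  have h1 := pCore_le_sylow (S.mapSurjective (QuotientGroup.mk'_surjective C)) hy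
  rw [Sylow.coe_mapSurjective] at h1
  obtain ⟨s, hs, hsg⟩ := h1
  have hc : s⁻¹ * g ∈ C := by
    rw [← QuotientGroup.eq]
    exact hsg
  have h2 : v * s = s * v := (Subgroup.mem_centralizer_iff.mp hv.2 s hs).symm
  have h3 : v * (s⁻¹ * g) = (s⁻¹ * g) * v := Subgroup.mem_centralizer_iff.mp hc v hv.1
  calc v * g = v * s * (s⁻¹ * g) := by group
    _ = s * (v * (s⁻¹ * g)) := by rw [h2, mul_assoc]
    _ = g * v := by rw [h3]; group

theorem pCore_quotient_centralizer_iSupOmega :
    pCore p (G ⧸ Subgroup.centralizer ((⨆ S : Sylow p G, omegaOne p ((S : Subgroup G) ⊓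
      Subgroup.centralizer ((S : Subgroup G) : Set G)) : Subgroup G) : Set G)) = ⊥ := by
  refine pCore_quotient_centralizer_eq_bot _ (iSup_le fun S => ?_)
  exact le_trans (le_inf (le_iSup (fun S : Sylow p G => omegaOne p ((S : Subgroup G) ⊓
    Subgroup.centralizer ((S : Subgroup G) : Set G))) S) (omegaCenter_le_centralizer _))
    (le_iSup (fun S' : Sylow p G => (⨆ S : Sylow p G, omegaOne p ((S : Subgroup G) ⊓
      Subgroup.centralizer ((S : Subgroup G) : Set G))) ⊓
      Subgroup.centralizer ((S' : Subgroup G) : Set G)) S)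

theorem iSupOmega_le_pCore (hc : Subgroup.centralizer (pCore p G : Set G) ≤ pCore p G) :
    (⨆ S : Sylow p G, omegaOne p ((S : Subgroup G) ⊓
      Subgroup.centralizer ((S : Subgroup G) : Set G))) ≤ pCore p G :=
  iSup_le fun S => (omegaCenter_le_centralizer _).trans
    ((Subgroup.centralizer_le (pCore_le_sylow S)).trans hc)

theorem isElementaryAbelian_iSupOmega
    (hc : Subgroup.centralizer (pCore p G : Set G) ≤ pCore p G) :
    IsElementaryAbelian p (⨆ S : Sylow p G, omegaOne p ((S : Subgroup G) ⊓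
      Subgroup.centralizer ((S : Subgroup G) : Set G)) : Subgroup G) := by
  have hle : ∀ S T : Sylow p G, omegaOne p ((S : Subgroup G) ⊓
      Subgroup.centralizer ((S : Subgroup G) : Set G)) ≤ (T : Subgroup G) := fun S T =>
    ((le_iSup (fun S : Sylow p G => omegaOne p ((S : Subgroup G) ⊓
      Subgroup.centralizer ((S : Subgroup G) : Set G))) S).trans (iSupOmega_le_pCore hc)).trans
      (pCore_le_sylow T)
  refine isElementaryAbelian_of_le (V := Subgroup.closure (⋃ S : Sylow p G,
    (omegaOne p ((S : Subgroup G) ⊓ Subgroup.centralizer ((S : Subgroup G) : Set G)) : Set G)))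
    (isElementaryAbelian_closure ?_ ?_) ?_
  · intro x hx y hy
    obtain ⟨S, hS⟩ := Set.mem_iUnion.mp hx
    obtain ⟨T, hT⟩ := Set.mem_iUnion.mp hy
    exact Subgroup.mem_centralizer_iff.mp (omegaCenter_le_centralizer _ hT) x (hle S T hS)
  · intro x hx
    obtain ⟨S, hS⟩ := Set.mem_iUnion.mp hx
    exact (isElementaryAbelian_omegaCenter _).2 x hS
  · exact iSup_le fun S x hx => Subgroup.subset_closure (Set.mem_iUnion.mpr ⟨S, hx⟩)

/-- A normal `p`-by-`C` subgroup is `C` when `O_p(G / C) = 1`. -/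
theorem eq_of_pCore_quotient_eq_bot {C : Subgroup G} [C.Normal] (hb : pCore p (G ⧸ C) = ⊥)
    {D : Subgroup G} (hD : D.Normal) (hCD : C ≤ D) (hk : ∃ k : ℕ, C.relIndex D = p ^ k) :
    D = C := by
  obtain ⟨k, hk⟩ := hk
  have h1 : D.map (QuotientGroup.mk' C) ≤ pCore p (G ⧸ C) := by
    refine le_pCore (hD.map _ (QuotientGroup.mk'_surjective C)) (IsPGroup.of_card (n := k) ?_)
    rw [← relIndex_eq_card_map_mk', hk]
  rw [hb, le_bot_iff, Subgroup.map_eq_bot_iff, QuotientGroup.ker_mk'] at h1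
  exact le_antisymm h1 hCD

/-- The Frattini argument through `J(S)` for a normal subgroup containing `J(S)`. -/
theorem sup_normalizer_thompson_eq_top {C : Subgroup G} [C.Normal] (S : Sylow p G)
    (hJ : thompsonSubgroupOf p (S : Subgroup G) ≤ C) :
    C ⊔ Subgroup.normalizer (thompsonSubgroupOf p (S : Subgroup G) : Set G) = ⊤ := by
  obtain ⟨Q, hQ⟩ := Cfsg.Agent.Transfer.exists_sylow_subgroupOf_normal S C
  have h1 := Sylow.normalizer_sup_eq_top Q
  rw [hQ, Subgroup.subgroupOf_map_subtype] at h1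
  rw [eq_top_iff, ← h1]
  refine sup_le ((le_sup_right : _ ≤ C ⊔ _).trans' ?_) le_sup_left
  rw [← thompsonSubgroupOf_eq_of_le (inf_le_left : (S : Subgroup G) ⊓ C ≤ S)
    (le_inf (thompsonSubgroupOf_le _) hJ)]
  exact normalizer_le_normalizer_thompsonSubgroupOf _

theorem thompsonFactorizable_of_le_centralizer
    (h : thompsonSubgroup p G ≤ Subgroup.centralizer ((⨆ S : Sylow p G,
      omegaOne p ((S : Subgroup G) ⊓ Subgroup.centralizer ((S : Subgroup G) : Set G)) :
        Subgroup G) : Set G)) :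
    IsThompsonFactorizable p G := by
  intro S g
  set C := Subgroup.centralizer ((⨆ S : Sylow p G, omegaOne p ((S : Subgroup G) ⊓
    Subgroup.centralizer ((S : Subgroup G) : Set G)) : Subgroup G) : Set G) with hC
  have h1 := sup_normalizer_thompson_eq_top (C := C) S ((thompsonSubgroupOf_sylow_le S).trans h)
  have hg : g ∈ ((C : Set G) *
      (Subgroup.normalizer (thompsonSubgroupOf p (S : Subgroup G) : Set G) : Set G)) := by
    rw [← Subgroup.coe_mul_of_right_le_normalizer_left _ _ Subgroup.le_normalizer_of_normal, h1]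
    trivial
  obtain ⟨c, hc, n, hn, rfl⟩ := hg
  exact ⟨1, one_mem _, c, Subgroup.centralizer_le (le_iSup (fun S : Sylow p G =>
    omegaOne p ((S : Subgroup G) ⊓ Subgroup.centralizer ((S : Subgroup G) : Set G))) S) hc,
    n, hn, by rw [one_mul]⟩

theorem le_centralizer_of_thompsonFactorizable (hO : pPrimeCore p G = ⊥)
    (h : IsThompsonFactorizable p G) :
    thompsonSubgroup p G ≤ Subgroup.centralizer ((⨆ S : Sylow p G,
      omegaOne p ((S : Subgroup G) ⊓ Subgroup.centralizer ((S : Subgroup G) : Set G)) :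
        Subgroup G) : Set G) := by
  rw [thompsonSubgroup_eq_iSup_sylow]
  refine iSup_le fun S => Subgroup.le_centralizer_iff.mpr (iSup_le fun T => ?_)
  obtain ⟨g, rfl⟩ := MulAction.exists_smul_eq G S T
  rw [← map_omegaCenter_smul]
  rintro _ ⟨z, hz, rfl⟩
  obtain ⟨x, hx, c, hc, n, hn, hg⟩ := h S g⁻¹
  rw [hO, Subgroup.mem_bot] at hx
  rw [hx, one_mul] at hg
  have hg' : g = n⁻¹ * c⁻¹ := by rw [← inv_inv g, hg, mul_inv_rev]
  rw [Subgroup.mem_centralizer_iff]
  intro j hj
  have hcz : z * c = c * z := Subgroup.mem_centralizer_iff.mp hc z hz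
  have hj' : n * j * n⁻¹ ∈ thompsonSubgroupOf p (S : Subgroup G) :=
    (Subgroup.mem_normalizer_iff.mp hn j).mp hj
  have hzj : (n * j * n⁻¹) * z = z * (n * j * n⁻¹) :=
    Subgroup.mem_centralizer_iff.mp (omegaCenter_le_centralizer _ hz) _ (thompsonSubgroupOf_le _ hj')
  show j * (g * z * g⁻¹) = g * z * g⁻¹ * j
  have e : g * z * g⁻¹ = n⁻¹ * z * n := by
    rw [hg']
    calc n⁻¹ * c⁻¹ * z * (n⁻¹ * c⁻¹)⁻¹ = n⁻¹ * (c⁻¹ * (z * c)) * n := by group
      _ = n⁻¹ * z * n := by rw [hcz]; group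
  rw [e]
  calc j * (n⁻¹ * z * n) = n⁻¹ * ((n * j * n⁻¹) * z) * n := by group
    _ = n⁻¹ * (z * (n * j * n⁻¹)) * n := by rw [hzj]
    _ = n⁻¹ * z * n * j := by group

section Quotient

variable (K : Subgroup G) [K.Normal]

theorem injOn_mk'_of_coprime {X : Subgroup G} (hX : IsPGroup p X) (hK : (Nat.card K).Coprime p) :
    Set.InjOn (QuotientGroup.mk' K) X := by
  intro x hx y hy hxy
  have h1 : x⁻¹ * y ∈ X ⊓ K := ⟨X.mul_mem (X.inv_mem hx) hy, QuotientGroup.eq.mp hxy⟩
  rw [inf_eq_bot_of_isPGroup_of_coprime hX hK, Subgroup.mem_bot, inv_mul_eq_one] at h1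
  exact h1

/-- Normalizers lift through quotients by `p'`-subgroups. -/
theorem exists_normalizer_lift {X : Subgroup G} (hX : IsPGroup p X)
    (hK : (Nat.card K).Coprime p) {g : G}
    (hg : QuotientGroup.mk' K g ∈
      Subgroup.normalizer (X.map (QuotientGroup.mk' K) : Set (G ⧸ K))) :
    ∃ k ∈ K, k * g ∈ Subgroup.normalizer (X : Set G) := by
  set A := X.map (MulAut.conj g).toMonoidHom with hA
  obtain ⟨m, hm⟩ := IsPGroup.iff_card.mp (hX.map (MulAut.conj g).toMonoidHom)
  have hle : A ≤ K ⊔ X := by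
    rintro _ ⟨x, hx, rfl⟩
    have h2 : QuotientGroup.mk' K (g * x * g⁻¹) ∈ X.map (QuotientGroup.mk' K) := by
      rw [map_mul, map_mul, map_inv]
      exact (Subgroup.mem_normalizer_iff.mp hg _).mp ⟨x, hx, rfl⟩
    have h3 : g * x * g⁻¹ ∈ (X.map (QuotientGroup.mk' K)).comap (QuotientGroup.mk' K) := h2
    rwa [Subgroup.comap_map_eq, QuotientGroup.ker_mk', sup_comm] at h3
  haveI : Group.IsNilpotent A := (hX.map (MulAut.conj g).toMonoidHom).isNilpotent
  obtain ⟨k, hk, h⟩ := Cfsg.Agent.Coprime.exists_conj_le_of_le_sup A K X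
    Subgroup.le_normalizer_of_normal Subgroup.le_normalizer_of_normal
    (by rw [hm]; exact (hK.symm).pow_left m) (Or.inl inferInstance) hle
  refine ⟨k, hk, ?_⟩
  have hmap : X.map (MulAut.conj (k * g)).toMonoidHom = X := by
    refine Subgroup.eq_of_le_of_card_ge ?_ ?_
    · rintro _ ⟨x, hx, rfl⟩
      simpa [mul_assoc] using h _ ⟨x, hx, rfl⟩
    · rw [Subgroup.card_map_of_injective (MulAut.conj (k * g)).injective]
  rw [Subgroup.mem_normalizer_iff]
  intro x
  constructor
  · intro hx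
    rw [← hmap]
    exact ⟨x, hx, rfl⟩
  · intro hx
    rw [← hmap] at hx
    obtain ⟨y, hy, hxy⟩ := hx
    exact (MulAut.conj (k * g)).injective hxy ▸ hy

theorem exists_centralizer_lift {X : Subgroup G} (hX : IsPGroup p X)
    (hK : (Nat.card K).Coprime p) {g : G}
    (hg : QuotientGroup.mk' K g ∈
      Subgroup.centralizer (X.map (QuotientGroup.mk' K) : Set (G ⧸ K))) :
    ∃ k ∈ K, k * g ∈ Subgroup.centralizer (X : Set G) := by
  obtain ⟨k, hk, hn⟩ := exists_normalizer_lift K hX hK (Subgroup.centralizer_le_normalizer _ hg)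
  refine ⟨k, hk, ?_⟩
  rw [Subgroup.mem_centralizer_iff]
  intro x hx
  have h1 : (k * g) * x * (k * g)⁻¹ ∈ X := (Subgroup.mem_normalizer_iff.mp hn x).mp hx
  have h2 : QuotientGroup.mk' K ((k * g) * x * (k * g)⁻¹) = QuotientGroup.mk' K x := by
    have hk1 : QuotientGroup.mk' K k = 1 := by
      rw [QuotientGroup.mk'_apply, QuotientGroup.eq_one_iff]; exact hk
    simp only [map_mul, map_inv, hk1, one_mul]
    rw [← Subgroup.mem_centralizer_iff.mp hg _ ⟨x, hx, rfl⟩, mul_inv_cancel_right]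
  have h3 := injOn_mk'_of_coprime K hX hK h1 hx h2
  calc x * (k * g) = (k * g) * x * (k * g)⁻¹ * (k * g) := by rw [h3]
    _ = (k * g) * x := by group

end Quotient

theorem isThompsonFactorizable_quotient_iff :
    IsThompsonFactorizable p G ↔ IsThompsonFactorizable p (G ⧸ pPrimeCore p G) := by
  set K := pPrimeCore p G with hKdef
  set π := QuotientGroup.mk' K with hπ
  have hπs : Function.Surjective π := QuotientGroup.mk'_surjective K
  have hKc : (Nat.card K).Coprime p := card_pPrimeCore_coprime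
  have himg : ∀ S : Sylow p G,
      omegaOne p (((S.mapSurjective hπs : Sylow p (G ⧸ K)) : Subgroup (G ⧸ K)) ⊓
        Subgroup.centralizer (((S.mapSurjective hπs : Sylow p (G ⧸ K)) : Subgroup (G ⧸ K)) :
          Set (G ⧸ K))) =
        (omegaOne p ((S : Subgroup G) ⊓ Subgroup.centralizer ((S : Subgroup G) : Set G))).map π ∧
      thompsonSubgroupOf p ((S.mapSurjective hπs : Sylow p (G ⧸ K)) : Subgroup (G ⧸ K)) =
        (thompsonSubgroupOf p (S : Subgroup G)).map π := by
    intro S
    rw [Sylow.coe_mapSurjective]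
    exact ⟨(map_omegaCenter π _ (injOn_mk'_of_coprime K S.isPGroup' hKc)).symm,
      (thompsonSubgroupOf_map π _ (injOn_mk'_of_coprime K S.isPGroup' hKc)).symm⟩
  constructor
  · intro h S' g'
    obtain ⟨S, rfl⟩ := Sylow.mapSurjective_surjective hπs p S'
    obtain ⟨g, rfl⟩ := hπs g'
    obtain ⟨x, hx, c, hc, n, hn, rfl⟩ := h S g
    refine ⟨π x, ?_, π c, ?_, π n, ?_, by rw [map_mul, map_mul]⟩
    · rw [pPrimeCore_quotient_pPrimeCore, Subgroup.mem_bot]
      exact (QuotientGroup.eq_one_iff x).mpr hx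
    · rw [(himg S).1, Subgroup.mem_centralizer_iff]
      rintro _ ⟨z, hz, rfl⟩
      rw [← map_mul, ← map_mul, Subgroup.mem_centralizer_iff.mp hc z hz]
    · rw [(himg S).2]
      exact Subgroup.le_normalizer_map π ⟨n, hn, rfl⟩
  · intro h S g
    obtain ⟨x, hx, c', hc, n', hn, hg⟩ := h (S.mapSurjective hπs) (π g)
    rw [pPrimeCore_quotient_pPrimeCore, Subgroup.mem_bot] at hx
    rw [hx, one_mul] at hg
    rw [(himg S).1] at hc
    rw [(himg S).2] at hn
    obtain ⟨c0, rfl⟩ := hπs c'
    obtain ⟨n0, rfl⟩ := hπs n'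
    obtain ⟨k1, hk1, hc1⟩ := exists_centralizer_lift K
      (isPGroup_of_isElementaryAbelian (isElementaryAbelian_omegaCenter _)) hKc hc
    obtain ⟨k2, hk2, hn2⟩ := exists_normalizer_lift K
      (S.isPGroup'.to_le (thompsonSubgroupOf_le _)) hKc hn
    refine ⟨g * (k1 * c0 * (k2 * n0))⁻¹, ?_, k1 * c0, hc1, k2 * n0, hn2, by group⟩
    rw [← hKdef, ← QuotientGroup.eq_one_iff, ← QuotientGroup.mk'_apply]
    have h1 : π k1 = 1 := (QuotientGroup.eq_one_iff k1).mpr hk1
    have h2 : π k2 = 1 := (QuotientGroup.eq_one_iff k2).mpr hk2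
    simp only [← hπ, map_mul, map_inv, h1, h2, one_mul, hg]
    group

end Cfsg.Agent.Thompson
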