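import Mathlib
import Cfsg.Prelude.Def_PLocal
import Cfsg.Agent.Lib.Thompson.Replacement
import Cfsg.Agent.Lib.Thompson.Quadratic
import Cfsg.Agent.Lib.Thompson.Cores
import Cfsg.Agent.Lib.Coprime.Action
import Cfsg.Agent.S0597

/-!
Two subnormal subgroups acting irreducibly on incomparable commutator modules.
-/

set_option autoImplicit false
set_option linter.unusedVariables false
set_option linter.style.haveILetI false
set_option linter.unusedSectionVars false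

namespace Cfsg.Agent.Thompson

open Cfsg
open scoped commutatorElement

variable {G : Type*} [Group G] {p : ℕ}

/-- `E` acts irreducibly on `[V, E]`. -/
def IrrOn (V E : Subgroup G) : Prop :=
  ∀ U : Subgroup G, U ≤ ⁅V, E⁆ → E ≤ Subgroup.normalizer (U : Set G) → U = ⊥ ∨ U = ⁅V, E⁆

theorem map_conj_eq_of_mem_normalizer {V : Subgroup G} {g : G}
    (hg : g ∈ Subgroup.normalizer (V : Set G)) : V.map (MulAut.conj g).toMonoidHom = V := by
  ext x
  constructor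
  · rintro ⟨v, hv, rfl⟩; exact (Subgroup.mem_normalizer_iff.mp hg v).mp hv
  · intro hx
    exact ⟨g⁻¹ * x * g, (Subgroup.mem_normalizer_iff.mp hg _).mpr (by simpa [mul_assoc] using hx),
      by simp [mul_assoc]⟩

theorem mem_normalizer_of_map_conj_le [Finite G] {M : Subgroup G} {g : G}
    (h : M.map (MulAut.conj g).toMonoidHom ≤ M) : g ∈ Subgroup.normalizer (M : Set G) := by
  have heq : M.map (MulAut.conj g).toMonoidHom = M := Subgroup.eq_of_le_of_card_ge h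
    (by rw [Subgroup.card_map_of_injective (MulAut.conj g).injective])
  rw [Subgroup.mem_normalizer_iff]
  intro x
  constructor
  · intro hx; rw [← heq]; exact ⟨x, hx, rfl⟩
  · intro hx
    rw [← heq] at hx
    obtain ⟨y, hy, hxy⟩ := hx
    exact (MulAut.conj g).injective hxy ▸ hy

theorem map_conj_commutator (V : Subgroup G) {g : G} (hg : g ∈ Subgroup.normalizer (V : Set G))
    (E : Subgroup G) : ⁅V, E⁆.map (MulAut.conj g).toMonoidHom =
      ⁅V, E.map (MulAut.conj g).toMonoidHom⁆ := by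
  rw [Subgroup.map_commutator, map_conj_eq_of_mem_normalizer hg]

theorem irrOn_map (V E : Subgroup G) {g : G} (hg : g ∈ Subgroup.normalizer (V : Set G))
    (h : IrrOn V E) : IrrOn V (E.map (MulAut.conj g).toMonoidHom) := by
  intro U hU hEU
  rw [← map_conj_commutator V hg E] at hU ⊢
  obtain ⟨U, rfl⟩ : ∃ U' : Subgroup G, U'.map (MulAut.conj g).toMonoidHom = U :=
    ⟨U.comap (MulAut.conj g).toMonoidHom,
      Subgroup.map_comap_eq_self_of_surjective (MulAut.conj g).surjective _⟩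
  have hinj : Function.Injective (MulAut.conj g).toMonoidHom := (MulAut.conj g).injective
  have hUE : U ≤ ⁅V, E⁆ := (Subgroup.map_le_map_iff_of_injective hinj).mp hU
  rw [← Subgroup.map_equiv_normalizer_eq U (MulAut.conj g)] at hEU
  rcases h U hUE ((Subgroup.map_le_map_iff_of_injective hinj).mp hEU) with h1 | h1
  · exact Or.inl (by rw [h1, Subgroup.map_bot])
  · exact Or.inr (by rw [h1])

variable [Finite G] [hp : Fact p.Prime]

/-- Case of one module invariant under the other group. -/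
theorem irr_pair_of_le_normalizer (V H E₁ E₂ : Subgroup G) (hV : IsElementaryAbelian p V)
    (hHV : H ≤ Subgroup.normalizer (V : Set G))
    (hf : H ⊓ Subgroup.centralizer (V : Set G) = ⊥) (hO : pCore p H = ⊥)
    (h₁ : E₁ ≤ H) (h₂ : E₂ ≤ H) (hs₁ : (E₁.subgroupOf H).IsSubnormal)
    (hs₂ : (E₂.subgroupOf H).IsSubnormal) (hi₁ : IrrOn V E₁) (hi₂ : IrrOn V E₂)
    (h12 : ¬ ⁅V, E₁⁆ ≤ ⁅V, E₂⁆) (h21 : ¬ ⁅V, E₂⁆ ≤ ⁅V, E₁⁆)
    (hn : E₂ ≤ Subgroup.normalizer ((⁅V, E₁⁆ : Subgroup G) : Set G)) :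
    ⁅E₁, E₂⁆ = ⊥ ∧ ⁅V, E₁⁆ ⊓ ⁅V, E₂⁆ = ⊥ := by
  have hM₁ : ⁅V, E₁⁆ ≤ V := commutator_le_of_le_normalizer (h₁.trans hHV)
  have hn₂ : E₂ ≤ Subgroup.normalizer ((⁅V, E₂⁆ : Subgroup G) : Set G) :=
    Coprime.le_normalizer_commutator_right E₂ V
  have hinf : ⁅V, E₁⁆ ⊓ ⁅V, E₂⁆ = ⊥ := by
    rcases hi₂ _ inf_le_right (Coprime.le_normalizer_inf hn hn₂) with h | h
    · exact h
    · exact absurd (inf_eq_right.mp h) h21
  have hc : ⁅⁅V, E₁⁆, E₂⁆ = ⊥ := le_bot_iff.mp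
    ((le_inf (commutator_le_of_le_normalizer hn) (Subgroup.commutator_mono hM₁ le_rfl)).trans
      hinf.le)
  have h := Cfsg.Agent.S0597.result V H hV hHV hf E₁ E₂ h₁ h₂ hs₁ hs₂ hc
  rw [hO, Subgroup.map_bot] at h
  exact ⟨le_bot_iff.mp h, hinf⟩

theorem eq_bot_of_quadratic_subnormal (V H K : Subgroup G) (hV : IsElementaryAbelian p V)
    (hHV : H ≤ Subgroup.normalizer (V : Set G))
    (hf : H ⊓ Subgroup.centralizer (V : Set G) = ⊥) (hO : pCore p H = ⊥)
    (hK : K ≤ H) (hs : (K.subgroupOf H).IsSubnormal) (hq : ⁅⁅V, K⁆, K⁆ = ⊥) : K = ⊥ := by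
  have hKp : IsPGroup p K := fun k => ⟨1, Subtype.ext (by
    have h1 : (k : G) ^ p ∈ (⊥ : Subgroup G) := hf ▸ ⟨H.pow_mem (hK k.2) p,
      quadratic_pow_mem_centralizer hV (hK.trans hHV) hq k.2⟩
    simpa using h1)⟩
  have h := le_pCore_of_isSubnormal hs hKp.comap_subtype
  rw [hO, le_bot_iff, Subgroup.subgroupOf_eq_bot] at h
  exact disjoint_self.mp (h.mono_right hK)

theorem map_conj_of_inv {M : Subgroup G} {g : G} (h : M.map (MulAut.conj g⁻¹).toMonoidHom = M) :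
    M = M.map (MulAut.conj g).toMonoidHom := by
  conv_rhs => rw [← h]
  rw [Subgroup.map_map]
  ext x
  simp [mul_assoc]

theorem irr_pair (V : Subgroup G) (hV : IsElementaryAbelian p V) :
    ∀ (n : ℕ) (H : Subgroup G), Nat.card H ≤ n → H ≤ Subgroup.normalizer (V : Set G) →
      H ⊓ Subgroup.centralizer (V : Set G) = ⊥ → pCore p H = ⊥ →
      ∀ E₁ E₂ : Subgroup G, E₁ ≤ H → E₂ ≤ H → (E₁.subgroupOf H).IsSubnormal →
        (E₂.subgroupOf H).IsSubnormal → IrrOn V E₁ → IrrOn V E₂ → ¬ ⁅V, E₁⁆ ≤ ⁅V, E₂⁆ →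
        ¬ ⁅V, E₂⁆ ≤ ⁅V, E₁⁆ → 2 < Nat.card E₁ → 2 < Nat.card E₂ →
        ⁅E₁, E₂⁆ = ⊥ ∧ ⁅V, E₁⁆ ⊓ ⁅V, E₂⁆ = ⊥ := by
  intro n
  induction n using Nat.strong_induction_on with
  | _ n ih =>
  intro H hHn hHV hf hO E₁ E₂ h₁ h₂ hs₁ hs₂ hi₁ hi₂ h12 h21 hc₁ hc₂
  by_cases hn1 : E₂ ≤ Subgroup.normalizer ((⁅V, E₁⁆ : Subgroup G) : Set G)
  · exact irr_pair_of_le_normalizer V H E₁ E₂ hV hHV hf hO h₁ h₂ hs₁ hs₂ hi₁ hi₂ h12 h21 hn1
  by_cases hn2 : E₁ ≤ Subgroup.normalizer ((⁅V, E₂⁆ : Subgroup G) : Set G)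
  · obtain ⟨a, b⟩ :=
      irr_pair_of_le_normalizer V H E₂ E₁ hV hHV hf hO h₂ h₁ hs₂ hs₁ hi₂ hi₁ h21 h12 hn2
    exact ⟨by rw [Subgroup.commutator_comm]; exact a, by rw [inf_comm]; exact b⟩
  exfalso
  have hM : ∀ E : Subgroup G, E ≤ H → ⁅V, E⁆ ≤ V := fun E hE =>
    commutator_le_of_le_normalizer (hE.trans hHV)
  -- facts about a moving conjugate, for either order of the pair
  have main : ∀ F₁ F₂ : Subgroup G, F₁ ≤ H → F₂ ≤ H → (F₁.subgroupOf H).IsSubnormal →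
      IrrOn V F₁ → ¬ ⁅V, F₂⁆ ≤ ⁅V, F₁⁆ → 2 < Nat.card F₁ →
      (∀ g ∈ F₂, ⁅V, F₁⁆.map (MulAut.conj g).toMonoidHom ≤ ⁅V, F₁⁆ ⊔ ⁅V, F₂⁆) ∧
      (∀ g ∈ F₂, ∀ g' ∈ F₂,
        ⁅V, F₁⁆.map (MulAut.conj g).toMonoidHom ≠ ⁅V, F₁⁆.map (MulAut.conj g').toMonoidHom →
        ⁅V, F₁⁆.map (MulAut.conj g).toMonoidHom ⊓
            ⁅V, F₁⁆.map (MulAut.conj g').toMonoidHom = ⊥ ∧
          ⁅F₁.map (MulAut.conj g).toMonoidHom, F₁.map (MulAut.conj g').toMonoidHom⁆ = ⊥) := by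
    intro F₁ F₂ k₁ k₂ ks₁ ki₁ k21 kc₁
    constructor
    · rintro g hg _ ⟨v, hv, rfl⟩
      show g * v * g⁻¹ ∈ _
      rw [conj_eq_mul_commutator]
      exact mul_mem (inv_mem (Subgroup.mem_sup_right
        (Subgroup.commutator_mem_commutator (hM F₁ k₁ hv) hg))) (Subgroup.mem_sup_left hv)
    intro g hg g' hg' hne
    have hF : F₁.subgroupOf H ≠ ⊤ := fun h => k21 (Subgroup.commutator_mono le_rfl
      (k₂.trans (Subgroup.subgroupOf_eq_top.mp h)))
    obtain ⟨N₀, hN₀, hle₀, hlt₀⟩ := ks₁.exists_normal_and_le_and_lt_top_of_ne hF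
    set N := N₀.map H.subtype with hN
    have hNH : N ≤ H := Subgroup.map_subtype_le _
    have hcard : Nat.card N < n := by
      refine lt_of_lt_of_le ?_ hHn
      refine lt_of_le_of_ne (Subgroup.card_le_of_le hNH) fun he => hlt₀.ne ?_
      rw [← Subgroup.card_eq_iff_eq_top]
      rw [hN, Subgroup.card_map_of_injective H.subtype_injective] at he
      exact he
    have hON : pCore p N = ⊥ := by
      have h1 := map_pCore_normal_le (p := p) N₀
      rw [hO, le_bot_iff, Subgroup.map_eq_bot_iff_of_injective _ N₀.subtype_injective] at h1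
      rw [← map_pCore_equiv (N₀.equivMapOfInjective H.subtype H.subtype_injective), h1,
        Subgroup.map_bot]
    have hconj : ∀ y ∈ F₂, F₁.map (MulAut.conj y).toMonoidHom ≤ N ∧
        ((F₁.map (MulAut.conj y).toMonoidHom).subgroupOf N).IsSubnormal := by
      intro y hy
      have hyH : y ∈ H := k₂ hy
      have hle : F₁.map (MulAut.conj y).toMonoidHom ≤ N := by
        rintro _ ⟨x, hx, rfl⟩
        exact ⟨⟨y, hyH⟩ * ⟨x, k₁ hx⟩ * ⟨y, hyH⟩⁻¹, hN₀.conj_mem _ (hle₀ hx) _, rfl⟩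
      refine ⟨hle, ?_⟩
      let f : N →* H :=
        ((MulAut.conj (⟨y, hyH⟩ : H)⁻¹).toMonoidHom).comp (Subgroup.inclusion hNH)
      have e : (F₁.map (MulAut.conj y).toMonoidHom).subgroupOf N = (F₁.subgroupOf H).comap f := by
        ext x
        constructor
        · rintro ⟨z, hz, hzx⟩
          show y⁻¹ * (x : G) * y⁻¹⁻¹ ∈ F₁
          rw [show (x : G) = y * z * y⁻¹ from hzx.symm]
          simpa [mul_assoc] using hz
        · intro hx
          refine ⟨y⁻¹ * (x : G) * y⁻¹⁻¹, hx, ?_⟩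
          show y * (y⁻¹ * (x : G) * y⁻¹⁻¹) * y⁻¹ = (x : G)
          group
      rw [e]
      exact ks₁.comap f
    have hcm : ∀ y : G, Nat.card ↥(⁅V, F₁⁆.map (MulAut.conj y).toMonoidHom) =
        Nat.card ↥⁅V, F₁⁆ := fun y =>
      Subgroup.card_map_of_injective (MulAut.conj y).injective
    have hgV := hHV (k₂ hg)
    have hgV' := hHV (k₂ hg')
    rw [map_conj_commutator V hgV, map_conj_commutator V hgV'] at hne ⊢
    have hc1 : ∀ y : G, Nat.card ↥(F₁.map (MulAut.conj y).toMonoidHom) = Nat.card F₁ := fun y =>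
      Subgroup.card_map_of_injective (MulAut.conj y).injective
    obtain ⟨r1, r2⟩ := ih _ hcard N le_rfl (hNH.trans hHV)
      (le_bot_iff.mp (hf ▸ inf_le_inf_right _ hNH)) hON _ _ (hconj g hg).1 (hconj g' hg').1
      (hconj g hg).2 (hconj g' hg').2 (irrOn_map V F₁ hgV ki₁) (irrOn_map V F₁ hgV' ki₁)
      (fun h => hne (Subgroup.eq_of_le_of_card_ge h (by
        rw [← map_conj_commutator V hgV, ← map_conj_commutator V hgV', hcm, hcm])))
      (fun h => hne (Subgroup.eq_of_le_of_card_ge h (by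
        rw [← map_conj_commutator V hgV, ← map_conj_commutator V hgV', hcm, hcm])).symm)
      (by rw [hc1]; exact kc₁) (by rw [hc1]; exact kc₁)
    exact ⟨r2, r1⟩
  -- moving elements
  have hmove : ∀ F₁ F₂ : Subgroup G, ¬ F₂ ≤ Subgroup.normalizer ((⁅V, F₁⁆ : Subgroup G) : Set G) →
      ∃ g ∈ F₂, ⁅V, F₁⁆.map (MulAut.conj g).toMonoidHom ≠ ⁅V, F₁⁆ := by
    intro F₁ F₂ h
    by_contra hcon
    push Not at hcon
    exact h fun g hg => mem_normalizer_of_map_conj_le (hcon g hg).le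
  have one_map : ∀ M : Subgroup G, M.map (MulAut.conj (1 : G)).toMonoidHom = M := fun M => by
    ext x; simp
  set M₁ := ⁅V, E₁⁆ with hM₁
  set M₂ := ⁅V, E₂⁆ with hM₂
  obtain ⟨m1, m1'⟩ := main E₁ E₂ h₁ h₂ hs₁ hi₁ h21 hc₁
  obtain ⟨m2, m2'⟩ := main E₂ E₁ h₂ h₁ hs₂ hi₂ h12 hc₂
  have hcm : ∀ (M : Subgroup G) (y : G), Nat.card ↥(M.map (MulAut.conj y).toMonoidHom) =
      Nat.card M := fun M y => Subgroup.card_map_of_injective (MulAut.conj y).injective
  have hnorm : ∀ A B : Subgroup G, A ≤ V → B ≤ V → B ≤ Subgroup.normalizer (A : Set G) :=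
    fun A B hA hB => (hB.trans (le_centralizer_self hV.1)).trans
      ((Subgroup.centralizer_le hA).trans (Subgroup.centralizer_le_normalizer _))
  have hmapV : ∀ (F : Subgroup G) (g : G), F ≤ H → g ∈ H →
      ⁅V, F⁆.map (MulAut.conj g).toMonoidHom ≤ V := fun F g hF hg => by
    refine (Subgroup.map_mono (hM F hF)).trans (le_of_eq ?_)
    exact map_conj_eq_of_mem_normalizer (hHV hg)
  -- `|Mᵢ|² ≤ |M₁ M₂|`
  obtain ⟨g₀, hg₀, hg₀ne⟩ := hmove E₁ E₂ hn1
  have hsq : ∀ g ∈ E₂, M₁.map (MulAut.conj g).toMonoidHom ≠ M₁ →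
      Nat.card ↥(M₁ ⊔ M₁.map (MulAut.conj g).toMonoidHom) = Nat.card M₁ * Nat.card M₁ := by
    intro g hg hne
    have h := (m1' 1 (one_mem _) g hg (by rw [one_map]; exact Ne.symm hne)).1
    rw [one_map] at h
    have := card_sup_mul_card_inf (hnorm M₁ _ (hM E₁ h₁) (hmapV E₁ g h₁ (h₂ hg)))
    rw [h, Subgroup.card_bot, mul_one, hcm] at this
    exact this
  have hU : Nat.card ↥(M₁ ⊔ M₂) * Nat.card ↥(M₁ ⊓ M₂) = Nat.card M₁ * Nat.card M₂ :=
    card_sup_mul_card_inf (hnorm _ _ (hM E₁ h₁) (hM E₂ h₂))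
  have hle1 : Nat.card M₁ * Nat.card M₁ ≤ Nat.card ↥(M₁ ⊔ M₂) := by
    rw [← hsq g₀ hg₀ hg₀ne]
    exact Subgroup.card_le_of_le (sup_le le_sup_left (m1 g₀ hg₀))
  have hle2 : Nat.card M₂ * Nat.card M₂ ≤ Nat.card ↥(M₁ ⊔ M₂) := by
    obtain ⟨g, hg, hne⟩ := hmove E₂ E₁ hn2
    have h := (m2' 1 (one_mem _) g hg (by rw [one_map]; exact Ne.symm hne)).1
    rw [one_map] at h
    have h2 := card_sup_mul_card_inf (hnorm M₂ _ (hM E₂ h₂) (hmapV E₂ g h₂ (h₁ hg)))
    rw [h, Subgroup.card_bot, mul_one, hcm] at h2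
    rw [← h2]
    exact Subgroup.card_le_of_le (sup_le le_sup_right ((m2 g hg).trans (le_of_eq (sup_comm _ _))))
  have hp1 : 0 < Nat.card ↥(M₁ ⊓ M₂) := Nat.card_pos
  have hle : Nat.card ↥(M₁ ⊔ M₂) ≤ Nat.card M₁ * Nat.card M₂ := hU ▸ Nat.le_mul_of_pos_right _ hp1
  have hcard12 : Nat.card M₁ = Nat.card M₂ := by
    have a1 : Nat.card M₁ ≤ Nat.card M₂ :=
      Nat.le_of_mul_le_mul_left (hle1.trans hle) Nat.card_pos
    have a2 : Nat.card M₂ ≤ Nat.card M₁ :=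
      Nat.le_of_mul_le_mul_right (hle2.trans hle) Nat.card_pos
    omega
  have hUcard : Nat.card ↥(M₁ ⊔ M₂) = Nat.card M₁ * Nat.card M₁ :=
    le_antisymm (hcard12 ▸ hle) hle1
  have hinf : M₁ ⊓ M₂ = ⊥ := by
    rw [← Subgroup.card_eq_one]
    have h : Nat.card ↥(M₁ ⊔ M₂) * Nat.card ↥(M₁ ⊓ M₂) = Nat.card ↥(M₁ ⊔ M₂) * 1 := by
      rw [mul_one, hU, hUcard, hcard12]
    exact Nat.eq_of_mul_eq_mul_left Nat.card_pos h
  have hgen : ∀ g ∈ E₂, M₁.map (MulAut.conj g).toMonoidHom ≠ M₁ →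
      M₁ ⊔ M₁.map (MulAut.conj g).toMonoidHom = M₁ ⊔ M₂ := fun g hg hne =>
    Subgroup.eq_of_le_of_card_ge (sup_le le_sup_left (m1 g hg)) (by rw [hsq g hg hne, hUcard])
  -- only two conjugates
  have htwo : ∀ g ∈ E₂, ∀ g' ∈ E₂, M₁.map (MulAut.conj g).toMonoidHom ≠ M₁ →
      M₁.map (MulAut.conj g').toMonoidHom ≠ M₁ →
      M₁.map (MulAut.conj g).toMonoidHom = M₁.map (MulAut.conj g').toMonoidHom := by
    intro g hg g' hg' hne hne'
    by_contra hd
    have hU2 : M₁.map (MulAut.conj g).toMonoidHom ⊔ M₁.map (MulAut.conj g').toMonoidHom =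
        M₁ ⊔ M₂ := by
      refine Subgroup.eq_of_le_of_card_ge (sup_le (m1 g hg) (m1 g' hg')) ?_
      have := card_sup_mul_card_inf
        (hnorm _ _ (hmapV E₁ g h₁ (h₂ hg)) (hmapV E₁ g' h₁ (h₂ hg')))
      rw [(m1' g hg g' hg' hd).1, Subgroup.card_bot, mul_one, hcm, hcm] at this
      rw [hUcard, this]
    have hcent : ∀ y ∈ E₂, M₁.map (MulAut.conj y).toMonoidHom ≠ M₁ →
        ⁅M₁.map (MulAut.conj y).toMonoidHom, E₁⁆ = ⊥ := by
      intro y hy hyne
      obtain ⟨a, b⟩ := m1' y hy 1 (one_mem _) (by rw [one_map]; exact hyne)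
      rw [one_map] at a
      rw [one_map] at b
      have hyV := hHV (h₂ hy)
      have hnM : E₁ ≤ Subgroup.normalizer
          ((M₁.map (MulAut.conj y).toMonoidHom : Subgroup G) : Set G) := by
        intro e he
        refine mem_normalizer_of_map_conj_le (le_of_eq ?_)
        rw [hM₁, map_conj_commutator V hyV, map_conj_commutator V (hHV (h₁ he)),
          map_conj_eq_of_mem_normalizer (Subgroup.centralizer_le_normalizer _
            ((Subgroup.le_centralizer_iff.mp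
              (Subgroup.commutator_eq_bot_iff_le_centralizer.mp b)) he))]
      exact le_bot_iff.mp ((le_inf (commutator_le_of_le_normalizer hnM)
        (Subgroup.commutator_mono (hmapV E₁ y h₁ (h₂ hy)) le_rfl)).trans a.le)
    have hE₁U : M₁ ⊔ M₂ ≤ Subgroup.centralizer (E₁ : Set G) := by
      rw [← hU2]
      exact sup_le (Subgroup.commutator_eq_bot_iff_le_centralizer.mp (hcent g hg hne))
        (Subgroup.commutator_eq_bot_iff_le_centralizer.mp (hcent g' hg' hne'))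
    have := eq_bot_of_quadratic_subnormal V H E₁ hV hHV hf hO h₁ hs₁
      (Subgroup.commutator_eq_bot_iff_le_centralizer.mpr (le_sup_left.trans hE₁U))
    rw [this, Subgroup.card_bot] at hc₁
    omega
  set K := E₂ ⊓ Subgroup.normalizer (M₁ : Set G) with hK
  have hnK : ∀ g ∈ E₂, M₁.map (MulAut.conj g).toMonoidHom = M₁ → g ∈ K := fun g hg h =>
    ⟨hg, mem_normalizer_of_map_conj_le h.le⟩
  have hmul : ∀ {M : Subgroup G} (a b : G), M.map (MulAut.conj (a * b)).toMonoidHom =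
      (M.map (MulAut.conj b).toMonoidHom).map (MulAut.conj a).toMonoidHom := fun {M} a b => by
    rw [Subgroup.map_map, map_mul]; rfl
  -- `K` fixes the other conjugate too
  have hK' : ∀ k ∈ K, ∀ g ∈ E₂, M₁.map (MulAut.conj g).toMonoidHom ≠ M₁ →
      (M₁.map (MulAut.conj g).toMonoidHom).map (MulAut.conj k).toMonoidHom =
        M₁.map (MulAut.conj g).toMonoidHom := by
    intro k hk g hg hne
    rw [← hmul]
    refine htwo _ (E₂.mul_mem hk.1 hg) g hg (fun h => hne ?_) hne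
    rw [hmul] at h
    refine Subgroup.map_injective (f := (MulAut.conj k).toMonoidHom) (MulAut.conj k).injective ?_
    exact h.trans (map_conj_eq_of_mem_normalizer hk.2).symm
  have hKn : E₂ ≤ Subgroup.normalizer (K : Set G) := by
    rw [Subgroup.le_normalizer_iff]
    intro g hg k hk
    refine hnK _ (E₂.mul_mem (E₂.mul_mem hg hk.1) (E₂.inv_mem hg)) ?_
    rw [hmul, hmul]
    by_cases hne : M₁.map (MulAut.conj g⁻¹).toMonoidHom = M₁
    · rw [hne, map_conj_eq_of_mem_normalizer hk.2, ← map_conj_of_inv hne]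
    · rw [hK' k hk g⁻¹ (E₂.inv_mem hg) hne, ← hmul, mul_inv_cancel, one_map]
  have hKs : (K.subgroupOf H).IsSubnormal := by
    refine Subgroup.IsSubnormal.step _ (E₂.subgroupOf H) (Subgroup.comap_mono inf_le_left) hs₂ ?_
    refine Subgroup.normal_subgroupOf_of_le_normalizer ?_
    intro x hx
    have h3 := Subgroup.mem_normalizer_iff.mp (hKn hx)
    rw [Subgroup.mem_normalizer_iff]
    exact fun z => h3 z
  have hKM₂ : K ≤ Subgroup.normalizer (M₂ : Set G) :=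
    inf_le_left.trans (Coprime.le_normalizer_commutator_right E₂ V)
  have hKM₁ : ⁅M₁, K⁆ = ⊥ := le_bot_iff.mp ((le_inf (commutator_le_of_le_normalizer inf_le_right)
    (Subgroup.commutator_mono (hM E₁ h₁) inf_le_left)).trans hinf.le)
  have hKg : ⁅M₁.map (MulAut.conj g₀).toMonoidHom, K⁆ = ⊥ := by
    refine le_bot_iff.mp (le_trans (le_inf (commutator_le_of_le_normalizer fun k hk =>
      mem_normalizer_of_map_conj_le (hK' k hk g₀ hg₀ hg₀ne).le)
      (Subgroup.commutator_mono (hmapV E₁ g₀ h₁ (h₂ hg₀)) inf_le_left)) ?_)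
    rw [← hM₂, show M₂ = M₂.map (MulAut.conj g₀).toMonoidHom from
      (map_conj_eq_of_mem_normalizer (Coprime.le_normalizer_commutator_right E₂ V hg₀)).symm,
      ← Subgroup.map_inf _ _ _ (MulAut.conj g₀).injective, hinf, Subgroup.map_bot]
  have hKU : M₁ ⊔ M₂ ≤ Subgroup.centralizer (K : Set G) := by
    rw [← hgen g₀ hg₀ hg₀ne]
    exact sup_le (Subgroup.commutator_eq_bot_iff_le_centralizer.mp hKM₁)
      (Subgroup.commutator_eq_bot_iff_le_centralizer.mp hKg)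
  have hKbot : K = ⊥ := eq_bot_of_quadratic_subnormal V H K hV hHV hf hO (inf_le_left.trans h₂) hKs
    (Subgroup.commutator_eq_bot_iff_le_centralizer.mpr
      ((Subgroup.commutator_mono le_rfl inf_le_left).trans (le_sup_right.trans hKU)))
  have hsub : (E₂ : Set G) ⊆ {1, g₀} := by
    intro g hg
    by_cases hne : M₁.map (MulAut.conj g).toMonoidHom = M₁
    · exact Or.inl (Subgroup.mem_bot.mp (hKbot ▸ hnK g hg hne))
    · right
      have h := htwo g hg g₀ hg₀ hne hg₀ne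
      have h2 : g₀⁻¹ * g ∈ K := hnK _ (E₂.mul_mem (E₂.inv_mem hg₀) hg)
        (by rw [hmul, h, ← hmul, inv_mul_cancel, one_map])
      rw [hKbot, Subgroup.mem_bot, inv_mul_eq_one] at h2
      exact h2.symm
  have hle3 : Nat.card E₂ ≤ 2 := by
    rw [← SetLike.coe_sort_coe, Nat.card_coe_set_eq]
    exact (Set.ncard_le_ncard hsub (Set.toFinite _)).trans ((Set.ncard_insert_le _ _).trans
      (by rw [Set.ncard_singleton]))
  omega

theorem irr_pair_final (V E E₁ E₂ : Subgroup G) (hV : IsElementaryAbelian p V)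
    (hEV : E ≤ Subgroup.normalizer (V : Set G))
    (hf : E ⊓ Subgroup.centralizer (V : Set G) = ⊥) (hgen : E = E₁ ⊔ E₂)
    (hs₁ : (E₁.subgroupOf E).IsSubnormal) (hs₂ : (E₂.subgroupOf E).IsSubnormal)
    (hO : pCore p E = ⊥) (hi₁ : IrrOn V E₁) (hi₂ : IrrOn V E₂)
    (h12 : ¬ ⁅V, E₁⁆ ≤ ⁅V, E₂⁆) (h21 : ¬ ⁅V, E₂⁆ ≤ ⁅V, E₁⁆) (hc₁ : 2 < Nat.card E₁)
    (hc₂ : 2 < Nat.card E₂) :
    ⁅E₁, E₂⁆ = ⊥ ∧ E₁ ⊓ E₂ = ⊥ ∧ ⁅V, E₁⁆ ⊓ ⁅V, E₂⁆ = ⊥ ∧ ⁅V, E⁆ = ⁅V, E₁⁆ ⊔ ⁅V, E₂⁆ := by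
  have k₁ : E₁ ≤ E := hgen ▸ le_sup_left
  have k₂ : E₂ ≤ E := hgen ▸ le_sup_right
  obtain ⟨hc, hinf⟩ := irr_pair V hV _ E le_rfl hEV hf hO E₁ E₂ k₁ k₂ hs₁ hs₂ hi₁ hi₂ h12 h21 hc₁ hc₂
  refine ⟨hc, ?_, hinf, ?_⟩
  · refine le_bot_iff.mp fun x hx => hf.le ⟨k₁ hx.1, Subgroup.mem_centralizer_iff.mpr fun v hv => ?_⟩
    have h : ⁅v, x⁆ ∈ (⊥ : Subgroup G) := hinf ▸ ⟨Subgroup.commutator_mem_commutator hv hx.1,
      Subgroup.commutator_mem_commutator hv hx.2⟩
    exact commutatorElement_eq_one_iff_mul_comm.mp (Subgroup.mem_bot.mp h)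
  · have hcc : E₂ ≤ Subgroup.centralizer (E₁ : Set G) :=
      Subgroup.le_centralizer_iff.mp (Subgroup.commutator_eq_bot_iff_le_centralizer.mp hc)
    refine le_antisymm ?_ (sup_le (Subgroup.commutator_mono le_rfl k₁)
      (Subgroup.commutator_mono le_rfl k₂))
    rw [Subgroup.commutator_le]
    intro v hv x hx
    rw [hgen, ← SetLike.mem_coe, Subgroup.coe_mul_of_right_le_normalizer_left _ _
      (hcc.trans (Subgroup.centralizer_le_normalizer _))] at hx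
    obtain ⟨a, ha, b, hb, rfl⟩ := hx
    rw [commutatorElement_mul_right_eq_mul_conj, mul_assoc, mul_assoc]
    refine mul_mem (Subgroup.mem_sup_left (Subgroup.commutator_mem_commutator hv ha))
      (Subgroup.mem_sup_right ?_)
    rw [← mul_assoc, conjugate_commutatorElement,
      show a * b * a⁻¹ = b by
        rw [Subgroup.mem_centralizer_iff.mp (hcc hb) a ha, mul_inv_cancel_right]]
    exact Subgroup.commutator_mem_commutator (conj_mem_of_le_normalizer (k₁.trans hEV) ha hv) hb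

end Cfsg.Agent.Thompson
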