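import Mathlib
import Cfsg.Prelude.Def_Local
import Cfsg.Prelude.Def_TwoFusion
import Cfsg.Agent.Lib.Thompson.Cores
import Cfsg.Agent.Lib.Thompson.PSolvable
import Cfsg.Agent.Lib.Transfer.Focal

/-!
The Alperin and Alperin–Goldschmidt fusion theorems, with tame intersections and `p`-element
factors. Conjugation is on the right: `A ↦ g⁻¹ A g`.
-/

set_option autoImplicit false
set_option linter.unusedVariables false
set_option linter.style.haveILetI false
set_option linter.unusedSectionVars false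

namespace Cfsg.Agent.Thompson.Alperin

open Cfsg

variable {G : Type*} [Group G] {p : ℕ}

/-- `g⁻¹ A g`. -/
abbrev rimg (g : G) (A : Set G) : Set G := (fun a => g⁻¹ * a * g) '' A

theorem rimg_one (A : Set G) : rimg 1 A = A := by simp [rimg]

theorem rimg_rimg (g h : G) (A : Set G) : rimg h (rimg g A) = rimg (g * h) A := by
  simp [rimg, Set.image_image, mul_assoc]

theorem rimg_mono {g : G} {A B : Set G} (h : A ⊆ B) : rimg g A ⊆ rimg g B := Set.image_mono h

theorem rimg_of_mem_centralizer {c : G} {A : Set G} (hc : c ∈ Subgroup.centralizer A) :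
    rimg c A = A := by
  refine (Set.image_congr (g := id) fun a ha => ?_).trans (Set.image_id _)
  rw [mul_assoc, Subgroup.mem_centralizer_iff.mp hc a ha, ← mul_assoc, inv_mul_cancel, one_mul]
  rfl

theorem conj_mem_centralizer {x c : G} {A : Set G}
    (hc : c ∈ Subgroup.centralizer (rimg x A)) : x * c * x⁻¹ ∈ Subgroup.centralizer A := by
  rw [Subgroup.mem_centralizer_iff]
  intro a ha
  have h := Subgroup.mem_centralizer_iff.mp hc _ ⟨a, ha, rfl⟩
  calc a * (x * c * x⁻¹) = x * (x⁻¹ * a * x * c) * x⁻¹ := by group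
    _ = x * (c * (x⁻¹ * a * x)) * x⁻¹ := by rw [h]
    _ = x * c * x⁻¹ * a := by group

theorem rimg_subset_of_mem_normalizer {g : G} {D : Subgroup G}
    (hg : g ∈ Subgroup.normalizer (D : Set G)) {A : Set G} (hA : A ⊆ D) : rimg g A ⊆ D := by
  rintro _ ⟨a, ha, rfl⟩
  simpa using (Subgroup.mem_normalizer_iff.mp (Subgroup.inv_mem _ hg) a).mp (hA ha)

/-- Chains of steps from `step`, interleaved with centralizing moves if `free`. -/
inductive Chain (step : Subgroup G → G → Prop) (free : Prop) : Set G → G → Prop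
  | one (A : Set G) : Chain step free A 1
  | cons {A : Set G} {D : Subgroup G} {x g : G} : step D x → A ⊆ D →
      Chain step free (rimg x A) g → Chain step free A (x * g)
  | move {A : Set G} {c g : G} : free → c ∈ Subgroup.centralizer A →
      Chain step free A g → Chain step free A (c * g)

namespace Chain

variable {step : Subgroup G → G → Prop} {free : Prop}

theorem single {A : Set G} {D : Subgroup G} {x : G} (hs : step D x) (hA : A ⊆ D) :
    Chain step free A x := by
  simpa using Chain.cons hs hA (.one _)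

theorem centralizing {A : Set G} {c : G} (hf : free) (hc : c ∈ Subgroup.centralizer A) :
    Chain step free A c := by
  simpa using Chain.move hf hc (.one _)

theorem trans {A : Set G} {g h : G} (h₁ : Chain step free A g)
    (h₂ : Chain step free (rimg g A) h) : Chain step free A (g * h) := by
  induction h₁ with
  | one A => simpa [rimg_one] using h₂
  | cons hs hA _ ih =>
    rw [mul_assoc]
    exact .cons hs hA (ih (by simpa [rimg_rimg] using h₂))
  | @move A c g hf hc _ ih =>
    rw [mul_assoc]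
    exact .move hf hc (ih (by rwa [← rimg_rimg, rimg_of_mem_centralizer hc] at h₂))

theorem mono {A B : Set G} {g : G} (h : Chain step free A g) (hB : B ⊆ A) :
    Chain step free B g := by
  induction h generalizing B with
  | one A => exact .one B
  | cons hs hA _ ih => exact .cons hs (hB.trans hA) (ih (rimg_mono hB))
  | move hf hc _ ih => exact .move hf (Subgroup.centralizer_le hB hc) (ih hB)

theorem inv (hinv : ∀ D x, step D x → step D x⁻¹)
    (hnorm : ∀ D x, step D x → x ∈ Subgroup.normalizer (D : Set G)) {A : Set G} {g : G}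
    (h : Chain step free A g) : Chain step free (rimg g A) g⁻¹ := by
  induction h with
  | one A => simpa [rimg_one] using Chain.one A
  | @cons A D x g hs hA _ ih =>
    rw [mul_inv_rev, ← rimg_rimg]
    refine ih.trans ?_
    rw [rimg_rimg g, mul_inv_cancel, rimg_one]
    exact single (hinv _ _ hs) (rimg_subset_of_mem_normalizer (hnorm _ _ hs) hA)
  | @move A c g hf hc _ ih =>
    rw [mul_inv_rev, ← rimg_rimg, rimg_of_mem_centralizer hc]
    refine ih.trans ?_
    rw [rimg_rimg g, mul_inv_cancel, rimg_one]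
    exact centralizing hf (inv_mem hc)

theorem to_family {A : Set G} {g : G} (h : Chain step free A g) :
    ∃ (n : ℕ) (D : Fin n → Subgroup G) (x : Fin n → G) (c : G), c ∈ Subgroup.centralizer A ∧
      (¬ free → c = 1) ∧ g = c * (List.ofFn x).prod ∧ (∀ i, step (D i) (x i)) ∧
      (∀ h : 0 < n, A ⊆ D ⟨0, h⟩) ∧
      ∀ (i : Fin n) (h : i.val + 1 < n),
        (fun a => (((List.ofFn x).take (i.val + 1)).prod)⁻¹ * a *
          ((List.ofFn x).take (i.val + 1)).prod) '' A ⊆ D ⟨i.val + 1, h⟩ := by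
  induction h with
  | one A =>
    exact ⟨0, Fin.elim0, Fin.elim0, 1, one_mem _, fun _ => rfl, by simp, fun i => i.elim0,
      fun h => absurd h (lt_irrefl 0), fun i => i.elim0⟩
  | @move A c g hf hc _ ih =>
    obtain ⟨n, D, x, c', hc', -, hg, h1, h2, h3⟩ := ih
    exact ⟨n, D, x, c * c', mul_mem hc hc', fun h => absurd hf h, by rw [hg, mul_assoc], h1, h2, h3⟩
  | @cons A D₀ x₀ g hs hA _ ih =>
    obtain ⟨n, D, x, c, hc, hfree, hg, hmem, h0, hstep⟩ := ih
    refine ⟨n + 1, Fin.cons D₀ D, Fin.cons x₀ x, x₀ * c * x₀⁻¹, conj_mem_centralizer hc,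
      fun h => by simp [hfree h], ?_, Fin.cases hs hmem, fun _ => hA, ?_⟩
    · simp [List.ofFn_succ, hg, mul_assoc]
    intro i h
    cases i using Fin.cases with
    | zero =>
      have := h0 (by simpa using h)
      rintro y ⟨a, ha, rfl⟩
      have e : (⟨(0 : Fin (n + 1)).val + 1, h⟩ : Fin (n + 1)) = Fin.succ ⟨0, by simpa using h⟩ :=
        Fin.ext (by simp)
      rw [e, Fin.cons_succ]
      simpa [List.ofFn_succ] using this ⟨a, ha, rfl⟩
    | succ i =>
      rintro y ⟨a, ha, rfl⟩
      have hi : i.val + 1 < n := by simpa using h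
      have e : (⟨i.succ.val + 1, h⟩ : Fin (n + 1)) = Fin.succ ⟨i.val + 1, hi⟩ :=
        Fin.ext (by simp)
      rw [e, Fin.cons_succ]
      have := hstep i hi ⟨_, ⟨a, ha, rfl⟩, rfl⟩
      simp only [Fin.val_succ, List.ofFn_succ, List.take_succ_cons, List.prod_cons, Fin.cons_zero,
        Fin.cons_succ]
      convert this using 1
      simp [mul_assoc]

end Chain

/-- `N_P(D)` has index prime to `p` in `N_G(D)`. -/
def FullyIn (p : ℕ) (P D : Subgroup G) : Prop :=
  ¬ p ∣ (P ⊓ Subgroup.normalizer (D : Set G)).relIndex (Subgroup.normalizer (D : Set G))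

/-- The Goldschmidt conditions on a fully normalized subgroup. -/
def Good (p : ℕ) (P D : Subgroup G) : Prop :=
  P ⊓ Subgroup.centralizer (D : Set G) ≤ D ∧
    P ⊓ (pPrimePCore p ↥(Subgroup.normalizer (D : Set G))).map
      (Subgroup.normalizer (D : Set G)).subtype ≤ D

theorem le_map_of_rimg_subset {T R : Subgroup G} {g : G}
    (h : rimg g (T : Set G) ⊆ R) : T.map (MulAut.conj g⁻¹).toMonoidHom ≤ R := by
  rintro _ ⟨t, ht, rfl⟩
  simpa [mul_assoc] using h ⟨t, ht, rfl⟩

theorem coe_map_conj_inv (T : Subgroup G) (g : G) :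
    ((T.map (MulAut.conj g⁻¹).toMonoidHom : Subgroup G) : Set G) = rimg g (T : Set G) := by
  ext y
  simp [rimg, mul_assoc]

theorem map_conj_normalizer_le {H D : Subgroup G} (h : H ≤ Subgroup.normalizer (D : Set G))
    (g : G) : H.map (MulAut.conj g⁻¹).toMonoidHom ≤
      Subgroup.normalizer ((D.map (MulAut.conj g⁻¹).toMonoidHom : Subgroup G) : Set G) :=
  (Subgroup.map_mono h).trans (Subgroup.le_normalizer_map _)

variable [Finite G] [hp : Fact p.Prime]

theorem sup_lt_normalizer {T R : Subgroup G} (hR : IsPGroup p R) (h : T < R) :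
    T < R ⊓ Subgroup.normalizer (T : Set G) := by
  refine lt_of_le_of_ne (le_inf h.le Subgroup.le_normalizer) fun heq => ?_
  have hlt : T.subgroupOf R < ⊤ :=
    lt_top_iff_ne_top.mpr fun htop => h.ne (le_antisymm h.le (Subgroup.subgroupOf_eq_top.mp htop))
  haveI : Group.IsNilpotent R := hR.isNilpotent
  have h2 := Group.normalizerCondition_of_isNilpotent (T.subgroupOf R) hlt
  obtain ⟨x, hx, hxT⟩ := SetLike.exists_of_lt h2
  refine hxT ?_
  have hxn : (x : G) ∈ Subgroup.normalizer (T : Set G) := by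
    rw [Subgroup.mem_normalizer_iff] at hx ⊢
    intro y
    constructor
    · intro hy
      exact (hx ⟨y, h.le hy⟩).mp hy
    · intro hy
      have hyR : y ∈ R := by
        have := R.mul_mem (R.mul_mem (R.inv_mem x.2) (h.le hy)) x.2
        simpa [mul_assoc] using this
      exact (hx ⟨y, hyR⟩).mpr hy
  show (x : G) ∈ T
  rw [heq]
  exact ⟨x.2, hxn⟩

/-- A Sylow subgroup `S₁` of `N` in a Sylow subgroup `Q` of `G` equals `Q ∩ N`. -/
theorem sylow_inf_eq (N : Subgroup G) (S₁ : Sylow p N) (Q : Sylow p G)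
    (h : (S₁ : Subgroup N).map N.subtype ≤ Q) :
    (Q : Subgroup G) ⊓ N = (S₁ : Subgroup N).map N.subtype := by
  refine le_antisymm ?_ (le_inf h (Subgroup.map_subtype_le _))
  have h2 : ((Q : Subgroup G).subgroupOf N) = (S₁ : Subgroup N) :=
    S₁.is_maximal' Q.isPGroup'.comap_subtype (fun x hx => h ⟨x, hx, rfl⟩)
  rw [← h2, Subgroup.subgroupOf_map_subtype]

theorem not_dvd_relIndex_sylow (N : Subgroup G) (S₁ : Sylow p N) :
    ¬ p ∣ ((S₁ : Subgroup N).map N.subtype).relIndex N := by
  rw [Subgroup.relIndex, Subgroup.subgroupOf,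
    Subgroup.comap_map_eq_self_of_injective N.subtype_injective]
  exact S₁.not_dvd_index

theorem exists_sylow_of_fully {P : Sylow p G} {D : Subgroup G}
    (h : FullyIn p (P : Subgroup G) D) :
    ∃ S₀ : Sylow p ↥(Subgroup.normalizer (D : Set G)),
      (S₀ : Subgroup ↥(Subgroup.normalizer (D : Set G))).map
          (Subgroup.normalizer (D : Set G)).subtype =
        (P : Subgroup G) ⊓ Subgroup.normalizer (D : Set G) := by
  refine ⟨((P.isPGroup'.to_inf_left (K := Subgroup.normalizer (D : Set G))).comap_subtype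
    (K := Subgroup.normalizer (D : Set G))).toSylow h, ?_⟩
  simp [IsPGroup.toSylow, Subgroup.subgroupOf_map_subtype, inf_assoc]

theorem exists_fully_conj (P : Sylow p G) {T : Subgroup G} (hT : T ≤ P) :
    ∃ g : G, T.map (MulAut.conj g⁻¹).toMonoidHom ≤ P ∧
      FullyIn p (P : Subgroup G) (T.map (MulAut.conj g⁻¹).toMonoidHom) := by
  obtain ⟨g, hg, hmax⟩ := Set.exists_max_image
    {g : G | T.map (MulAut.conj g⁻¹).toMonoidHom ≤ (P : Subgroup G)}
    (fun g => Nat.card ↥((P : Subgroup G) ⊓
      Subgroup.normalizer ((T.map (MulAut.conj g⁻¹).toMonoidHom : Subgroup G) : Set G)))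
    (Set.toFinite _) ⟨1, by rintro _ ⟨t, ht, rfl⟩; simpa using hT ht⟩
  refine ⟨g, hg, ?_⟩
  set U := T.map (MulAut.conj g⁻¹).toMonoidHom with hU
  set N := Subgroup.normalizer (U : Set G) with hN
  obtain ⟨S₁, hS₁⟩ := (((P.isPGroup'.to_inf_left (K := N))).comap_subtype (K := N)).exists_le_sylow
  obtain ⟨Q, hQ⟩ := (S₁.isPGroup'.map N.subtype).exists_le_sylow
  obtain ⟨h, hh⟩ := MulAction.exists_smul_eq G Q P
  have hUS : U ≤ (S₁ : Subgroup N).map N.subtype := by
    intro u hu
    exact ⟨⟨u, Subgroup.le_normalizer hu⟩, hS₁ ⟨hg hu, Subgroup.le_normalizer hu⟩, rfl⟩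
  have hQP : (Q : Subgroup G).map (MulAut.conj h).toMonoidHom = (P : Subgroup G) := by
    rw [← hh, Sylow.coe_subgroup_smul]; rfl
  have e : T.map (MulAut.conj (g * h⁻¹)⁻¹).toMonoidHom = U.map (MulAut.conj h).toMonoidHom := by
    rw [hU, Subgroup.map_map]
    congr 1
    ext x
    simp [mul_assoc]
  have hle : T.map (MulAut.conj (g * h⁻¹)⁻¹).toMonoidHom ≤ (P : Subgroup G) := by
    rw [e, ← hQP]
    exact Subgroup.map_mono (hUS.trans hQ)
  have hmax' := hmax (g * h⁻¹) hle
  rw [e] at hmax'
  have hcard : Nat.card ↥((S₁ : Subgroup N).map N.subtype) ≤ Nat.card ↥((P : Subgroup G) ⊓ N) := by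
    refine le_trans ?_ hmax'
    rw [← Subgroup.card_map_of_injective (f := (MulAut.conj h).toMonoidHom)
      (MulAut.conj h).injective]
    refine Subgroup.card_le_of_le (le_inf ?_ ?_)
    · rw [← hQP]; exact Subgroup.map_mono hQ
    · exact (Subgroup.map_mono (Subgroup.map_subtype_le _)).trans (Subgroup.le_normalizer_map _)
  have heq : (P : Subgroup G) ⊓ N = (S₁ : Subgroup N).map N.subtype := by
    refine Subgroup.eq_of_le_of_card_ge (fun x hx => ⟨⟨x, hx.2⟩, hS₁ hx, rfl⟩) hcard
  rw [FullyIn, ← hN, heq]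
  exact not_dvd_relIndex_sylow N S₁

/-- **Alperin–Goldschmidt fusion**, general form. -/
theorem chain_of_fusion (P : Sylow p G) {step : Subgroup G → G → Prop} {free : Prop}
    (hinv : ∀ D x, step D x → step D x⁻¹)
    (hnorm : ∀ D x, step D x → x ∈ Subgroup.normalizer (D : Set G))
    (hP : ∀ x ∈ Subgroup.normalizer ((P : Subgroup G) : Set G), step (P : Subgroup G) x)
    (htame : ∀ (Q : Sylow p G) (U : Subgroup G) (x : G), (P : Subgroup G) ⊓ Q = U →
      FullyIn p (P : Subgroup G) U → FullyIn p (Q : Subgroup G) U →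
      x ∈ Subgroup.normalizer (U : Set G) → (∃ k : ℕ, orderOf x = p ^ k) →
      (free → Good p (P : Subgroup G) U) → step U x) :
    ∀ (A : Set G) (g : G), A ⊆ (P : Subgroup G) → rimg g A ⊆ (P : Subgroup G) →
      Chain step free A g := by
  suffices key : ∀ (k : ℕ) (T : Subgroup G), Nat.card ↥(P : Subgroup G) ≤ Nat.card ↥T + k →
      T ≤ (P : Subgroup G) → ∀ g : G, rimg g (T : Set G) ⊆ (P : Subgroup G) →
        Chain step free (T : Set G) g by
    intro A g hA hg
    refine (key _ (Subgroup.closure A) le_add_self ((Subgroup.closure_le _).2 hA) g ?_).mono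
      Subgroup.subset_closure
    rw [← coe_map_conj_inv, MonoidHom.map_closure]
    refine SetLike.coe_subset_coe.mpr ((Subgroup.closure_le _).2 ?_)
    rintro _ ⟨a, ha, rfl⟩
    simpa [mul_assoc] using hg ⟨a, ha, rfl⟩
  intro k
  induction k using Nat.strong_induction_on with
  | _ k ih =>
    intro T hk hT g hg
    by_cases hTP : T = (P : Subgroup G)
    · subst hTP
      refine Chain.single (hP g ?_) subset_rfl
      have h2 : (P : Subgroup G).map (MulAut.conj g⁻¹).toMonoidHom = P :=
        Subgroup.eq_of_le_of_card_ge (le_map_of_rimg_subset hg)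
          (by rw [Subgroup.card_map_of_injective (MulAut.conj g⁻¹).injective])
      rw [← inv_inv g]
      refine Subgroup.inv_mem _ ?_
      rw [Subgroup.mem_normalizer_iff]
      intro y
      constructor
      · intro hy; rw [← h2]; exact ⟨y, hy, rfl⟩
      · intro hy
        rw [← h2] at hy
        obtain ⟨z, hz, hzy⟩ := hy
        exact (MulAut.conj g⁻¹).injective hzy ▸ hz
    -- subgroups of `P` bigger than `T` are settled
    have big : ∀ R : Subgroup G, R ≤ (P : Subgroup G) → Nat.card T < Nat.card R → ∀ y : G,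
        rimg y (R : Set G) ⊆ (P : Subgroup G) → Chain step free (R : Set G) y := by
      intro R hR hlt y hy
      have := Subgroup.card_le_of_le hR
      exact ih (Nat.card ↥(P : Subgroup G) - Nat.card R) (by omega) R (by omega) hR y hy
    -- every conjugate of `T` in `P` moves to the fully normalized one
    obtain ⟨g₀, hU, hUf⟩ := exists_fully_conj P hT
    set U := T.map (MulAut.conj g₀⁻¹).toMonoidHom with hUdef
    set N := Subgroup.normalizer (U : Set G) with hN
    obtain ⟨S₀, hS₀⟩ := exists_sylow_of_fully hUf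
    have hcardU : ∀ T' : Subgroup G, ∀ y : G,
        Nat.card ↥(T'.map (MulAut.conj y).toMonoidHom) = Nat.card T' := fun T' y =>
      Subgroup.card_map_of_injective (MulAut.conj y).injective
    have toU : ∀ (T' : Subgroup G) (y : G), T' ≤ (P : Subgroup G) →
        T'.map (MulAut.conj y⁻¹).toMonoidHom = U →
        ∃ z : G, Chain step free (T' : Set G) z ∧ rimg z (T' : Set G) = (U : Set G) := by
      intro T' y hT' hy
      have hcT : Nat.card T' = Nat.card T := by
        rw [← hcardU T' y⁻¹, hy, hUdef, hcardU]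
      have hlt : T' < (P : Subgroup G) := lt_of_le_of_ne hT' fun h => hTP
        (Subgroup.eq_of_le_of_card_ge hT (by rw [← hcT, h]))
      have hNT := sup_lt_normalizer P.isPGroup' hlt
      set R := (P : Subgroup G) ⊓ Subgroup.normalizer (T' : Set G) with hR
      have hRN : R.map (MulAut.conj y⁻¹).toMonoidHom ≤ N := by
        rw [hN, ← hy]
        exact map_conj_normalizer_le inf_le_right y
      obtain ⟨S₁, hS₁⟩ := ((P.isPGroup'.to_inf_left
        (K := Subgroup.normalizer (T' : Set G))).map (MulAut.conj y⁻¹).toMonoidHom).comap_subtype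
        (K := N) |>.exists_le_sylow
      obtain ⟨n, hn⟩ := MulAction.exists_smul_eq N S₁ S₀
      refine ⟨y * (n : G)⁻¹, ?_, ?_⟩
      · refine (big R inf_le_left ?_ _ ?_).mono fun x hx => ⟨hT' hx, Subgroup.le_normalizer hx⟩
        · rw [← hcT]
          exact Set.ncard_lt_ncard hNT (Set.toFinite _)
        · rintro _ ⟨r, hr, rfl⟩
          have h1 : (⟨y⁻¹ * r * y, hRN ⟨r, hr, by simp⟩⟩ : N) ∈ S₁ :=
            hS₁ ⟨r, hr, by simp⟩
          have h2 : n * ⟨y⁻¹ * r * y, hRN ⟨r, hr, by simp⟩⟩ * n⁻¹ ∈ (S₀ : Subgroup N) := by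
            rw [← hn, Sylow.coe_subgroup_smul]
            exact ⟨_, h1, rfl⟩
          have h3 : (n : G) * (y⁻¹ * r * y) * (n : G)⁻¹ ∈ (P : Subgroup G) ⊓ N := by
            rw [← hS₀]
            exact ⟨_, h2, rfl⟩
          simpa [mul_assoc] using h3.1
      · rw [← rimg_rimg, ← coe_map_conj_inv, hy]
        refine Set.Subset.antisymm (rimg_subset_of_mem_normalizer (Subgroup.inv_mem _ n.2)
          subset_rfl) fun u hu => ?_
        refine ⟨(n : G)⁻¹ * u * n, ?_, by simp [mul_assoc]⟩
        simpa using (Subgroup.mem_normalizer_iff.mp (Subgroup.inv_mem _ n.2) u).mp hu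
    -- automorphisms of `U`
    have haut : ∀ n ∈ N, Chain step free (U : Set G) n := by
      have hcU : Nat.card U = Nat.card T := by rw [hUdef, hcardU]
      have hUP : U < (P : Subgroup G) := lt_of_le_of_ne hU fun h => hTP
        (Subgroup.eq_of_le_of_card_ge hT (by rw [← hcU, h]))
      let Γ : Subgroup G :=
        { carrier := {n | n ∈ N ∧ Chain step free (U : Set G) n}
          one_mem' := ⟨one_mem _, .one _⟩
          mul_mem' := fun {a b} ha hb => ⟨mul_mem ha.1 hb.1, ha.2.trans
            (hb.2.mono (rimg_subset_of_mem_normalizer ha.1 subset_rfl))⟩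
          inv_mem' := fun {a} ha => ⟨inv_mem ha.1, (ha.2.inv hinv hnorm).mono fun u hu =>
            ⟨a * u * a⁻¹, (Subgroup.mem_normalizer_iff.mp ha.1 u).mp hu, by simp [mul_assoc]⟩⟩ }
      -- normalizers of bigger subgroups of `P` lie in `Γ`
      have hbigΓ : ∀ R : Subgroup G, R ≤ (P : Subgroup G) → U < R → ∀ y ∈ N,
          rimg y (R : Set G) ⊆ (P : Subgroup G) → y ∈ Γ := by
        intro R hR hUR y hy hyR
        exact ⟨hy, (big R hR (hcU ▸ Set.ncard_lt_ncard hUR (Set.toFinite _)) y hyR).mono hUR.le⟩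
      have hUN : U < (P : Subgroup G) ⊓ N := sup_lt_normalizer P.isPGroup' hUP
      have hNS₀ : ∀ y ∈ N, y ∈ Subgroup.normalizer (((P : Subgroup G) ⊓ N : Subgroup G) : Set G) →
          y ∈ Γ := fun y hy hy' => hbigΓ _ inf_le_left hUN y hy
            ((rimg_subset_of_mem_normalizer hy' subset_rfl).trans fun x hx => hx.1)
      by_cases hbad : free ∧ ¬ Good p (P : Subgroup G) U
      · obtain ⟨hfree, hbad⟩ := hbad
        have hC : ∀ c ∈ Subgroup.centralizer (U : Set G), c ∈ Γ := fun c hc =>
          ⟨Subgroup.centralizer_le_normalizer _ hc, Chain.centralizing hfree hc⟩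
        -- a normal subgroup `K` of `N` contained in `Γ` with `(P ∩ K) ⊔ U > U`
        have main : ∀ K : Subgroup G, K ≤ N → N ≤ Subgroup.normalizer (K : Set G) →
            (∀ x ∈ K, x ∈ Γ) → ¬ (P : Subgroup G) ⊓ K ≤ U → ∀ y ∈ N, y ∈ Γ := by
          intro K hK hKn hKΓ hne y hy
          haveI : (K.subgroupOf N).Normal := Subgroup.normal_subgroupOf_of_le_normalizer hKn
          obtain ⟨W, hW⟩ := Cfsg.Agent.Transfer.exists_sylow_subgroupOf_normal S₀ (K.subgroupOf N)
          have h1 := Sylow.normalizer_sup_eq_top W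
          rw [hW, Subgroup.subgroupOf_map_subtype] at h1
          have hy' : (⟨y, hy⟩ : N) ∈ Subgroup.normalizer
              (((S₀ : Subgroup N) ⊓ K.subgroupOf N : Subgroup N) : Set N) ⊔ K.subgroupOf N :=
            h1 ▸ Subgroup.mem_top _
          rw [← SetLike.mem_coe, sup_comm, Subgroup.normal_mul] at hy'
          obtain ⟨x, hx, m, hm, hxm⟩ := hy'
          have hxy : (x : G) * (m : G) = y := congrArg Subtype.val hxm
          rw [← hxy]
          refine Γ.mul_mem (hKΓ _ hx) ?_
          -- `m` normalizes `P ∩ K`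
          refine hbigΓ (((P : Subgroup G) ⊓ K) ⊔ U) (sup_le inf_le_left hU)
            (lt_of_le_of_ne le_sup_right fun h => hne (h ▸ le_sup_left)) _ m.2 ?_
          rw [← coe_map_conj_inv, Subgroup.map_sup]
          refine SetLike.coe_subset_coe.mpr (sup_le ?_ ?_)
          · rintro _ ⟨z, hz, rfl⟩
            have hzS : z ∈ (S₀ : Subgroup N).map N.subtype := hS₀.symm ▸ ⟨hz.1, hK hz.2⟩
            obtain ⟨z', hz', rfl⟩ := hzS
            have h2 : m⁻¹ * z' * m ∈ (S₀ : Subgroup N) ⊓ K.subgroupOf N := by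
              simpa using (Subgroup.mem_normalizer_iff.mp (Subgroup.inv_mem _ hm) z').mp ⟨hz', hz.2⟩
            have h3 : ((m⁻¹ * z' * m : N) : G) ∈ (P : Subgroup G) ⊓ N :=
              hS₀ ▸ ⟨_, h2.1, rfl⟩
            simp [mul_assoc] at h3 ⊢
            exact h3.1
          · rintro _ ⟨z, hz, rfl⟩
            refine hU ?_
            simpa [mul_assoc] using
              (Subgroup.mem_normalizer_iff.mp (Subgroup.inv_mem _ m.2) z).mp hz
        by_cases hc : (P : Subgroup G) ⊓ Subgroup.centralizer (U : Set G) ≤ U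
        · have hR := fun h => hbad ⟨hc, h⟩
          set K := (pPrimePCore p ↥N).map N.subtype with hKdef
          refine fun n hn => (main K (Subgroup.map_subtype_le _) ?_ ?_ hR n hn).2
          · rw [Subgroup.le_normalizer_iff]
            rintro a ha _ ⟨z, hz, rfl⟩
            exact ⟨⟨a, ha⟩ * z * (⟨a, ha⟩)⁻¹, instPPrimePCoreNormal.conj_mem z hz _, rfl⟩
          · rintro _ ⟨z, hz, rfl⟩
            obtain ⟨W, hW⟩ := Cfsg.Agent.Transfer.exists_sylow_subgroupOf_normal S₀
              (pPrimePCore p ↥N)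
            have h1 := sylow_pPrimePCore_sup W
            rw [hW, Subgroup.subgroupOf_map_subtype] at h1
            rw [← h1, Subgroup.normal_mul] at hz
            obtain ⟨x, hx, s, hs, rfl⟩ := hz
            rw [map_mul]
            refine Γ.mul_mem (hC _ ?_) ?_
            · -- `O_{p'}(N)` centralizes `U`
              have hUp : U.subgroupOf N ≤ pCore p ↥N :=
                le_pCore Subgroup.normal_in_normalizer (P.isPGroup'.to_le hU).comap_subtype
              rw [Subgroup.mem_centralizer_iff]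
              intro u hu
              have := Subgroup.mem_centralizer_iff.mp (pPrimeCore_le_centralizer_pCore hx)
                ⟨u, Subgroup.le_normalizer hu⟩ (hUp hu)
              exact congrArg Subtype.val this
            · have hs' : (s : G) ∈ (P : Subgroup G) ⊓ N := hS₀ ▸ ⟨_, hs.1, rfl⟩
              exact ⟨s.2, Chain.single (hP _ (Subgroup.le_normalizer hs'.1)) fun x hx => hU hx⟩
        · exact fun n hn => (main _ (Subgroup.centralizer_le_normalizer _) (by
            rw [Subgroup.le_normalizer_iff]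
            intro a ha c hc'
            rw [Subgroup.mem_centralizer_iff] at hc' ⊢
            intro u hu
            have := hc' _ (by simpa using
              (Subgroup.mem_normalizer_iff.mp (Subgroup.inv_mem _ ha) u).mp hu : a⁻¹ * u * a ∈ U)
            calc u * (a * c * a⁻¹) = a * ((a⁻¹ * u * a) * c) * a⁻¹ := by group
              _ = a * (c * (a⁻¹ * u * a)) * a⁻¹ := by rw [this]
              _ = a * c * a⁻¹ * u := by group) hC hc n hn).2
      -- `N` is generated by `N_N(S₀)` and `p`-elements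
      have hS₀Γ : ∀ z ∈ (S₀ : Subgroup N), (z : G) ∈ Γ := fun z hz => by
        have h1 : (z : G) ∈ (P : Subgroup G) ⊓ N := hS₀ ▸ ⟨_, hz, rfl⟩
        exact ⟨z.2, Chain.single (hP _ (Subgroup.le_normalizer h1.1)) fun x hx => hU hx⟩
      have hpel : ∀ x : N, (∃ j : ℕ, orderOf x = p ^ j) → (x : G) ∈ Γ := by
        intro x hx
        obtain ⟨j, hj⟩ := hx
        have hxp : IsPGroup p (Subgroup.zpowers x) :=
          IsPGroup.of_card (n := j) (by rw [Nat.card_zpowers, hj])
        obtain ⟨S₁, hS₁⟩ := hxp.exists_le_sylow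
        obtain ⟨Q, hQ⟩ := (S₁.isPGroup'.map N.subtype).exists_le_sylow
        have hQN := sylow_inf_eq N S₁ Q hQ
        have hUS₁ : U ≤ (S₁ : Subgroup N).map N.subtype := fun u hu =>
          ⟨⟨u, Subgroup.le_normalizer hu⟩, pCore_le_sylow S₁
            (le_pCore Subgroup.normal_in_normalizer (P.isPGroup'.to_le hU).comap_subtype hu), rfl⟩
        have hUle : U ≤ (P : Subgroup G) ⊓ Q := le_inf hU (hUS₁.trans hQ)
        rcases eq_or_lt_of_le hUle with heq | hlt
        · refine ⟨x.2, Chain.single (htame Q U x heq.symm hUf ?_ x.2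
            ⟨j, by rw [Subgroup.orderOf_coe, hj]⟩ fun hf => by_contra fun hg => hbad ⟨hf, hg⟩)
            subset_rfl⟩
          rw [FullyIn, ← hN, hQN]
          exact not_dvd_relIndex_sylow N S₁
        · obtain ⟨m, hm⟩ := MulAction.exists_smul_eq N S₀ S₁
          have hR : U < (P : Subgroup G) ⊓ Q ⊓ N :=
            sup_lt_normalizer (P.isPGroup'.to_le inf_le_left) hlt
          have hmΓ : (m : G) ∈ Γ := by
            refine hbigΓ _ (inf_le_left.trans inf_le_left) hR _ m.2 ?_
            rintro _ ⟨r, hr, rfl⟩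
            have h1 : r ∈ (S₁ : Subgroup N).map N.subtype := hQN ▸ ⟨hr.1.2, hr.2⟩
            obtain ⟨r', hr', rfl⟩ := h1
            rw [← hm, Sylow.coe_subgroup_smul] at hr'
            obtain ⟨z, hz, rfl⟩ := hr'
            have h2 : (z : G) ∈ (P : Subgroup G) ⊓ N := hS₀ ▸ ⟨_, hz, rfl⟩
            simpa [mul_assoc, MulDistribMulAction.toMonoidEnd_apply] using h2.1
          have hxS : x ∈ ((m • S₀ : Sylow p N) : Subgroup N) := hm ▸ hS₁ (Subgroup.mem_zpowers x)
          rw [Sylow.coe_subgroup_smul] at hxS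
          obtain ⟨z, hz, rfl⟩ := hxS
          have : ((m * z * m⁻¹ : N) : G) ∈ Γ := by
            simpa using Γ.mul_mem (Γ.mul_mem hmΓ (hS₀Γ z hz)) (Γ.inv_mem hmΓ)
          exact this
      intro n hn
      set M : Subgroup N := Subgroup.closure {x : N | ∃ j : ℕ, orderOf x = p ^ j} with hM
      have hMΓ : M.map N.subtype ≤ Γ := by
        rw [MonoidHom.map_closure, Subgroup.closure_le]
        rintro _ ⟨x, hx, rfl⟩
        exact hpel x hx
      haveI : M.Normal := by
        refine ⟨fun x hx a => ?_⟩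
        suffices h : M ≤ M.comap (MulAut.conj a).toMonoidHom from h hx
        rw [hM, Subgroup.closure_le]
        rintro y ⟨j, hj⟩
        exact Subgroup.subset_closure ⟨j, (MulEquiv.orderOf_eq (MulAut.conj a) y).trans hj⟩
      have hS₀M : (S₀ : Subgroup N) ≤ M := fun z hz => by
        obtain ⟨j, hj⟩ := IsPGroup.iff_orderOf.mp S₀.isPGroup' ⟨z, hz⟩
        exact Subgroup.subset_closure ⟨j, (Subgroup.orderOf_coe ⟨z, hz⟩).trans hj⟩
      have htop := Sylow.normalizer_sup_eq_top' S₀ hS₀M
      have hn' : (⟨n, hn⟩ : N) ∈ M ⊔ Subgroup.normalizer ((S₀ : Subgroup N) : Set N) := by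
        rw [sup_comm]
        erw [htop]
        exact Subgroup.mem_top _
      rw [← SetLike.mem_coe, Subgroup.normal_mul] at hn'
      obtain ⟨a, ha, b, hb, hab⟩ := hn'
      have hab' : (a : G) * (b : G) = n := congrArg Subtype.val hab
      refine (hab' ▸ Γ.mul_mem (hMΓ ⟨a, ha, rfl⟩) (hNS₀ _ b.2 ?_) : n ∈ Γ).2
      rw [← hS₀]
      exact Subgroup.le_normalizer_map N.subtype ⟨b, hb, rfl⟩
    -- conclusion
    obtain ⟨z₁, hz₁, hz₁U⟩ := toU T g₀ hT rfl
    obtain ⟨z₂, hz₂, hz₂U⟩ := toU (T.map (MulAut.conj g⁻¹).toMonoidHom) (g⁻¹ * g₀)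
      (le_map_of_rimg_subset hg) (by
        rw [hUdef, Subgroup.map_map]
        congr 1
        ext x
        simp [mul_assoc])
    rw [coe_map_conj_inv] at hz₂ hz₂U
    have hn : z₁⁻¹ * (g * z₂) ∈ N := by
      rw [hN, ← inv_inv (z₁⁻¹ * (g * z₂))]
      refine Subgroup.inv_mem _ ?_
      rw [Subgroup.mem_normalizer_iff]
      intro u
      have h1 : rimg (z₁⁻¹ * (g * z₂)) (U : Set G) = (U : Set G) := by
        calc rimg (z₁⁻¹ * (g * z₂)) (U : Set G)
            = rimg (z₁⁻¹ * (g * z₂)) (rimg z₁ (T : Set G)) := by rw [hz₁U]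
          _ = rimg z₂ (rimg g (T : Set G)) := by
              rw [rimg_rimg, rimg_rimg, mul_inv_cancel_left]
          _ = (U : Set G) := hz₂U
      rw [inv_inv]
      constructor
      · intro hu
        rw [← SetLike.mem_coe, ← h1]
        exact ⟨u, hu, by group⟩
      · intro hu
        rw [← SetLike.mem_coe, ← h1] at hu
        obtain ⟨v, hv, he⟩ := hu
        exact mul_left_cancel (mul_right_cancel he) ▸ hv
    have hfin := hz₁.trans (show Chain step free (rimg z₁ (T : Set G)) (z₁⁻¹ * (g * z₂) * z₂⁻¹) by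
      refine Chain.trans (hz₁U.symm ▸ haut _ hn) ?_
      rw [rimg_rimg, mul_inv_cancel_left, ← rimg_rimg]
      exact hz₂.inv hinv hnorm)
    simpa [mul_assoc] using hfin

omit [Finite G] hp in
theorem rimg_eq (g : G) (A : Set G) : rimg g A = (fun a => g⁻¹ * a * g) '' A := rfl

theorem fullyIn_self (P : Sylow p G) : FullyIn p (P : Subgroup G) (P : Subgroup G) := by
  rw [FullyIn, inf_of_le_left Subgroup.le_normalizer]
  intro h
  exact P.not_dvd_index (h.trans ⟨_, (Subgroup.relIndex_mul_index Subgroup.le_normalizer).symm⟩)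

/-- **Alperin fusion** through tame intersections, with `p`-element factors. -/
theorem alperin_family (P : Sylow p G) (A : Set G) (g : G) (hA : A ⊆ (P : Set G))
    (hg : rimg g A ⊆ (P : Set G)) :
    ∃ (n : ℕ) (Q : Fin n → Sylow p G) (x : Fin n → G), (List.ofFn x).prod = g ∧
      (∀ i, x i ∈ Subgroup.normalizer (((P : Subgroup G) ⊓ Q i : Subgroup G) : Set G) ∧
        FullyIn p (P : Subgroup G) ((P : Subgroup G) ⊓ Q i) ∧
        FullyIn p (Q i : Subgroup G) ((P : Subgroup G) ⊓ Q i) ∧
        ((Q i : Subgroup G) = (P : Subgroup G) ∨ ∃ k : ℕ, orderOf (x i) = p ^ k)) ∧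
      (∀ h : 0 < n, A ⊆ (((P : Subgroup G) ⊓ Q ⟨0, h⟩ : Subgroup G) : Set G)) ∧
      ∀ (i : Fin n) (h : i.val + 1 < n),
        (fun a => (((List.ofFn x).take (i.val + 1)).prod)⁻¹ * a *
          ((List.ofFn x).take (i.val + 1)).prod) '' A ⊆
          (((P : Subgroup G) ⊓ Q ⟨i.val + 1, h⟩ : Subgroup G) : Set G) := by
  have key := chain_of_fusion P (free := False)
    (step := fun D x => x ∈ Subgroup.normalizer (D : Set G) ∧ ∃ Q : Sylow p G,
      (P : Subgroup G) ⊓ Q = D ∧ FullyIn p (P : Subgroup G) D ∧ FullyIn p (Q : Subgroup G) D ∧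
      ((Q : Subgroup G) = (P : Subgroup G) ∨ ∃ k : ℕ, orderOf x = p ^ k))
    (fun D x ⟨hx, Q, h1, h2, h3, h4⟩ =>
      ⟨inv_mem hx, Q, h1, h2, h3, h4.imp id fun ⟨k, hk⟩ => ⟨k, by rw [orderOf_inv, hk]⟩⟩)
    (fun D x h => h.1)
    (fun x hx => ⟨hx, P, inf_idem _, fullyIn_self P, fullyIn_self P, Or.inl rfl⟩)
    (fun Q U x h1 h2 h3 h4 h5 _ => ⟨h4, Q, h1, h2, h3, Or.inr h5⟩) A g hA hg
  obtain ⟨n, D, x, c, -, hc, hgx, hstep, h0, hlt⟩ := key.to_family
  choose hx Q hQ hP hQf hor using hstep
  refine ⟨n, Q, x, by rw [hgx, hc id, one_mul], fun i => ⟨?_, ?_, ?_, hor i⟩, fun h => ?_,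
    fun i h => ?_⟩
  · rw [hQ]; exact hx i
  · rw [hQ]; exact hP i
  · rw [hQ]; exact hQf i
  · rw [hQ]; exact h0 h
  · rw [hQ]; exact hlt i h

/-- Structure of the normalizer of a fully normalized subgroup with the Goldschmidt conditions. -/
theorem good_structure (P : Sylow p G) {D : Subgroup G} (hD : D ≤ (P : Subgroup G))
    (hf : FullyIn p (P : Subgroup G) D) (hg : Good p (P : Subgroup G) D) :
    (Subgroup.centralizer (D : Set G) ≤
      (pPrimePCore p ↥(Subgroup.normalizer (D : Set G))).map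
        (Subgroup.normalizer (D : Set G)).subtype) ∧
    IsInternalDirectProduct
      ((pPrimeCore p ↥(Subgroup.normalizer (D : Set G))).map
        (Subgroup.normalizer (D : Set G)).subtype)
      D
      ((pPrimePCore p ↥(Subgroup.normalizer (D : Set G))).map
        (Subgroup.normalizer (D : Set G)).subtype) := by
  set N := Subgroup.normalizer (D : Set G) with hN
  obtain ⟨S₀, hS₀⟩ : ∃ S₀ : Sylow p N,
      (S₀ : Subgroup N).map N.subtype = (P : Subgroup G) ⊓ N := exists_sylow_of_fully hf
  set U : Subgroup N := D.subgroupOf N with hU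
  haveI hUn : U.Normal := Subgroup.normal_in_normalizer
  have hUp : IsPGroup p U := (P.isPGroup'.to_le hD).comap_subtype
  have hmapU : U.map N.subtype = D :=
    Subgroup.map_subgroupOf_eq_of_le Subgroup.le_normalizer
  have hS₀le : ∀ z : N, z ∈ (S₀ : Subgroup N) → (z : G) ∈ (P : Subgroup G) := fun z hz =>
    (hS₀.le ⟨z, hz, rfl⟩).1
  -- `O_{p'p}(N) = O_{p'}(N) U`
  have hsup : pPrimeCore p ↥N ⊔ U = pPrimePCore p ↥N := by
    refine le_antisymm (sup_le pPrimeCore_le_pPrimePCore
      ((le_pCore hUn hUp).trans pCore_le_pPrimePCore)) ?_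
    obtain ⟨W, hW⟩ := Cfsg.Agent.Transfer.exists_sylow_subgroupOf_normal S₀ (pPrimePCore p ↥N)
    conv_lhs => rw [← sylow_pPrimePCore_sup W, hW, Subgroup.subgroupOf_map_subtype]
    exact sup_le_sup_left (fun z hz => hg.2 ⟨hS₀le z hz.1, z, hz.2, rfl⟩) _
  have hcomm : ∀ a ∈ pPrimeCore p ↥N, ∀ b ∈ U, a * b = b * a := fun a ha b hb =>
    (Subgroup.mem_centralizer_iff.mp (pPrimeCore_le_centralizer_pCore ha) b
      (le_pCore hUn hUp hb)).symm
  refine ⟨?_, ?_, ?_, ?_, ?_, ?_⟩
  · intro c hc
    have hcN : c ∈ N := Subgroup.centralizer_le_normalizer _ hc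
    set C : Subgroup N := Subgroup.centralizer (U : Set N) with hCdef
    haveI : C.Normal := Subgroup.normal_centralizer
    have hcC : (⟨c, hcN⟩ : N) ∈ C := by
      rw [hCdef, Subgroup.mem_centralizer_iff]
      exact fun u hu => Subtype.ext (Subgroup.mem_centralizer_iff.mp hc _ hu)
    obtain ⟨W, hW⟩ := Cfsg.Agent.Transfer.exists_sylow_subgroupOf_normal S₀ C
    set Z : Subgroup C := U.subgroupOf C with hZdef
    have hWZ : (W : Subgroup C) ≤ Z := by
      rw [hW]
      intro w hw
      refine hg.1 ⟨hS₀le _ hw, ?_⟩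
      refine Subgroup.mem_centralizer_iff.mpr ?_
      intro d hd
      exact congrArg Subtype.val
        (Subgroup.mem_centralizer_iff.mp w.2 ⟨d, Subgroup.le_normalizer hd⟩ hd)
    have hZi : Z.index.Coprime p :=
      Nat.Coprime.coprime_dvd_left (Subgroup.index_dvd_of_le hWZ)
        ((Nat.Prime.coprime_iff_not_dvd hp.out).mpr W.not_dvd_index).symm
    have hZc : Z ≤ Subgroup.center C := by
      intro z hz
      rw [Subgroup.mem_center_iff]
      intro w
      exact Subtype.ext (Subgroup.mem_centralizer_iff.mp w.2 _ hz).symm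
    have htop : Z.map (QuotientGroup.mk' (pPrimeCore p C)) = ⊤ :=
      eq_top_of_central_of_coprime_index (hUp.comap_subtype.map _)
        (by
          rintro _ ⟨z, hz, rfl⟩
          rw [Subgroup.mem_center_iff]
          intro y
          obtain ⟨w, rfl⟩ := QuotientGroup.mk'_surjective _ y
          rw [← map_mul, ← map_mul, Subgroup.mem_center_iff.mp (hZc hz) w])
        (Nat.Coprime.coprime_dvd_left
          (Subgroup.index_map_dvd _ (QuotientGroup.mk'_surjective _)) hZi)
        pPrimeCore_quotient_pPrimeCore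
    have h1 : (⊤ : Subgroup C) ≤ Z ⊔ pPrimeCore p C := by
      have h3 := Subgroup.comap_map_eq (QuotientGroup.mk' (pPrimeCore p C)) Z
      rw [htop, Subgroup.comap_top, QuotientGroup.ker_mk'] at h3
      rw [← h3]
    have h2 : C ≤ U ⊔ pPrimeCore p ↥N := by
      calc C = (⊤ : Subgroup C).map C.subtype := by
            rw [← MonoidHom.range_eq_map, Subgroup.range_subtype]
        _ ≤ (Z ⊔ pPrimeCore p C).map C.subtype := Subgroup.map_mono h1
        _ ≤ U ⊔ pPrimeCore p ↥N := by
            rw [Subgroup.map_sup]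
            exact sup_le_sup ((Subgroup.subgroupOf_map_subtype U C).trans_le inf_le_left)
              (map_pPrimeCore_normal_le C)
    refine ⟨⟨c, hcN⟩, ?_, rfl⟩
    rw [← hsup, sup_comm]
    exact h2 hcC
  · exact Subgroup.map_mono pPrimeCore_le_pPrimePCore
  · rw [← hsup, Subgroup.map_sup, hmapU]
    exact le_sup_right
  · rintro _ ⟨a, ha, rfl⟩ b hb
    exact congrArg Subtype.val (hcomm a ha ⟨b, Subgroup.le_normalizer hb⟩ hb)
  · conv_lhs => rw [← hmapU]
    rw [← Subgroup.map_inf _ _ _ N.subtype_injective,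
      inf_comm, inf_eq_bot_of_isPGroup_of_coprime hUp card_pPrimeCore_coprime, Subgroup.map_bot]
  · rw [← hsup, Subgroup.map_sup, hmapU]

/-- **Alperin–Goldschmidt conjugation**. -/
theorem alperin_goldschmidt (P : Sylow p G) (A : Set G) (g : G) (hA : A ⊆ (P : Set G))
    (hg : rimg g A ⊆ (P : Set G)) :
    ∃ (n : ℕ) (D : Fin n → Subgroup G) (x : Fin n → G) (c : G), 0 < n ∧
      (∀ i, D i ≤ (P : Subgroup G)) ∧ (∀ i, x i ∈ Subgroup.normalizer (D i : Set G)) ∧
      (∀ i, FullyIn p (P : Subgroup G) (D i)) ∧ (∀ i, Good p (P : Subgroup G) (D i)) ∧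
      (∀ h : 0 < n, A ⊆ (D ⟨0, h⟩ : Set G)) ∧
      (∀ (j : Fin n) (h : j.val + 1 < n),
        (fun a => (((List.ofFn x).take (j.val + 1)).prod)⁻¹ * a *
          ((List.ofFn x).take (j.val + 1)).prod) '' A ⊆ (D ⟨j.val + 1, h⟩ : Set G)) ∧
      c ∈ Subgroup.centralizer A ∧ g = c * (List.ofFn x).prod := by
  have hgP : Good p (P : Subgroup G) (P : Subgroup G) := ⟨inf_le_left, inf_le_left⟩
  have key := chain_of_fusion P (free := True)
    (step := fun D x => D ≤ (P : Subgroup G) ∧ x ∈ Subgroup.normalizer (D : Set G) ∧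
      FullyIn p (P : Subgroup G) D ∧ Good p (P : Subgroup G) D)
    (fun D x ⟨h1, h2, h3, h4⟩ => ⟨h1, inv_mem h2, h3, h4⟩)
    (fun D x h => h.2.1)
    (fun x hx => ⟨le_rfl, hx, fullyIn_self P, hgP⟩)
    (fun Q U x h1 h2 _ h4 _ h6 => ⟨h1 ▸ inf_le_left, h4, h2, h6 trivial⟩) A g hA hg
  obtain ⟨n, D, x, c, hc, -, hgx, hstep, h0, hlt⟩ := key.to_family
  rcases Nat.eq_zero_or_pos n with hn | hn
  · subst hn
    refine ⟨1, fun _ => (P : Subgroup G), fun _ => 1, c, Nat.one_pos, fun _ => le_rfl,
      fun _ => one_mem _, fun _ => fullyIn_self P, fun _ => hgP, fun _ => hA,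
      fun j h => absurd h (by omega), hc, ?_⟩
    rw [hgx]
    simp
  · exact ⟨n, D, x, c, hn, fun i => (hstep i).1, fun i => (hstep i).2.1, fun i => (hstep i).2.2.1,
      fun i => (hstep i).2.2.2, h0, hlt, hc, hgx⟩

end Cfsg.Agent.Thompson.Alperin
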