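import Mathlib
import Cfsg.Prelude.Def_PLocal
import Cfsg.Agent.Lib.Thompson.QuadApply
import Cfsg.Agent.Lib.Thompson.JSubgroup
import Cfsg.Agent.Lib.Thompson.Factorization
import Cfsg.Agent.Lib.PGroup.Basic

/-!
Quadratic action lemmas, faithful models, and action-`p`-stability for `p`-solvable groups with
`p ≥ 5` and for groups with abelian Sylow `2`-subgroups.
-/

set_option autoImplicit false
set_option linter.unusedVariables false
set_option linter.style.haveILetI false
set_option linter.unusedSectionVars false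

namespace Cfsg.Agent.Thompson

open Cfsg
open scoped commutatorElement

universe u

variable {G : Type*} [Group G] {p : ℕ}

/-- `⟨a⟩` is quadratic as soon as `a` centralizes all `[v, a]`. -/
theorem quadratic_of_comm {V : Subgroup G} {a : G} (h : ∀ v ∈ V, a * ⁅v, a⁆ = ⁅v, a⁆ * a) :
    ⁅⁅V, Subgroup.zpowers a⁆, Subgroup.zpowers a⁆ = ⊥ := by
  rw [Subgroup.commutator_eq_bot_iff_le_centralizer, Subgroup.commutator_le]
  let C := Subgroup.centralizer (Subgroup.zpowers a : Set G)
  let K : Subgroup G :=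
    { carrier := {b | b ∈ Subgroup.zpowers a ∧ ∀ v ∈ V, ⁅v, b⁆ ∈ C}
      one_mem' := ⟨one_mem _, fun v _ => by simp [C]⟩
      mul_mem' := fun {b c} hb hc => ⟨mul_mem hb.1 hc.1, fun v hv => by
        rw [commutatorElement_mul_right_eq_mul_conj]
        have h1 := Subgroup.mem_centralizer_iff.mp (hc.2 v hv) b hb.1
        rw [mul_assoc, mul_assoc, ← mul_assoc b, h1, mul_assoc, mul_inv_cancel, mul_one]
        exact mul_mem (hb.2 v hv) (hc.2 v hv)⟩
      inv_mem' := fun {b} hb => ⟨inv_mem hb.1, fun v hv => by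
        have h1 := Subgroup.mem_centralizer_iff.mp (inv_mem (hb.2 v hv)) _ (inv_mem hb.1)
        have h2 : ⁅v, b⁻¹⁆ = b⁻¹ * ⁅v, b⁆⁻¹ * b := by simp [commutatorElement_def, mul_assoc]
        rw [h2, h1, mul_assoc, inv_mul_cancel, mul_one]
        exact inv_mem (hb.2 v hv)⟩ }
  have hK : Subgroup.zpowers a ≤ K := by
    rw [Subgroup.zpowers_le]
    refine ⟨Subgroup.mem_zpowers a, fun v hv => ?_⟩
    show ⁅v, a⁆ ∈ C
    simp only [C]
    rw [Subgroup.zpowers_eq_closure, Subgroup.centralizer_closure,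
      Subgroup.mem_centralizer_singleton_iff]
    exact (h v hv).symm
  exact fun v hv b hb => (hK hb).2 v hv

theorem quadratic_iff {V : Subgroup G} {a : G} :
    ⁅⁅V, Subgroup.zpowers a⁆, Subgroup.zpowers a⁆ = ⊥ ↔ ∀ v ∈ V, a * ⁅v, a⁆ = ⁅v, a⁆ * a :=
  ⟨fun hq _ hv => quadratic_comm hq hv (Subgroup.mem_zpowers a) (Subgroup.mem_zpowers a),
    quadratic_of_comm⟩

/-- Quadratic action only depends on the induced automorphism. -/
theorem quadratic_congr {V : Subgroup G} {a b : G} (ha : a ∈ Subgroup.normalizer (V : Set G))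
    (hab : ∀ v ∈ V, a * v * a⁻¹ = b * v * b⁻¹)
    (hq : ⁅⁅V, Subgroup.zpowers a⁆, Subgroup.zpowers a⁆ = ⊥) :
    ⁅⁅V, Subgroup.zpowers b⁆, Subgroup.zpowers b⁆ = ⊥ := by
  refine quadratic_of_comm fun v hv => ?_
  have h1 : ⁅v, b⁆ = ⁅v, a⁆ := by
    rw [commutatorElement_def, commutatorElement_def]
    calc v * b * v⁻¹ * b⁻¹ = v * (b * v⁻¹ * b⁻¹) := by group
      _ = v * (a * v⁻¹ * a⁻¹) := by rw [hab _ (V.inv_mem hv)]
      _ = v * a * v⁻¹ * a⁻¹ := by group
  rw [h1]
  have h2 := quadratic_comm hq hv (Subgroup.mem_zpowers a) (Subgroup.mem_zpowers a)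
  have h3 := hab _ (commutatorElement_mem_of_mem_normalizer ha hv)
  rw [h2, mul_inv_cancel_right] at h3
  exact (eq_mul_inv_iff_mul_eq.mp h3).symm

theorem quadratic_map {G' : Type*} [Group G'] (f : G →* G') {V : Subgroup G} {a : G}
    (hq : ⁅⁅V, Subgroup.zpowers a⁆, Subgroup.zpowers a⁆ = ⊥) :
    ⁅⁅V.map f, Subgroup.zpowers (f a)⁆, Subgroup.zpowers (f a)⁆ = ⊥ := by
  rw [← MonoidHom.map_zpowers, ← Subgroup.map_commutator, ← Subgroup.map_commutator, hq,
    Subgroup.map_bot]

theorem quadratic_of_map {G' : Type*} [Group G'] (f : G →* G') (hf : Function.Injective f)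
    {V : Subgroup G} {a : G}
    (hq : ⁅⁅V.map f, Subgroup.zpowers (f a)⁆, Subgroup.zpowers (f a)⁆ = ⊥) :
    ⁅⁅V, Subgroup.zpowers a⁆, Subgroup.zpowers a⁆ = ⊥ := by
  rw [← MonoidHom.map_zpowers, ← Subgroup.map_commutator, ← Subgroup.map_commutator,
    Subgroup.map_eq_bot_iff_of_injective _ hf] at hq
  exact hq

theorem quadratic_conj {V : Subgroup G} [V.Normal] {a : G} (g : G)
    (hq : ⁅⁅V, Subgroup.zpowers a⁆, Subgroup.zpowers a⁆ = ⊥) :
    ⁅⁅V, Subgroup.zpowers (g * a * g⁻¹)⁆, Subgroup.zpowers (g * a * g⁻¹)⁆ = ⊥ := by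
  have hV : V.map (MulAut.conj g).toMonoidHom = V := by
    ext x
    constructor
    · rintro ⟨v, hv, rfl⟩
      exact ‹V.Normal›.conj_mem v hv g
    · intro hx
      exact ⟨g⁻¹ * x * g, by simpa using ‹V.Normal›.conj_mem x hx g⁻¹, by simp [mul_assoc]⟩
  have h := quadratic_map (MulAut.conj g).toMonoidHom hq
  rw [hV] at h
  exact h

/-- The faithful group `G / C_G(V)` acting on `V`, inside a semidirect product. -/
theorem exists_faithful_model {G : Type u} [Group G] [Finite G] (V : Subgroup G) [V.Normal]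
    (hV : IsElementaryAbelian p V) :
    ∃ (Γ : Type u) (_ : Group Γ) (_ : Finite Γ) (V' : Subgroup Γ)
      (e : G ⧸ Subgroup.centralizer (V : Set G) →* Γ), Function.Injective e ∧
      IsElementaryAbelian p V' ∧ e.range ≤ Subgroup.normalizer (V' : Set Γ) ∧
      e.range ⊓ Subgroup.centralizer (V' : Set Γ) = ⊥ ∧
      ∀ a : G, ⁅⁅V, Subgroup.zpowers a⁆, Subgroup.zpowers a⁆ = ⊥ →
        ⁅⁅V', Subgroup.zpowers (e (QuotientGroup.mk a))⁆,
          Subgroup.zpowers (e (QuotientGroup.mk a))⁆ = ⊥ := by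
  haveI : (Subgroup.centralizer (V : Set G)).Normal := Subgroup.normal_centralizer
  let φ : G ⧸ Subgroup.centralizer (V : Set G) →* MulAut V :=
    QuotientGroup.lift _ MulAut.conjNormal (by
      intro g hg
      refine MonoidHom.mem_ker.mpr (MulEquiv.ext fun v => Subtype.ext ?_)
      show ((MulAut.conjNormal g v : V) : G) = v
      rw [MulAut.conjNormal_apply, ← Subgroup.mem_centralizer_iff.mp hg v v.2,
        mul_inv_cancel_right])
  have hφ : ∀ (a : G) (v : V), ((φ (QuotientGroup.mk a) v : V) : G) = a * v * a⁻¹ := fun a v =>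
    MulAut.conjNormal_apply a v
  let Γ := SemidirectProduct V (G ⧸ Subgroup.centralizer (V : Set G)) φ
  haveI : Finite Γ := Finite.of_injective (fun x : Γ => (x.left, x.right)) fun x y h =>
    SemidirectProduct.ext (Prod.ext_iff.mp h).1 (Prod.ext_iff.mp h).2
  have hconj : ∀ (q : G ⧸ Subgroup.centralizer (V : Set G)) (v : V),
      (SemidirectProduct.inr q : Γ) * SemidirectProduct.inl v * (SemidirectProduct.inr q)⁻¹ =
        SemidirectProduct.inl (φ q v) := fun q v => by
    rw [SemidirectProduct.inl_aut, map_inv]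
  refine ⟨Γ, inferInstance, inferInstance, (SemidirectProduct.inl : V →* Γ).range,
    SemidirectProduct.inr, SemidirectProduct.inr_injective, ?_, ?_, ?_, ?_⟩
  · rw [MonoidHom.range_eq_map]
    refine isElementaryAbelian_map _ ⟨⟨⟨?_⟩⟩, ?_⟩
    · rintro ⟨x, -⟩ ⟨y, -⟩
      exact Subtype.ext (Subtype.ext (elemAb_comm hV.1 x.2 y.2))
    · exact fun x _ => Subtype.ext (hV.2 x x.2)
  · rintro _ ⟨q, rfl⟩
    rw [Subgroup.mem_normalizer_iff]
    intro z
    constructor
    · rintro ⟨v, rfl⟩
      exact ⟨φ q v, (hconj q v).symm⟩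
    · rintro ⟨v, hv⟩
      refine ⟨φ q⁻¹ v, ?_⟩
      rw [← hconj, hv, map_inv]
      group
  · rw [eq_bot_iff]
    rintro _ ⟨⟨q, rfl⟩, hq⟩
    obtain ⟨a, rfl⟩ := QuotientGroup.mk'_surjective _ q
    rw [Subgroup.mem_bot, QuotientGroup.mk'_apply,
      (QuotientGroup.eq_one_iff a).mpr (Subgroup.mem_centralizer_iff.mpr fun v hv => ?_), map_one]
    have h1 := Subgroup.mem_centralizer_iff.mp hq _ ⟨⟨v, hv⟩, rfl⟩
    have h2 := hconj (QuotientGroup.mk a) ⟨v, hv⟩
    rw [QuotientGroup.mk'_apply] at h1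
    rw [← h1, mul_inv_cancel_right] at h2
    have h3 := congrArg Subtype.val (SemidirectProduct.inl_injective h2)
    rw [hφ] at h3
    exact eq_mul_inv_iff_mul_eq.mp h3
  · intro a hq
    refine quadratic_of_comm ?_
    rintro _ ⟨v, rfl⟩
    have hw : ⁅(SemidirectProduct.inl v : Γ),
        (SemidirectProduct.inr (QuotientGroup.mk a) : Γ)⁆ =
        SemidirectProduct.inl (v * φ (QuotientGroup.mk a) v⁻¹) := by
      rw [map_mul, ← hconj, commutatorElement_def, map_inv]
      group
    rw [hw]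
    refine mul_inv_eq_iff_eq_mul.mp ((hconj _ _).trans (congrArg _ (Subtype.ext ?_)))
    rw [hφ]
    have e : ((v * φ (QuotientGroup.mk a) v⁻¹ : V) : G) = ⁅(v : G), a⁆ := by
      rw [Subgroup.coe_mul, hφ, Subgroup.coe_inv, commutatorElement_def]
      group
    rw [e, quadratic_comm hq v.2 (Subgroup.mem_zpowers a) (Subgroup.mem_zpowers a),
      mul_inv_cancel_right]

section Stable

variable {G : Type u} [Group G] [Finite G] [hp : Fact p.Prime]

theorem isPStableOn_of_pSolvable (h5 : 5 ≤ p) (hsep : IsPSolvable p G) (V : Subgroup G) [V.Normal]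
    (hV : IsElementaryAbelian p V) : IsPStableOn p V := by
  intro a hq
  by_contra hna
  obtain ⟨Γ, _, _, V', e, he, hV', hN, hf, hquad⟩ := exists_faithful_model V hV
  have hH : IsPSolvable p e.range :=
    isPSolvable_of_surjective e.rangeRestrict (MonoidHom.rangeRestrict_surjective e)
      (isPSolvable_quotient _ hsep)
  have := (sl_two_three_of_pSolvable (by omega) V' e.range hV' hN hf hH ⟨_, rfl⟩ (hquad a hq) ?_).1
  · omega
  · rintro ⟨⟨_, q, rfl⟩, hy, hye⟩
    refine hna ?_
    have hq2 : q = QuotientGroup.mk a := he hye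
    subst hq2
    rw [← map_pCore_equiv (MonoidHom.ofInjective he)] at hy
    obtain ⟨z, hz, hze⟩ := hy
    have hz2 : z = QuotientGroup.mk a := he (congrArg Subtype.val hze)
    exact hz2 ▸ hz

theorem sylow_two_comm_of_surjective {G' : Type*} [Group G'] (f : G →* G')
    (hf : Function.Surjective f) (hab : ∀ T : Sylow 2 G, IsMulCommutative T) (T : Sylow 2 G') :
    IsMulCommutative T := by
  obtain ⟨S, rfl⟩ := Sylow.mapSurjective_surjective hf 2 T
  refine Subgroup.le_centralizer_iff_isMulCommutative.mp ?_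
  rw [Sylow.coe_mapSurjective]
  rintro _ ⟨x, hx, rfl⟩
  rw [Subgroup.mem_centralizer_iff]
  rintro _ ⟨y, hy, rfl⟩
  rw [← map_mul, ← map_mul, elemAb_comm (hab S) hy hx]

theorem isPStableOn_of_abelian_sylow_two (hp2 : p ≠ 2)
    (hab : ∀ T : Sylow 2 G, IsMulCommutative T) (V : Subgroup G) [V.Normal]
    (hV : IsElementaryAbelian p V) : IsPStableOn p V := by
  intro a hq
  by_contra hna
  obtain ⟨Γ, _, _, V', e, he, hV', hN, hf, hquad⟩ := exists_faithful_model V hV
  obtain ⟨T⟩ : Nonempty (Sylow 2 e.range) := inferInstance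
  refine sylow_two_nonabelian_of_not_stable hp2 V' e.range hV' hN hf ⟨_, rfl⟩ (hquad a hq) ?_ T
    (sylow_two_comm_of_surjective
      (e.rangeRestrict.comp (QuotientGroup.mk' (Subgroup.centralizer (V : Set G))))
      ((MonoidHom.rangeRestrict_surjective e).comp (QuotientGroup.mk'_surjective _)) hab T)
  rintro ⟨⟨_, q, rfl⟩, hy, hye⟩
  refine hna ?_
  have hq2 : q = QuotientGroup.mk a := he hye
  subst hq2
  rw [← map_pCore_equiv (MonoidHom.ofInjective he)] at hy
  obtain ⟨z, hz, hze⟩ := hy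
  have hz2 : z = QuotientGroup.mk a := he (congrArg Subtype.val hze)
  exact hz2 ▸ hz

/-- Action `p`-stability from stability on all elementary abelian normal subgroups of sections. -/
theorem isActionPStable_of (h1 : ∀ (V : Subgroup G) [V.Normal], IsElementaryAbelian p V →
      IsPStableOn p V)
    (h2 : ∀ (N : Subgroup G) [N.Normal] (V : Subgroup (G ⧸ N)) [V.Normal],
      IsElementaryAbelian p V → IsPStableOn p V)
    (h3 : ∀ (N : Subgroup G) (V : Subgroup N) [V.Normal], IsElementaryAbelian p V →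
      IsPStableOn p V) : IsActionPStable p G := by
  refine ⟨h1, ?_, fun S V _ hle => h3 _ V ?_⟩
  · intro a hq
    set O := pCore p G with hO
    set Φ := (frattini ↥O).map O.subtype with hΦ
    have hOp : IsPGroup p O := isPGroup_pCore
    set π := QuotientGroup.mk' Φ with hπ
    haveI : (O.map π).Normal :=
      (inferInstance : O.Normal).map π (QuotientGroup.mk'_surjective Φ)
    have hEA : IsElementaryAbelian p (O.map π) := by
      refine ⟨Subgroup.le_centralizer_iff_isMulCommutative.mp ?_, ?_⟩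
      · rintro _ ⟨x, hx, rfl⟩
        rw [Subgroup.mem_centralizer_iff]
        rintro _ ⟨y, hy, rfl⟩
        rw [← commutatorElement_eq_one_iff_mul_comm, ← map_commutatorElement,
          hπ, QuotientGroup.mk'_apply, QuotientGroup.eq_one_iff]
        exact ⟨⁅⟨y, hy⟩, ⟨x, hx⟩⁆, PGroup.comm_mem_frattini hOp _ _, rfl⟩
      · rintro _ ⟨x, hx, rfl⟩
        rw [← map_pow, hπ, QuotientGroup.mk'_apply, QuotientGroup.eq_one_iff]
        exact ⟨⟨x, hx⟩ ^ p, PGroup.pow_mem_frattini hOp _, rfl⟩
    have hqb : ⁅⁅O.map π, Subgroup.zpowers (π a)⁆, Subgroup.zpowers (π a)⁆ = ⊥ := by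
      rw [← MonoidHom.map_zpowers, ← Subgroup.map_commutator, ← Subgroup.map_commutator,
        Subgroup.map_eq_bot_iff, hπ, QuotientGroup.ker_mk']
      exact hq
    have hst := h2 Φ (O.map π) hEA (π a) hqb
    set C := Subgroup.centralizer ((O.map π : Subgroup (G ⧸ Φ)) : Set (G ⧸ Φ)) with hC
    haveI : C.Normal := Subgroup.normal_centralizer
    refine ⟨((pCore p ((G ⧸ Φ) ⧸ C)).comap (QuotientGroup.mk' C)).comap π, inferInstance, ?_, ?_,
      hst⟩
    · refine Subgroup.comap_mono fun x hx => ?_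
      show QuotientGroup.mk' C x ∈ pCore p _
      rw [QuotientGroup.mk'_apply, (QuotientGroup.eq_one_iff x).mpr hx]
      exact one_mem _
    · obtain ⟨k, hk⟩ := IsPGroup.iff_card.mp (isPGroup_pCore (p := p) (G := (G ⧸ Φ) ⧸ C))
      refine ⟨k, ?_⟩
      rw [sectionKernel, Subgroup.relIndex_comap, Subgroup.map_comap_eq_self_of_surjective
        (QuotientGroup.mk'_surjective Φ)]
      have key : ((⊥ : Subgroup ((G ⧸ Φ) ⧸ C)).comap (QuotientGroup.mk' C)).relIndex
          ((pCore p ((G ⧸ Φ) ⧸ C)).comap (QuotientGroup.mk' C)) = p ^ k := by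
        rw [Subgroup.relIndex_comap, Subgroup.map_comap_eq_self_of_surjective
          (QuotientGroup.mk'_surjective C), Subgroup.relIndex_bot_left, hk]
      rw [MonoidHom.comap_bot, QuotientGroup.ker_mk'] at key
      exact key
  · have hT : IsElementaryAbelian p
        ((omegaCenterThompson p ↥(S : Subgroup G)).map (S : Subgroup G).subtype) :=
      isElementaryAbelian_map _ (isElementaryAbelian_omegaOne
        (isMulCommutative_inf_centralizer_self _))
    exact (isElementaryAbelian_iff_of_injective (Subgroup.subtype_injective _)).mp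
      (isElementaryAbelian_of_le hT hle)

theorem isActionPStable_of_pSolvable (h5 : 5 ≤ p) (hsep : IsPSolvable p G) :
    IsActionPStable p G :=
  isActionPStable_of (fun V _ hV => isPStableOn_of_pSolvable h5 hsep V hV)
    (fun N _ V _ hV => isPStableOn_of_pSolvable h5 (isPSolvable_quotient N hsep) V hV)
    (fun N V _ hV => isPStableOn_of_pSolvable h5 (isPSolvable_subgroup N hsep) V hV)

theorem isActionPStable_of_abelian_sylow_two (hp2 : p ≠ 2)
    (hab : ∀ T : Sylow 2 G, IsMulCommutative T) : IsActionPStable p G :=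
  isActionPStable_of (fun V _ hV => isPStableOn_of_abelian_sylow_two hp2 hab V hV)
    (fun N _ V _ hV => isPStableOn_of_abelian_sylow_two hp2
      (sylow_two_comm_of_surjective _ (QuotientGroup.mk'_surjective N) hab) V hV)
    (fun N V _ hV => isPStableOn_of_abelian_sylow_two hp2
      (fun T => isMulCommutative_sylow_of_injective N.subtype N.subtype_injective
        (Classical.arbitrary (Sylow 2 G)) (hab _) T) V hV)

end Stable

end Cfsg.Agent.Thompson
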