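import Mathlib
import Cfsg.Prelude.Def_PLocal
import Cfsg.Agent.Lib.Thompson.Stable
import Cfsg.Agent.Lib.Thompson.Replacement
import Cfsg.Agent.Lib.Coprime.Action
import Cfsg.Agent.Lib.PComplement.Reduction

/-!
The stable normal closure `W(S)` of `Ω₁(Z(S))`, the `ZJ`-analogue and its consequences.
-/

set_option autoImplicit false
set_option linter.unusedVariables false
set_option linter.style.haveILetI false
set_option linter.unusedSectionVars false

namespace Cfsg.Agent.Thompson

open Cfsg
open scoped commutatorElement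

universe u

variable {p : ℕ}

theorem omegaOne_normal {G : Type*} [Group G] (K : Subgroup G) [hK : K.Normal] :
    (omegaOne p K).Normal := by
  refine ⟨fun x hx g => ?_⟩
  suffices h : omegaOne p K ≤ (omegaOne p K).comap (MulAut.conj g).toMonoidHom from h hx
  refine (Subgroup.closure_le _).mpr fun y hy => ?_
  exact Subgroup.subset_closure ⟨hK.conj_mem y hy.1 g, by
    show (MulAut.conj g y) ^ p = 1
    rw [← map_pow, hy.2, map_one]⟩

theorem map_omegaCenterThompson {S : Type*} [Group S] {H : Type*} [Group H] (τ : S →* H)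
    (hτ : Function.Injective τ) :
    (omegaCenterThompson p S).map τ = omegaOne p ((thompsonSubgroup p S).map τ ⊓
      Subgroup.centralizer (((thompsonSubgroup p S).map τ : Subgroup H) : Set H)) := by
  rw [omegaCenterThompson, map_omegaOne τ _ hτ.injOn, map_inf_centralizer_of_injOn τ _ hτ.injOn]

theorem omegaCenter_le_omegaCenterThompson {S : Type*} [Group S] [Finite S] :
    omegaOne p (Subgroup.center S) ≤ omegaCenterThompson p S := by
  refine (Subgroup.closure_le _).mpr fun x hx => ?_
  have hc : x ∈ Subgroup.centralizer (thompsonSubgroup p S : Set S) :=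
    Subgroup.mem_centralizer_iff.mpr fun y _ => Subgroup.mem_center_iff.mp hx.1 y
  exact mem_omegaOne ⟨mem_thompsonSubgroup_of_centralizes hc hx.2, hc⟩ hx.2

theorem isElementaryAbelian_omegaCenterThompson {S : Type*} [Group S] :
    IsElementaryAbelian p (omegaCenterThompson p S) :=
  isElementaryAbelian_omegaOne (isMulCommutative_inf_centralizer_self _)

section W

variable {S : Type u} [Group S] [Finite S]

theorem omegaCenterThompson_mem :
    omegaOne p (Subgroup.center S) ≤ omegaCenterThompson p S ∧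
      ∀ (H : Type u) [Group H] (τ : S →* H), IsStableEmbedding p τ →
        ((omegaCenterThompson p S).map τ).Normal := by
  refine ⟨omegaCenter_le_omegaCenterThompson, fun H _ τ hτ => ?_⟩
  rw [map_omegaCenterThompson τ hτ.1]
  haveI := hτ.2.2.2.2.1
  exact omegaOne_normal _

theorem stableNormalClosure_le : stableNormalClosure p S ≤ omegaCenterThompson p S :=
  sInf_le omegaCenterThompson_mem

theorem omegaCenter_le_stableNormalClosure :
    omegaOne p (Subgroup.center S) ≤ stableNormalClosure p S :=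
  le_sInf fun _ hW => hW.1

theorem stableNormalClosure_map_normal {H : Type u} [Group H] (τ : S →* H)
    (hτ : IsStableEmbedding p τ) : ((stableNormalClosure p S).map τ).Normal := by
  refine ⟨?_⟩
  rintro _ ⟨w, hw, rfl⟩ h
  obtain ⟨w₀, hw₀, he₀⟩ := (omegaCenterThompson_mem.2 H τ hτ).conj_mem _
    ⟨w, stableNormalClosure_le hw, rfl⟩ h
  refine ⟨w₀, Subgroup.mem_sInf.mpr fun W hW => ?_, he₀⟩
  obtain ⟨w₁, hw₁, he₁⟩ := (hW.2 H τ hτ).conj_mem _ ⟨w, Subgroup.mem_sInf.mp hw W hW, rfl⟩ h
  exact hτ.1 (he₁.trans he₀.symm) ▸ hw₁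

theorem map_omegaCenterThompson_equiv {S' : Type*} [Group S'] (η : S ≃* S') :
    (omegaCenterThompson p S).map η.toMonoidHom = omegaCenterThompson p S' := by
  rw [map_omegaCenterThompson _ η.injective, map_thompsonSubgroup_equiv, omegaCenterThompson]

theorem stableEmbedding_comp {S' : Type u} [Group S'] (η : S ≃* S') {H : Type u} [Group H]
    {τ : S' →* H} (hτ : IsStableEmbedding p τ) : IsStableEmbedding p (τ.comp η.toMonoidHom) := by
  obtain ⟨h1, h2, ⟨P, hP⟩, h4, h5, h6⟩ := hτ
  refine ⟨h1.comp η.injective, h2, ⟨P, ?_⟩, h4, ?_, fun V _ hV => h6 V ?_⟩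
  · rw [hP]
    ext x
    constructor
    · rintro ⟨s, rfl⟩; exact ⟨η.symm s, by simp⟩
    · rintro ⟨s, rfl⟩; exact ⟨η s, rfl⟩
  · rw [← Subgroup.map_map, map_thompsonSubgroup_equiv]
    exact h5
  · rw [← map_omegaCenterThompson_equiv η, Subgroup.map_map]
    exact hV

theorem stableNormalClosure_le_map {S' : Type u} [Group S'] [Finite S'] (η : S ≃* S') :
    stableNormalClosure p S' ≤ (stableNormalClosure p S).map η.toMonoidHom := by
  refine sInf_le ⟨?_, fun H _ τ hτ => ?_⟩
  · refine (Subgroup.closure_le _).mpr fun x hx => ?_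
    refine ⟨η.symm x, omegaCenter_le_stableNormalClosure (mem_omegaOne ?_ ?_),
      η.apply_symm_apply x⟩
    · rw [Subgroup.mem_center_iff]
      intro y
      apply η.injective
      simp [Subgroup.mem_center_iff.mp hx.1 (η y)]
    · rw [← map_pow, hx.2, map_one]
  · rw [Subgroup.map_map]
    exact stableNormalClosure_map_normal _ (stableEmbedding_comp η hτ)

theorem map_stableNormalClosure_equiv {S' : Type u} [Group S'] [Finite S'] (η : S ≃* S') :
    (stableNormalClosure p S).map η.toMonoidHom = stableNormalClosure p S' := by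
  refine le_antisymm ?_ (stableNormalClosure_le_map η)
  refine (Subgroup.map_mono (stableNormalClosure_le_map (p := p) η.symm)).trans_eq ?_
  rw [Subgroup.map_map]
  ext x
  simp

instance stableNormalClosure_characteristic : (stableNormalClosure p S).Characteristic :=
  Subgroup.characteristic_iff_map_eq.mpr fun φ => map_stableNormalClosure_equiv φ

theorem isElementaryAbelian_stableNormalClosure :
    IsElementaryAbelian p (stableNormalClosure p S) :=
  isElementaryAbelian_of_le isElementaryAbelian_omegaCenterThompson stableNormalClosure_le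

theorem stableNormalClosure_ne_bot [Fact p.Prime] (hS : IsPGroup p S) [Nontrivial S] :
    stableNormalClosure p S ≠ ⊥ := by
  intro hb
  have h1 : omegaOne p (Subgroup.center S) = ⊥ :=
    le_bot_iff.mp (hb ▸ omegaCenter_le_stableNormalClosure)
  haveI := hS.center_nontrivial
  exact omegaOne_ne_bot (hS.to_subgroup _) ((Subgroup.nontrivial_iff_ne_bot _).mp this) h1

/-- No element acts quadratically and nontrivially on `W(S)`. -/
theorem stableNormalClosure_centralizes [hp : Fact p.Prime] {x : S}
    (hq : ⁅⁅stableNormalClosure p S, Subgroup.zpowers x⁆, Subgroup.zpowers x⁆ = ⊥) :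
    stableNormalClosure p S ≤ Subgroup.centralizer (Subgroup.zpowers x : Set S) := by
  let 𝒬 : Set S :=
    {y : S | ⁅⁅stableNormalClosure p S, Subgroup.zpowers y⁆, Subgroup.zpowers y⁆ = ⊥}
  suffices h : stableNormalClosure p S ≤ stableNormalClosure p S ⊓ Subgroup.centralizer 𝒬 by
    intro w hw
    rw [Subgroup.zpowers_eq_closure, Subgroup.centralizer_closure,
      Subgroup.mem_centralizer_singleton_iff]
    exact (Subgroup.mem_centralizer_iff.mp (h hw).2 x hq).symm
  refine sInf_le ⟨le_inf omegaCenter_le_stableNormalClosure ?_, fun H _ τ hτ => ⟨?_⟩⟩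
  · exact fun z hz => Subgroup.mem_centralizer_iff.mpr fun y _ =>
      Subgroup.mem_center_iff.mp (omegaOne_le p _ hz) y
  rintro _ ⟨v, hv, rfl⟩ h
  haveI hWn := stableNormalClosure_map_normal τ hτ
  obtain ⟨w, hw, hwe⟩ := hWn.conj_mem _ ⟨v, hv.1, rfl⟩ h
  refine ⟨w, ⟨hw, Subgroup.mem_centralizer_iff.mpr fun y hy => hτ.1 ?_⟩, hwe⟩
  haveI : Finite H := hτ.2.1
  have hb : ⁅⁅(stableNormalClosure p S).map τ, Subgroup.zpowers (h⁻¹ * τ y * h)⁆,
      Subgroup.zpowers (h⁻¹ * τ y * h)⁆ = ⊥ := by
    simpa using quadratic_conj h⁻¹ (quadratic_map τ hy)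
  have hst := hτ.2.2.2.2.2 ((stableNormalClosure p S).map τ)
    (Subgroup.map_mono stableNormalClosure_le) _ hb
  obtain ⟨P, hP⟩ := hτ.2.2.1
  set C := Subgroup.centralizer (((stableNormalClosure p S).map τ : Subgroup H) : Set H) with hC
  have h1 := pCore_le_sylow (P.mapSurjective (QuotientGroup.mk'_surjective C)) hst
  rw [Sylow.coe_mapSurjective, hP] at h1
  obtain ⟨_, ⟨z, rfl⟩, hze⟩ := h1
  have hc : (τ z)⁻¹ * (h⁻¹ * τ y * h) ∈ C := QuotientGroup.eq.mp hze
  have hsame : ∀ u ∈ (stableNormalClosure p S).map τ,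
      (h⁻¹ * τ y * h) * u * (h⁻¹ * τ y * h)⁻¹ = τ z * u * (τ z)⁻¹ := by
    intro u hu
    have h2 := Subgroup.mem_centralizer_iff.mp hc u hu
    calc (h⁻¹ * τ y * h) * u * (h⁻¹ * τ y * h)⁻¹
        = τ z * (((τ z)⁻¹ * (h⁻¹ * τ y * h)) * u) * (h⁻¹ * τ y * h)⁻¹ := by group
      _ = τ z * (u * ((τ z)⁻¹ * (h⁻¹ * τ y * h))) * (h⁻¹ * τ y * h)⁻¹ := by rw [h2]
      _ = τ z * u * (τ z)⁻¹ := by group
  have hz : z ∈ 𝒬 := quadratic_of_map τ hτ.1
    (quadratic_congr (by rw [Subgroup.normalizer_eq_top_iff.mpr hWn]; trivial) hsame hb)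
  have hzv : τ z * τ v = τ v * τ z := by
    rw [← map_mul, ← map_mul, Subgroup.mem_centralizer_iff.mp hv.2 z hz]
  have h3 := hsame (τ v) ⟨v, hv.1, rfl⟩
  rw [hzv, mul_inv_cancel_right] at h3
  rw [map_mul, map_mul, hwe]
  calc τ y * (h * τ v * h⁻¹)
      = h * ((h⁻¹ * τ y * h) * τ v * (h⁻¹ * τ y * h)⁻¹) * (h⁻¹ * τ y * h) * h⁻¹ := by group
    _ = h * τ v * (h⁻¹ * τ y * h) * h⁻¹ := by rw [h3]
    _ = h * τ v * h⁻¹ * τ y := by group

end W

/-- `W(P)` for a subgroup `P ≤ G`, inside `G`. -/
def wOf (p : ℕ) {G : Type u} [Group G] (P : Subgroup G) : Subgroup G :=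
  (stableNormalClosure p ↥P).map P.subtype

section WOf

variable {G : Type u} [Group G] [Finite G]

theorem wOf_le (P : Subgroup G) : wOf p P ≤ P := Subgroup.map_subtype_le _

theorem wOf_map {G' : Type u} [Group G'] [Finite G'] (f : G →* G') (P : Subgroup G)
    (hf : Set.InjOn f P) : (wOf p P).map f = wOf p (P.map f) := by
  have hinj : Function.Injective (f.subgroupMap P) := fun x y h =>
    Subtype.ext (hf x.2 y.2 (congrArg Subtype.val h))
  let e : P ≃* P.map f :=
    MulEquiv.ofBijective (f.subgroupMap P) ⟨hinj, f.subgroupMap_surjective P⟩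
  rw [wOf, wOf, ← map_stableNormalClosure_equiv (p := p) e, Subgroup.map_map, Subgroup.map_map]
  rfl

theorem normalizer_le_normalizer_wOf (P : Subgroup G) :
    Subgroup.normalizer (P : Set G) ≤ Subgroup.normalizer (wOf p P : Set G) := by
  intro g hg
  have hmap : P.map (MulAut.conj g).toMonoidHom = P := by
    ext x
    constructor
    · rintro ⟨y, hy, rfl⟩; exact (Subgroup.mem_normalizer_iff.mp hg y).mp hy
    · intro hx
      exact ⟨g⁻¹ * x * g, (Subgroup.mem_normalizer_iff.mp hg _).mpr
        (by simpa [mul_assoc] using hx), by simp [mul_assoc]⟩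
  have h2 := wOf_map (p := p) (MulAut.conj g).toMonoidHom P (MulAut.conj g).injective.injOn
  rw [hmap] at h2
  rw [Subgroup.mem_normalizer_iff]
  intro x
  constructor
  · intro hx; rw [← h2]; exact ⟨x, hx, rfl⟩
  · intro hx
    rw [← h2] at hx
    obtain ⟨y, hy, hxy⟩ := hx
    exact (MulAut.conj g).injective hxy ▸ hy

theorem wOf_ne_bot [Fact p.Prime] {P : Subgroup G} (hP : IsPGroup p P) (hne : P ≠ ⊥) :
    wOf p P ≠ ⊥ := by
  haveI := (Subgroup.nontrivial_iff_ne_bot P).mpr hne
  rw [wOf, Ne, Subgroup.map_eq_bot_iff_of_injective _ P.subtype_injective]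
  exact stableNormalClosure_ne_bot hP

variable [hp : Fact p.Prime]

/-- The kernel of the action on `O_p(G)/Φ` is a `p`-group when `C(O_p(G)) ≤ O_p(G)`. -/
theorem isPGroup_sectionKernel
    (hc : Subgroup.centralizer (pCore p G : Set G) ≤ pCore p G) :
    IsPGroup p (sectionKernel (pCore p G) ((frattini ↥(pCore p G)).map (pCore p G).subtype)) := by
  set O := pCore p G with hO
  have hOp : IsPGroup p O := isPGroup_pCore
  intro x
  obtain ⟨e, m, hm, he⟩ := Nat.exists_eq_pow_mul_and_not_dvd (orderOf_pos (x : G)).ne' p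
    hp.out.ne_one
  set g : G := (x : G) ^ p ^ e with hg
  have hgm : (orderOf g).Coprime p :=
    Nat.Coprime.coprime_dvd_left
      (orderOf_dvd_of_pow_eq_one (by rw [hg, ← pow_mul, ← he, pow_orderOf_eq_one]))
      ((hp.out.coprime_iff_not_dvd.mpr hm).symm)
  refine ⟨e, Subtype.ext ?_⟩
  show g = 1
  have hgK := pow_mem x.2 (p ^ e)
  rw [← hg] at hgK
  obtain ⟨k, hk⟩ := IsPGroup.iff_card.mp (hOp.to_subgroup (frattini O))
  have hcent : Subgroup.zpowers g ≤ Subgroup.centralizer (O : Set G) := by
    refine Cfsg.Agent.Coprime.le_centralizer_of_frattini _ _ Subgroup.le_normalizer_of_normal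
      ?_ ?_
    · rw [Nat.card_zpowers, hk]
      exact hgm.pow_right k
    · intro a ha u hu
      have haK := (Subgroup.zpowers_le.mpr hgK) ha
      have h1 := Subgroup.mem_centralizer_iff.mp haK _ ⟨u, hu, rfl⟩
      refine (QuotientGroup.eq_one_iff _).mp ?_
      show QuotientGroup.mk' _ (a * u * a⁻¹ * u⁻¹) = 1
      rw [map_mul, map_mul, map_mul, map_inv, map_inv, ← h1, mul_inv_cancel_right, mul_inv_cancel]
  obtain ⟨j, hj⟩ := hOp ⟨g, hc (hcent (Subgroup.mem_zpowers g))⟩
  have h2 : g ^ p ^ j = 1 := congrArg Subtype.val hj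
  exact pow_eq_one_iff_of_coprime_aux (hgm.symm.pow_left j) h2 (pow_orderOf_eq_one g)

/-- **The `ZJ`-analogue for `W(S)`.** -/
theorem wOf_normal_of_stable (hst : IsActionPStable p G)
    (hc : Subgroup.centralizer (pCore p G : Set G) ≤ pCore p G) (S : Sylow p G) :
    (wOf p (S : Subgroup G)).Normal := by
  set Ws := wOf p (S : Subgroup G) with hWs
  set O := pCore p G with hO
  have hWS : Ws ≤ S := wOf_le _
  have hSW : (S : Subgroup G) ≤ Subgroup.normalizer (Ws : Set G) :=
    Subgroup.le_normalizer.trans (normalizer_le_normalizer_wOf _)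
  have hWea : IsElementaryAbelian p Ws :=
    isElementaryAbelian_map _ isElementaryAbelian_stableNormalClosure
  have hWab : ⁅Ws, Ws⁆ = ⊥ := Subgroup.commutator_eq_bot_iff_le_centralizer.mpr
    (Subgroup.le_centralizer_iff_isMulCommutative.mpr hWea.1)
  have hOS : O ≤ (S : Subgroup G) := pCore_le_sylow S
  -- `W ≤ O_p(G)`
  have hWO : Ws ≤ O := by
    intro w hw
    have hz : Subgroup.zpowers w ≤ Ws := Subgroup.zpowers_le.mpr hw
    have hq : ⁅⁅O, Subgroup.zpowers w⁆, Subgroup.zpowers w⁆ ≤
        (frattini ↥O).map O.subtype := by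
      refine le_trans (le_of_eq ?_) bot_le
      refine le_bot_iff.mp ((Subgroup.commutator_mono ?_ hz).trans hWab.le)
      exact (Subgroup.commutator_mono hOS hz).trans (by
        rw [Subgroup.commutator_comm]; exact commutator_le_of_le_normalizer hSW)
    obtain ⟨D, hD, hKD, ⟨k, hk⟩, hwD⟩ := hst.2.1 w hq
    refine le_pCore hD ?_ hwD
    obtain ⟨l, hl⟩ := IsPGroup.iff_card.mp (isPGroup_sectionKernel hc)
    refine IsPGroup.of_card (n := l + k) ?_
    rw [pow_add, ← hl, ← hk, ← Subgroup.relIndex_bot_left, ← Subgroup.relIndex_bot_left,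
      Subgroup.relIndex_mul_relIndex _ _ _ bot_le hKD]
  set X := Subgroup.normalClosure (Ws : Set G) with hX
  have hWX : Ws ≤ X := Subgroup.le_normalClosure
  have hXO : X ≤ O := Subgroup.normalClosure_le_normal hWO
  -- an element of `S` quadratic on `W` centralizes it
  have hquad : ∀ s ∈ (S : Subgroup G),
      ⁅⁅Ws, Subgroup.zpowers s⁆, Subgroup.zpowers s⁆ = ⊥ →
      s ∈ Subgroup.centralizer (Ws : Set G) := by
    intro s hs hq
    have h1 := stableNormalClosure_centralizes (x := (⟨s, hs⟩ : (S : Subgroup G)))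
      (quadratic_of_map (S : Subgroup G).subtype (Subgroup.subtype_injective _) hq)
    rw [Subgroup.mem_centralizer_iff]
    rintro _ ⟨w, hw, rfl⟩
    exact (congrArg Subtype.val
      (Subgroup.mem_centralizer_iff.mp (h1 hw) _ (Subgroup.mem_zpowers _))).symm
  -- `X` is elementary abelian
  have hXW : X ≤ Subgroup.centralizer (Ws : Set G) := by
    rw [hX, Subgroup.normalClosure, Subgroup.closure_le]
    intro u hu
    obtain ⟨w, hw, hwu⟩ := Group.mem_conjugatesOfSet_iff.mp hu
    obtain ⟨g, rfl⟩ := isConj_iff.mp hwu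
    have huO : g * w * g⁻¹ ∈ O := (inferInstance : O.Normal).conj_mem w (hWO hw) g
    refine hquad _ (hOS huO) (quadratic_of_comm fun v hv => ?_)
    obtain ⟨w', hw', hw'e⟩ : ⁅v, g * w * g⁻¹⁆ ∈ Ws.map (MulAut.conj g).toMonoidHom := by
      have hvO : g⁻¹ * v * g ∈ (S : Subgroup G) := hOS (by
        simpa using (inferInstance : O.Normal).conj_mem v (hWO hv) g⁻¹)
      refine ⟨(g⁻¹ * v * g) * w * (g⁻¹ * v * g)⁻¹ * w⁻¹, mul_mem
        ((Subgroup.mem_normalizer_iff.mp (hSW hvO) w).mp hw) (inv_mem hw), ?_⟩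
      simp [commutatorElement_def, mul_assoc]
    rw [← hw'e]
    show MulAut.conj g w * MulAut.conj g w' = MulAut.conj g w' * MulAut.conj g w
    rw [← map_mul, ← map_mul, elemAb_comm hWea.1 hw hw']
  have hWCX : Ws ≤ Subgroup.centralizer (X : Set G) := Subgroup.le_centralizer_iff.mp hXW
  haveI hXn : X.Normal := Subgroup.normalClosure_normal
  haveI hCn : (Subgroup.centralizer (X : Set G)).Normal := Subgroup.normal_centralizer
  have hXab : IsMulCommutative X :=
    Subgroup.le_centralizer_iff_isMulCommutative.mp (Subgroup.normalClosure_le_normal hWCX)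
  have hXea : IsElementaryAbelian p X := by
    rw [hX, Subgroup.normalClosure]
    refine isElementaryAbelian_closure (fun x hx y hy => elemAb_comm hXab
      (Subgroup.subset_closure hx) (Subgroup.subset_closure hy)) fun x hx => ?_
    obtain ⟨w, hw, hwu⟩ := Group.mem_conjugatesOfSet_iff.mp hx
    obtain ⟨g, rfl⟩ := isConj_iff.mp hwu
    rw [conj_pow, hWea.2 w hw, mul_one, mul_inv_cancel]
  -- quadratic elements centralize `X`
  have hfix : ∀ a : G, ⁅⁅X, Subgroup.zpowers a⁆, Subgroup.zpowers a⁆ = ⊥ →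
      a ∈ Subgroup.centralizer (Ws : Set G) := by
    intro a ha
    have hst1 := hst.1 X hXea a ha
    have h1 := pCore_le_sylow
      (S.mapSurjective (QuotientGroup.mk'_surjective (Subgroup.centralizer (X : Set G)))) hst1
    rw [Sylow.coe_mapSurjective] at h1
    obtain ⟨s, hs, hse⟩ := h1
    have hc' : s⁻¹ * a ∈ Subgroup.centralizer (X : Set G) := QuotientGroup.eq.mp hse
    have hsq : ⁅⁅X, Subgroup.zpowers s⁆, Subgroup.zpowers s⁆ = ⊥ := by
      refine quadratic_congr (by rw [Subgroup.normalizer_eq_top_iff.mpr hXn]; trivial)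
        (fun v hv => ?_) ha
      have h2 := Subgroup.mem_centralizer_iff.mp hc' v hv
      calc a * v * a⁻¹ = s * ((s⁻¹ * a) * v) * a⁻¹ := by group
        _ = s * (v * (s⁻¹ * a)) * a⁻¹ := by rw [h2]
        _ = s * v * s⁻¹ := by group
    have h3 := hquad s hs (le_bot_iff.mp (hsq ▸
      Subgroup.commutator_mono (Subgroup.commutator_mono hWX le_rfl) le_rfl))
    simpa using mul_mem h3 (Subgroup.centralizer_le hWX hc')
  have hfix' : ∀ a : G, ⁅⁅X, Subgroup.zpowers a⁆, Subgroup.zpowers a⁆ = ⊥ →
      a ∈ Subgroup.centralizer (X : Set G) := by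
    intro a ha
    suffices h : X ≤ Subgroup.centralizer {a} from Subgroup.mem_centralizer_iff.mpr fun x hx =>
      Subgroup.mem_centralizer_singleton_iff.mp (h hx)
    rw [hX, Subgroup.normalClosure, Subgroup.closure_le]
    intro u hu
    obtain ⟨w, hw, hwu⟩ := Group.mem_conjugatesOfSet_iff.mp hu
    obtain ⟨g, rfl⟩ := isConj_iff.mp hwu
    have h4 := Subgroup.mem_centralizer_iff.mp (hfix (g⁻¹ * a * g)
      (by simpa using quadratic_conj g⁻¹ ha)) w hw
    rw [SetLike.mem_coe, Subgroup.mem_centralizer_singleton_iff]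
    calc g * w * g⁻¹ * a = g * (w * (g⁻¹ * a * g)) * g⁻¹ := by group
      _ = g * ((g⁻¹ * a * g) * w) * g⁻¹ := by rw [h4]
      _ = a * (g * w * g⁻¹) := by group
  -- `J(S) ≤ C(X)`
  set J := thompsonSubgroupOf p (S : Subgroup G) with hJ
  have hJC : J ≤ Subgroup.centralizer (X : Set G) := by
    rw [hJ, thompsonSubgroupOf_eq]
    refine sSup_le fun A hA => ?_
    have hAG := isMaxEAIn_sylow_iff S hA
    obtain ⟨-, hBq, hBne⟩ := max_replacement hXea hAG
    by_cases hXA : ⁅X, A⁆ = ⊥
    · exact Subgroup.le_centralizer_iff.mp (Subgroup.commutator_eq_bot_iff_le_centralizer.mp hXA)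
    · refine absurd ?_ (hBne hXA)
      rw [Subgroup.commutator_eq_bot_iff_le_centralizer, Subgroup.le_centralizer_iff]
      intro b hb
      refine hfix' b (le_bot_iff.mp (hBq ▸ Subgroup.commutator_mono
        (Subgroup.commutator_mono le_rfl ?_) ?_)) <;>
      exact Subgroup.zpowers_le.mpr hb
  -- `N(J(S))` normalizes `W`
  set N := Subgroup.normalizer (J : Set G) with hN
  have hSN : (S : Subgroup G) ≤ N :=
    Subgroup.le_normalizer.trans (normalizer_le_normalizer_thompsonSubgroupOf _)
  have hNW : N ≤ Subgroup.normalizer (Ws : Set G) := by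
    have hsub : N.subtype.comp (Subgroup.inclusion hSN) = (S : Subgroup G).subtype := rfl
    have hJmap : (thompsonSubgroup p ↥(S : Subgroup G)).map (Subgroup.inclusion hSN) =
        J.subgroupOf N := by
      apply Subgroup.map_injective N.subtype_injective
      rw [Subgroup.map_map, hsub, Subgroup.map_subgroupOf_eq_of_le Subgroup.le_normalizer]
      rfl
    have hemb : IsStableEmbedding p (Subgroup.inclusion hSN) := by
      refine ⟨Subgroup.inclusion_injective hSN, inferInstance, ⟨S.subtype hSN, ?_⟩, ?_, ?_, ?_⟩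
      · ext ⟨x, hx⟩
        constructor
        · intro h; exact ⟨⟨x, h⟩, rfl⟩
        · rintro ⟨t, ht⟩
          have h2 : (t : G) = x := congrArg Subtype.val ht
          show x ∈ (S : Subgroup G)
          rw [← h2]
          exact t.2
      · intro z hz
        have hON : O ≤ N := hOS.trans hSN
        have h1 : O.subgroupOf N ≤ pCore p N :=
          le_pCore inferInstance (isPGroup_pCore (p := p) (G := G)).comap_subtype
        refine h1 (hc (Subgroup.mem_centralizer_iff.mpr fun o ho => ?_))
        exact congrArg Subtype.val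
          (Subgroup.mem_centralizer_iff.mp hz ⟨o, hON ho⟩ (h1 ho))
      · rw [hJmap]; exact Subgroup.normal_in_normalizer
      · intro V _ hV
        refine hst.2.2 S V ?_
        have h2 := Subgroup.map_mono (f := N.subtype) hV
        rw [Subgroup.map_map, hsub] at h2
        exact h2
    have hn := stableNormalClosure_map_normal _ hemb
    intro g hg
    have h3 := Subgroup.le_normalizer_map N.subtype
      ⟨⟨g, hg⟩, (Subgroup.normalizer_eq_top_iff.mpr hn).ge (Subgroup.mem_top _), rfl⟩
    rw [Subgroup.map_map, hsub] at h3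
    exact h3
  -- Frattini argument
  set C := Subgroup.centralizer (X : Set G) with hCdef
  obtain ⟨W₀, hW₀⟩ := Cfsg.Agent.Transfer.exists_sylow_subgroupOf_normal S C
  have hfr := Sylow.normalizer_sup_eq_top W₀
  rw [hW₀, Subgroup.subgroupOf_map_subtype] at hfr
  rw [← Subgroup.normalizer_eq_top_iff, ← top_le_iff, ← hfr]
  refine sup_le ?_ ((Subgroup.centralizer_le hWX).trans (Subgroup.centralizer_le_normalizer _))
  refine le_trans ?_ hNW
  rw [hN, hJ, ← thompsonSubgroupOf_eq_of_le inf_le_left
    (le_inf (thompsonSubgroupOf_le _) hJC)]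
  exact normalizer_le_normalizer_thompsonSubgroupOf _

/-- In a `p`-separable group with `p ≥ 5`, `N(W(S))` supplements `O_{p'}`. -/
theorem sup_normalizer_wOf_eq_top (h5 : 5 ≤ p) (hsep : IsPSolvable p G) (S : Sylow p G) :
    pPrimeCore p G ⊔ Subgroup.normalizer (wOf p (S : Subgroup G) : Set G) = ⊤ := by
  set K := pPrimeCore p G with hK
  have hKc : (Nat.card K).Coprime p := card_pPrimeCore_coprime
  have hπs : Function.Surjective (QuotientGroup.mk' K) := QuotientGroup.mk'_surjective K
  have hsep' := isPSolvable_quotient K hsep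
  have hn := wOf_normal_of_stable (isActionPStable_of_pSolvable h5 hsep')
    (centralizer_pCore_le hsep' pPrimeCore_quotient_pPrimeCore) (S.mapSurjective hπs)
  rw [Sylow.coe_mapSurjective, ← wOf_map _ _ (injOn_mk'_of_coprime K S.isPGroup' hKc)] at hn
  refine top_le_iff.mp fun g _ => ?_
  obtain ⟨k, hk, hkg⟩ := exists_normalizer_lift K (S.isPGroup'.to_le (wOf_le (p := p) _)) hKc
    (g := g) (by rw [Subgroup.normalizer_eq_top_iff.mpr hn]; exact Subgroup.mem_top _)
  have := Subgroup.mul_mem _ (Subgroup.mem_sup_left (T := Subgroup.normalizer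
    (wOf p (S : Subgroup G) : Set G)) (K.inv_mem hk)) (Subgroup.mem_sup_right hkg)
  simpa using this

end WOf

/-- **Thompson's normal `p`-complement theorem with `W(S)`.** -/
theorem hasNormalPComplement_of_wOf [hp : Fact p.Prime] (hp2 : p ≠ 2) {G : Type u} [Group G]
    [Finite G] (S : Sylow p G)
    (hN : HasNormalPComplement p ↥(Subgroup.normalizer (wOf p (S : Subgroup G) : Set G))) :
    HasNormalPComplement p G := by
  refine PComplement.hasNormalPComplement_of_criterion
    (fun G _ _ P => HasNormalPComplement p (Subgroup.normalizer (wOf p P : Set G)))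
    ?_ ?_ ?_ ?_ ?_ G S hN
  · intro G _ _ P M hPM h
    refine Transfer.hasNormalPComplement_of_injective h
      ((M.subtype.comp (Subgroup.subtype _)).codRestrict _ fun x => ?_) ?_
    · have h1 := wOf_map (p := p) M.subtype ((P : Subgroup G).subgroupOf M)
        M.subtype_injective.injOn
      rw [Subgroup.map_subgroupOf_eq_of_le hPM] at h1
      rw [← h1]
      exact Subgroup.le_normalizer_map M.subtype ⟨x.1, x.2, rfl⟩
    · exact fun x y h => Subtype.ext (Subtype.ext (by simpa using congrArg Subtype.val h))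
  · intro G _ _ P H hH hHP hK h
    set R := (P : Subgroup G) ⊓ Subgroup.normalizer (H : Set G) with hR
    have hRb : R ≠ ⊥ := fun hb => hH (le_bot_iff.mp (hb ▸ le_inf hHP Subgroup.le_normalizer))
    have h2 := hK (wOf p R) ((wOf_le R).trans inf_le_left)
      (wOf_ne_bot P.isPGroup'.to_inf_left hRb) (normalizer_le_normalizer_wOf R)
    refine Transfer.hasNormalPComplement_of_injective h2
      (((Subgroup.normalizer (H : Set G)).subtype.comp (Subgroup.subtype _)).codRestrict _
        fun x => ?_) ?_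
    · have h1 := wOf_map (p := p) (Subgroup.normalizer (H : Set G)).subtype
        (R.subgroupOf (Subgroup.normalizer (H : Set G)))
        (Subgroup.subtype_injective _).injOn
      rw [Subgroup.map_subgroupOf_eq_of_le inf_le_right] at h1
      rw [← h1]
      exact Subgroup.le_normalizer_map _ ⟨x.1, x.2, rfl⟩
    · exact fun x y h => Subtype.ext (Subtype.ext (by simpa using congrArg Subtype.val h))
  · intro G _ _ P V _ hV hVP hK h
    set π := QuotientGroup.mk' V with hπ
    set Wb := wOf p ((P : Subgroup G).map π) with hWb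
    have hker : π.ker = V := QuotientGroup.ker_mk' V
    have hVK : V ≤ Wb.comap π := hker.ge.trans (MonoidHom.ker_le_comap π Wb)
    have hmap : (Wb.comap π).map π = Wb :=
      Subgroup.map_comap_eq_self_of_surjective (QuotientGroup.mk'_surjective V) _
    have hPb : (P : Subgroup G).map π ≠ ⊥ := by
      rw [Ne, Subgroup.map_eq_bot_iff, hker]
      exact fun h2 => hVP.ne (le_antisymm hVP.le h2)
    have hlt : V < Wb.comap π := lt_of_le_of_ne hVK fun he => wOf_ne_bot
      (P.isPGroup'.map π) hPb (by rw [← hWb, ← hmap, ← he, Subgroup.map_eq_bot_iff, hker])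
    have hKP : Wb.comap π ≤ (P : Subgroup G) := by
      refine (Subgroup.comap_mono (wOf_le _)).trans ?_
      rw [Subgroup.comap_map_eq, hker, sup_eq_left.mpr hVP.le]
    have hnorm : Subgroup.normalizer ((Wb.comap π : Subgroup G) : Set G) =
        (Subgroup.normalizer (Wb : Set (G ⧸ V))).comap π := by
      rw [Subgroup.comap_normalizer_eq_of_surjective Wb (QuotientGroup.mk'_surjective V)]
    have h2 := hK (Wb.comap π) hlt hKP (by
      rw [hnorm, ← Subgroup.map_le_iff_le_comap]
      exact Subgroup.le_normalizer.trans (normalizer_le_normalizer_wOf _))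
    rw [hnorm] at h2
    refine Transfer.hasNormalPComplement_of_surjective h2
      ((π.comp (Subgroup.subtype _)).codRestrict _ fun x => x.2) ?_
    rintro ⟨y, hy⟩
    obtain ⟨x, rfl⟩ := QuotientGroup.mk'_surjective V y
    exact ⟨⟨x, hy⟩, rfl⟩
  · intro G _ _ P N _ hN h
    set π := QuotientGroup.mk' N with hπ
    have hW : wOf p ((P : Subgroup G).map π) = (wOf p (P : Subgroup G)).map π :=
      (wOf_map π _ (injOn_mk'_of_coprime N P.isPGroup' hN)).symm
    refine Transfer.hasNormalPComplement_of_surjective h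
      ((π.comp (Subgroup.subtype _)).codRestrict _ fun x => ?_) ?_
    · rw [hW]
      exact Subgroup.le_normalizer_map π ⟨x.1, x.2, rfl⟩
    · rintro ⟨y, hy⟩
      obtain ⟨g, rfl⟩ := QuotientGroup.mk'_surjective N y
      rw [hW] at hy
      obtain ⟨k, hk, hkg⟩ := exists_normalizer_lift N (P.isPGroup'.to_le (wOf_le (p := p) _)) hN hy
      refine ⟨⟨k * g, hkg⟩, Subtype.ext ?_⟩
      show π (k * g) = π g
      rw [map_mul, hπ, QuotientGroup.mk'_apply, (QuotientGroup.eq_one_iff k).mpr hk, one_mul]
  · intro G _ _ P V K h hred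
    haveI hVn : V.Normal := hred.eq_pCore ▸ inferInstance
    have hVp : IsPGroup p V := hred.eq_pCore ▸ isPGroup_pCore
    haveI := hred.normal
    have hab : ∀ T : Sylow 2 G, IsMulCommutative T := by
      intro T
      refine Subgroup.le_centralizer_iff_isMulCommutative.mp ?_
      have hTK : (T : Subgroup G) ≤ K := by
        intro t ht
        have h1 : IsPGroup p (G ⧸ K) := by
          refine IsPGroup.of_surjective P.isPGroup'
            ((QuotientGroup.mk' K).comp (P : Subgroup G).subtype) fun y => ?_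
          obtain ⟨x, rfl⟩ := QuotientGroup.mk'_surjective K y
          have hx : x ∈ (P : Subgroup G) ⊔ K := hred.sup_eq_top ▸ Subgroup.mem_top x
          rw [← SetLike.mem_coe, Subgroup.mul_normal] at hx
          obtain ⟨a, ha, b, hb, rfl⟩ := hx
          refine ⟨⟨a, ha⟩, ?_⟩
          show QuotientGroup.mk' K a = QuotientGroup.mk' K (a * b)
          rw [map_mul, QuotientGroup.mk'_apply, QuotientGroup.mk'_apply,
            (QuotientGroup.eq_one_iff b).mpr hb, mul_one]
        obtain ⟨i, hi⟩ := h1 (QuotientGroup.mk t)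
        obtain ⟨j, hj⟩ := T.isPGroup' ⟨t, ht⟩
        rw [← QuotientGroup.eq_one_iff]
        exact pow_eq_one_iff_of_coprime_aux
          (((Nat.coprime_primes hp.out Nat.prime_two).mpr hp2).pow i j) hi
          (by rw [← QuotientGroup.mk_pow, show t ^ 2 ^ j = 1 from congrArg Subtype.val hj,
            QuotientGroup.mk_one])
      intro x hx
      rw [Subgroup.mem_centralizer_iff]
      intro y hy
      have hc := hred.comm_mem y (hTK hy) x (hTK hx)
      have hT : ⁅y, x⁆ ∈ (T : Subgroup G) := by
        rw [commutatorElement_def]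
        exact mul_mem (mul_mem (mul_mem hy hx) (inv_mem hy)) (inv_mem hx)
      obtain ⟨i, hi⟩ := hVp ⟨_, hc⟩
      obtain ⟨j, hj⟩ := T.isPGroup' ⟨_, hT⟩
      have := pow_eq_one_iff_of_coprime_aux
        (((Nat.coprime_primes hp.out Nat.prime_two).mpr hp2).pow i j)
        (congrArg Subtype.val hi : ⁅y, x⁆ ^ p ^ i = 1)
        (congrArg Subtype.val hj : ⁅y, x⁆ ^ 2 ^ j = 1)
      exact commutatorElement_eq_one_iff_mul_comm.mp this
    have hn := wOf_normal_of_stable (isActionPStable_of_abelian_sylow_two hp2 hab)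
      (hred.eq_pCore ▸ hred.centralizer_le) P
    refine hred.not_complement ((Transfer.hasNormalPComplement_congr ?_).mp h)
    exact (MulEquiv.subgroupCongr (Subgroup.normalizer_eq_top_iff.mpr hn)).trans Subgroup.topEquiv

end Cfsg.Agent.Thompson
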